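import Cfsg.Agent.Lib.AutPSL.Split
import Cfsg.Agent.Lib.AutPSL.Coset
import Cfsg.Agent.Lib.AutPSL.Predicates
import Cfsg.Agent.Lib.AutPSL.Kernel

/-!
# Involutory graph automorphisms of `PSL_n` and bilinear forms

For an invertible matrix `M` the automorphism `gx M = conjAut M⁻¹ * iotaAut` is centralised exactly by the
similarities of the bilinear form with matrix `M`, and conjugation corresponds to congruence.
-/

set_option autoImplicit false

namespace CfsgLib.GraphForms82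

open CfsgLib.AutPSL Matrix

variable {ι : Type} [Fintype ι] [DecidableEq ι] {n : ℕ} {F : Type*} [Field F]

/-- The similarities of the bilinear form with matrix `M`. -/
def simGroup (M : Matrix ι ι F) : Subgroup (GL ι F) where
  carrier := {k | ∃ c : Fˣ, (k : Matrix ι ι F)ᵀ * M * (k : Matrix ι ι F) = (c : F) • M}
  one_mem' := ⟨1, by simp⟩
  mul_mem' := by
    rintro a b ⟨c, hc⟩ ⟨d, hd⟩
    refine ⟨c * d, ?_⟩
    calc ((a * b : GL ι F) : Matrix ι ι F)ᵀ * M * ((a * b : GL ι F) : Matrix ι ι F)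
        = (b : Matrix ι ι F)ᵀ * ((a : Matrix ι ι F)ᵀ * M * (a : Matrix ι ι F)) * (b : Matrix ι ι F) := by
          simp only [Units.val_mul, transpose_mul, Matrix.mul_assoc]
      _ = (c : F) • ((b : Matrix ι ι F)ᵀ * M * (b : Matrix ι ι F)) := by
          rw [hc, Matrix.mul_smul, Matrix.smul_mul]
      _ = _ := by rw [hd, smul_smul, Units.val_mul]
  inv_mem' := by
    rintro a ⟨c, hc⟩
    refine ⟨c⁻¹, ?_⟩
    have h : (((a⁻¹ : GL ι F) : Matrix ι ι F))ᵀ * ((a : Matrix ι ι F)ᵀ * M * (a : Matrix ι ι F)) *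
        ((a⁻¹ : GL ι F) : Matrix ι ι F) = M := by
      calc _ = ((a : Matrix ι ι F) * ((a⁻¹ : GL ι F) : Matrix ι ι F))ᵀ * M *
            ((a : Matrix ι ι F) * ((a⁻¹ : GL ι F) : Matrix ι ι F)) := by
            simp only [transpose_mul, Matrix.mul_assoc]
        _ = M := by simp
    rw [hc, Matrix.mul_smul, Matrix.smul_mul] at h
    conv_rhs => rw [← h]
    rw [smul_smul, Units.val_inv_eq_inv_val, inv_mul_cancel₀ c.ne_zero, one_smul]

theorem mem_simGroup {M : Matrix ι ι F} {k : GL ι F} :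
    k ∈ simGroup M ↔ ∃ c : Fˣ, (k : Matrix ι ι F)ᵀ * M * (k : Matrix ι ι F) = (c : F) • M :=
  Iff.rfl

theorem scalar_coe (u : Fˣ) :
    ((Matrix.GeneralLinearGroup.scalar ι u : GL ι F) : Matrix ι ι F) = (u : F) • (1 : Matrix ι ι F) := by
  rw [Matrix.GeneralLinearGroup.coe_scalar, Matrix.scalar_apply, Matrix.smul_one_eq_diagonal]

theorem scalar_mul_coe (u : Fˣ) (g : GL ι F) :
    ((Matrix.GeneralLinearGroup.scalar ι u * g : GL ι F) : Matrix ι ι F) = (u : F) • (g : Matrix ι ι F) := by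
  rw [Units.val_mul, scalar_coe, Matrix.smul_mul, Matrix.one_mul]

theorem scalar_mem_simGroup (M : Matrix ι ι F) (u : Fˣ) :
    Matrix.GeneralLinearGroup.scalar ι u ∈ simGroup M := by
  refine ⟨u * u, ?_⟩
  rw [scalar_coe, transpose_smul, transpose_one, Matrix.smul_mul, Matrix.one_mul, Matrix.mul_smul,
    Matrix.mul_one, smul_smul, Units.val_mul]

theorem mem_scalars {g : GL ι F} :
    g ∈ Cfsg.Geo.scalars ι F ↔ ∃ u : Fˣ, g = Matrix.GeneralLinearGroup.scalar ι u := by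
  rw [Cfsg.Geo.mem_scalars_iff]
  refine exists_congr fun u => ?_
  rw [← scalar_coe, Units.val_inj]

theorem conjAut_eq_iff (hn : 2 ≤ n) {a b : GL (Fin n) F} :
    conjAut a = conjAut b ↔ ∃ c : Fˣ, (b : Matrix (Fin n) (Fin n) F) = (c : F) • (a : Matrix (Fin n) (Fin n) F) := by
  constructor
  · intro h
    obtain ⟨c, hc⟩ := (conjAut_eq_one_iff hn).mp (show conjAut (b * a⁻¹) = 1 by
      rw [map_mul, map_inv, ← h, mul_inv_cancel])
    refine ⟨c, ?_⟩
    rw [← scalar_mul_coe, ← hc, inv_mul_cancel_right]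
  · rintro ⟨c, hc⟩
    rw [← scalar_mul_coe, Units.val_inj] at hc
    rw [hc, map_mul, conjAut_scalar, one_mul]

/-- The graph automorphism attached to the bilinear form with matrix `M`. -/
noncomputable def gx (M : GL (Fin n) F) : MulAut (PSLG n F) := conjAut M⁻¹ * iotaAut

theorem gx_eq_iff (hn : 2 ≤ n) {M M' : GL (Fin n) F} :
    gx M = gx M' ↔ ∃ c : Fˣ, (M' : Matrix (Fin n) (Fin n) F) = (c : F) • (M : Matrix (Fin n) (Fin n) F) := by
  rw [gx, gx, mul_left_inj, map_inv, map_inv, _root_.inv_inj, conjAut_eq_iff hn]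

theorem conj_gx (k M : GL (Fin n) F) :
    conjAut k * gx M * (conjAut k)⁻¹ = gx (glIota k * M * k⁻¹) := by
  have e : glIota k⁻¹ = (glIota k)⁻¹ := eq_inv_of_mul_eq_one_left (by
    rw [← glIota_mul, inv_mul_cancel]; apply Units.ext; rw [glIota_coe]; simp)
  rw [gx, gx, ← map_inv conjAut k, mul_assoc, mul_assoc, iotaAut_mul_conjAut, ← mul_assoc, ← mul_assoc,
    ← map_mul, ← map_mul, e, _root_.mul_inv_rev, _root_.mul_inv_rev, inv_inv, mul_assoc k]

theorem glIota_mul_mul_coe (k M : GL (Fin n) F) :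
    ((glIota k * M * k⁻¹ : GL (Fin n) F) : Matrix (Fin n) (Fin n) F) =
      ((k⁻¹ : GL (Fin n) F) : Matrix (Fin n) (Fin n) F)ᵀ * (M : Matrix (Fin n) (Fin n) F) *
        ((k⁻¹ : GL (Fin n) F) : Matrix (Fin n) (Fin n) F) := by
  rw [Units.val_mul, Units.val_mul, glIota_coe]

/-- Conjugacy under `PGL_n` is congruence up to a scalar. -/
theorem isConj_gx_iff (hn : 2 ≤ n) {M M' : GL (Fin n) F} :
    Cfsg.IsConjUnder (Cfsg.inndiagPSL n F) (gx M) (gx M') ↔
      ∃ (P : GL (Fin n) F) (c : Fˣ), (P : Matrix (Fin n) (Fin n) F)ᵀ * (M : Matrix (Fin n) (Fin n) F) *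
        (P : Matrix (Fin n) (Fin n) F) = (c : F) • (M' : Matrix (Fin n) (Fin n) F) := by
  constructor
  · rintro ⟨h, hh, he⟩
    obtain ⟨k, rfl⟩ := mem_inndiag_iff.mp hh
    rw [conj_gx, gx_eq_iff hn] at he
    obtain ⟨c, hc⟩ := he
    exact ⟨k⁻¹, c, by rw [← glIota_mul_mul_coe, hc]⟩
  · rintro ⟨P, c, hc⟩
    refine ⟨conjAut P⁻¹, mem_inndiag_iff.mpr ⟨_, rfl⟩, ?_⟩
    rw [conj_gx, gx_eq_iff hn]
    refine ⟨c, ?_⟩
    rw [glIota_mul_mul_coe, inv_inv, hc]

theorem mem_centralizer_gx (hn : 2 ≤ n) {M k : GL (Fin n) F} :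
    conjAut k ∈ Subgroup.centralizer {gx M} ↔ k ∈ simGroup (M : Matrix (Fin n) (Fin n) F) := by
  have h : conjAut k ∈ Subgroup.centralizer {gx M} ↔ conjAut k * gx M * (conjAut k)⁻¹ = gx M := by
    rw [Subgroup.mem_centralizer_singleton_iff, mul_inv_eq_iff_eq_mul]
  rw [h, conj_gx, gx_eq_iff hn, ← inv_mem_iff (x := k), mem_simGroup, glIota_mul_mul_coe]
  constructor
  · rintro ⟨c, hc⟩
    refine ⟨c⁻¹, ?_⟩
    conv_rhs => rw [hc]
    rw [smul_smul, Units.val_inv_eq_inv_val, inv_mul_cancel₀ c.ne_zero, one_smul]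
  · rintro ⟨c, hc⟩
    refine ⟨c⁻¹, ?_⟩
    rw [hc, smul_smul, Units.val_inv_eq_inv_val, inv_mul_cancel₀ c.ne_zero, one_smul]

theorem isGraphAut_iff {β : MulAut (PSLG n F)} :
    Cfsg.IsGraphAutClassPSL β ↔ 3 ≤ n ∧ ∃ M : GL (Fin n) F, β = gx M := by
  constructor
  · rintro ⟨hn, δ, γ, hδ, hγ, rfl⟩
    obtain ⟨g, rfl⟩ := isInnerDiagonal_iff.mp hδ
    rw [isInverseTranspose_iff.mp hγ]
    exact ⟨hn, g⁻¹, by rw [gx, inv_inv]⟩
  · rintro ⟨hn, M, rfl⟩
    exact ⟨hn, conjAut M⁻¹, iotaAut, isInnerDiagonal_iff.mpr ⟨_, rfl⟩, isInverseTranspose_iff.mpr rfl, rfl⟩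

theorem gx_one : gx (1 : GL (Fin n) F) = iotaAut := by rw [gx, inv_one, map_one, one_mul]

theorem gx_ne_one (hn : 3 ≤ n) (M : GL (Fin n) F) : gx M ≠ 1 := by
  intro h
  refine iotaAut_ne hn M 1 ?_
  rw [map_one, mul_one]
  rw [gx, map_inv] at h
  exact (inv_mul_eq_one.mp h).symm

theorem gx_orderOf_two (hn : 3 ≤ n) {M : GL (Fin n) F} :
    orderOf (gx M) = 2 ↔ (M : Matrix (Fin n) (Fin n) F)ᵀ = M ∨
      (M : Matrix (Fin n) (Fin n) F)ᵀ = -(M : Matrix (Fin n) (Fin n) F) := by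
  have hsq : gx M * gx M = conjAut (M⁻¹ * glIota M⁻¹) := by
    rw [gx, mul_assoc, ← mul_assoc iotaAut, iotaAut_mul_conjAut, mul_assoc (conjAut (glIota M⁻¹)),
      iotaAut_sq, mul_one, ← map_mul]
  have hcoe : ((M⁻¹ * glIota M⁻¹ : GL (Fin n) F) : Matrix (Fin n) (Fin n) F) =
      ((M⁻¹ : GL (Fin n) F) : Matrix (Fin n) (Fin n) F) * (M : Matrix (Fin n) (Fin n) F)ᵀ := by
    rw [Units.val_mul, glIota_coe, inv_inv]
  rw [orderOf_eq_prime_iff, pow_two, hsq, conjAut_eq_one_iff (by omega)]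
  refine (and_iff_left (gx_ne_one hn M)).trans ⟨?_, ?_⟩
  · rintro ⟨u, hu⟩
    have h1 : (M : Matrix (Fin n) (Fin n) F)ᵀ = (u : F) • (M : Matrix (Fin n) (Fin n) F) := by
      have := congrArg (fun g : GL (Fin n) F => (M : Matrix (Fin n) (Fin n) F) * g.val) hu
      simp only [hcoe, scalar_coe, ← Matrix.mul_assoc, Matrix.mul_smul, Matrix.mul_one] at this
      rwa [← Units.val_mul, mul_inv_cancel, Units.val_one, Matrix.one_mul] at this
    have h2 : (M : Matrix (Fin n) (Fin n) F) = ((u : F) * u) • (M : Matrix (Fin n) (Fin n) F) := by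
      have := congrArg Matrix.transpose h1
      rwa [transpose_transpose, transpose_smul, h1, smul_smul] at this
    have hM0 : (M : Matrix (Fin n) (Fin n) F) ≠ 0 := by
      intro h0
      have := M.isUnit
      rw [h0, isUnit_zero_iff] at this
      exact zero_ne_one ((congrFun (congrFun this ⟨0, by omega⟩) ⟨0, by omega⟩).trans
        (Matrix.one_apply_eq _))
    have h3 : ((u : F) * u - 1) • (M : Matrix (Fin n) (Fin n) F) = 0 := by
      rw [sub_smul, one_smul, ← h2, sub_self]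
    rcases mul_self_eq_one_iff.mp (sub_eq_zero.mp ((smul_eq_zero.mp h3).resolve_right hM0)) with h | h
    · exact Or.inl (by rw [h1, h, one_smul])
    · exact Or.inr (by rw [h1, h, neg_smul, one_smul])
  · rintro (h | h)
    · refine ⟨1, Units.ext ?_⟩
      rw [hcoe, h, ← Units.val_mul, inv_mul_cancel, map_one]
    · refine ⟨-1, Units.ext ?_⟩
      rw [hcoe, h, Matrix.mul_neg, ← Units.val_mul, inv_mul_cancel, scalar_coe]
      simp

/-- The centralizer of `gx M` as the image of any group surjecting on the similarities up to scalars. -/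
theorem centralizer_equiv (hn : 2 ≤ n) (M : GL (Fin n) F) {Q : Type*} [Group Q] (φ : Q →* GL (Fin n) F)
    (N : Subgroup Q) [N.Normal] (h1 : ∀ q, φ q ∈ simGroup (M : Matrix (Fin n) (Fin n) F))
    (h2 : ∀ k ∈ simGroup (M : Matrix (Fin n) (Fin n) F), ∃ q, ∃ u : Fˣ,
      φ q = Matrix.GeneralLinearGroup.scalar (Fin n) u * k)
    (h3 : ∀ q, q ∈ N ↔ ∃ u : Fˣ, φ q = Matrix.GeneralLinearGroup.scalar (Fin n) u) :
    Nonempty (↥(Cfsg.inndiagPSL n F ⊓ Subgroup.centralizer {gx M}) ≃* Q ⧸ N) := by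
  let f : Q →* ↥(Cfsg.inndiagPSL n F ⊓ Subgroup.centralizer {gx M}) :=
    (conjAut.comp φ).codRestrict _ fun q =>
      ⟨mem_inndiag_iff.mpr ⟨_, rfl⟩, (mem_centralizer_gx hn).mpr (h1 q)⟩
  have hker : f.ker = N := by
    ext q
    rw [MonoidHom.mem_ker, h3, ← conjAut_eq_one_iff hn]
    exact ⟨fun h => congrArg Subtype.val h, fun h => Subtype.ext h⟩
  have hsurj : Function.Surjective f := by
    rintro ⟨β, hβ⟩
    obtain ⟨k, rfl⟩ := mem_inndiag_iff.mp hβ.1
    obtain ⟨q, u, hq⟩ := h2 k ((mem_centralizer_gx hn).mp hβ.2)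
    refine ⟨q, Subtype.ext ?_⟩
    show conjAut (φ q) = conjAut k
    rw [hq, map_mul, conjAut_scalar, one_mul]
  exact ⟨((QuotientGroup.quotientMulEquivOfEq hker.symm).trans
    (QuotientGroup.quotientKerEquivOfSurjective f hsurj)).symm⟩

/-- Renaming the index set of invertible matrices. -/
noncomputable def glReindex (e : ι ≃ Fin n) : GL ι F ≃* GL (Fin n) F :=
  Units.mapEquiv (Matrix.reindexAlgEquiv F F e).toMulEquiv

theorem glReindex_coe (e : ι ≃ Fin n) (k : GL ι F) :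
    (glReindex e k : Matrix (Fin n) (Fin n) F) = Matrix.reindex e e (k : Matrix ι ι F) := rfl

theorem reindex_mul (e : ι ≃ Fin n) (A B : Matrix ι ι F) :
    Matrix.reindex e e (A * B) = Matrix.reindex e e A * Matrix.reindex e e B := by
  simp [Matrix.submatrix_mul_equiv]

theorem reindex_smul (e : ι ≃ Fin n) (c : F) (A : Matrix ι ι F) :
    Matrix.reindex e e (c • A) = c • Matrix.reindex e e A := rfl

theorem glReindex_mem_simGroup (e : ι ≃ Fin n) (M : Matrix ι ι F) (k : GL ι F) :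
    glReindex e k ∈ simGroup (Matrix.reindex e e M) ↔ k ∈ simGroup M := by
  have hT : ∀ A : Matrix ι ι F, (Matrix.reindex e e A)ᵀ = Matrix.reindex e e Aᵀ := fun A =>
    Matrix.transpose_reindex e e A
  refine exists_congr fun c => ?_
  rw [glReindex_coe, hT, ← reindex_mul, ← reindex_mul, ← reindex_smul, EmbeddingLike.apply_eq_iff_eq]

theorem glReindex_scalar (e : ι ≃ Fin n) (u : Fˣ) :
    glReindex e (Matrix.GeneralLinearGroup.scalar ι u) = Matrix.GeneralLinearGroup.scalar (Fin n) u := by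
  apply Units.ext
  rw [glReindex_coe, scalar_coe, scalar_coe, reindex_smul]
  congr 1
  simp

theorem glReindex_scalar_iff (e : ι ≃ Fin n) (k : GL ι F) :
    k ∈ Cfsg.Geo.scalars ι F ↔
      ∃ u : Fˣ, glReindex e k = Matrix.GeneralLinearGroup.scalar (Fin n) u := by
  rw [mem_scalars]
  refine exists_congr fun u => ?_
  rw [← glReindex_scalar e u, EmbeddingLike.apply_eq_iff_eq]

/-- The centralizer of the graph automorphism of a model form is its projective similarity group. -/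
theorem centralizer_equiv_model (hn : 2 ≤ n) (e : ι ≃ Fin n) {M : GL (Fin n) F} {M₀ : Matrix ι ι F}
    (hM : (M : Matrix (Fin n) (Fin n) F) = Matrix.reindex e e M₀) (Q : Subgroup (GL ι F))
    (hQ : ∀ k, k ∈ Q ↔ k ∈ simGroup M₀) :
    Nonempty (↥(Cfsg.inndiagPSL n F ⊓ Subgroup.centralizer {gx M}) ≃* Cfsg.projQuot Q) := by
  haveI : ((Cfsg.Geo.scalars ι F).subgroupOf Q).Normal := by
    refine ⟨fun x hx g => ?_⟩
    rw [Subgroup.mem_subgroupOf, mem_scalars] at hx ⊢
    obtain ⟨u, hu⟩ := hx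
    refine ⟨u, ?_⟩
    have hc : (g : GL ι F) * Matrix.GeneralLinearGroup.scalar ι u =
        Matrix.GeneralLinearGroup.scalar ι u * (g : GL ι F) := by
      apply Units.ext
      rw [scalar_mul_coe, Units.val_mul, scalar_coe, Matrix.mul_smul, Matrix.mul_one]
    rw [Subgroup.coe_mul, Subgroup.coe_mul, Subgroup.coe_inv, hu, hc, mul_inv_cancel_right]
  refine centralizer_equiv hn M ((glReindex e).toMonoidHom.comp Q.subtype) _ (fun q => ?_)
    (fun k hk => ?_) fun q => ?_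
  · rw [hM]
    exact (glReindex_mem_simGroup e M₀ _).mpr ((hQ _).mp q.2)
  · obtain ⟨k, rfl⟩ := (glReindex e).surjective k
    rw [hM, glReindex_mem_simGroup] at hk
    exact ⟨⟨k, (hQ k).mpr hk⟩, 1, by rw [map_one, one_mul]; rfl⟩
  · rw [Subgroup.mem_subgroupOf]
    exact glReindex_scalar_iff e _

/-- Conjugate graph automorphisms have isomorphic centralizers. -/
theorem centralizer_equiv_of_isConj {x y : MulAut (PSLG n F)}
    (h : Cfsg.IsConjUnder (Cfsg.inndiagPSL n F) x y) {X : Type*} [Group X]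
    (hx : Nonempty (↥(Cfsg.inndiagPSL n F ⊓ Subgroup.centralizer {x}) ≃* X)) :
    Nonempty (↥(Cfsg.inndiagPSL n F ⊓ Subgroup.centralizer {y}) ≃* X) := by
  obtain ⟨a, ha, rfl⟩ := h
  exact hx.map fun E => (CfsgLib.Split.centralizerConj ha).symm.trans E

/-- The number of classes into which a graph class splits. -/
theorem splitClassCount_gx (hn : 2 ≤ n) (M : GL (Fin n) F) :
    Cfsg.splitClassCount (Cfsg.inndiagPSL n F) (Cfsg.Inn (PSLG n F)) (gx M) =
      ((powMonoidHom n : Fˣ →* Fˣ).range ⊔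
        (simGroup (M : Matrix (Fin n) (Fin n) F)).map Matrix.GeneralLinearGroup.det).index := by
  haveI : Nonempty (Fin n) := ⟨⟨0, by omega⟩⟩
  rw [CfsgLib.Split.splitClassCount_eq_index (conjAut : GL (Fin n) F →* _)
        Matrix.GeneralLinearGroup.det Matrix.GeneralLinearGroup.det_surjective _ inndiag_eq_range
        inner_eq_map]
  congr 3
  ext k
  exact mem_centralizer_gx hn

theorem simGroup_det {M : GL (Fin n) F} {k : GL (Fin n) F} {c : Fˣ}
    (hc : (k : Matrix (Fin n) (Fin n) F)ᵀ * (M : Matrix (Fin n) (Fin n) F) * (k : Matrix (Fin n) (Fin n) F) =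
      (c : F) • (M : Matrix (Fin n) (Fin n) F)) :
    Matrix.GeneralLinearGroup.det k ^ 2 = c ^ n := by
  apply Units.ext
  have hM : (M : Matrix (Fin n) (Fin n) F).det ≠ 0 :=
    ((Matrix.isUnit_iff_isUnit_det _).mp M.isUnit).ne_zero
  have h := congrArg Matrix.det hc
  rw [det_mul, det_mul, det_transpose, det_smul, Fintype.card_fin] at h
  rw [Units.val_pow_eq_pow_val, Units.val_pow_eq_pow_val, Matrix.GeneralLinearGroup.val_det_apply, pow_two]
  exact mul_right_cancel₀ hM (by linear_combination h)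

end CfsgLib.GraphForms82
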