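import Cfsg.Agent.Lib.H82.GraphOdd
import Cfsg.Agent.Lib.ClassicalGroups.OrthCard
import Cfsg.Agent.Lib.Sp.Card

/-!
# Splitting of the classes of involutory graph automorphisms
-/

set_option autoImplicit false

namespace CfsgLib.GraphForms82

open CfsgLib.AutPSL Matrix CfsgLib.OrthUnipotent

variable {ι : Type} [Fintype ι] [DecidableEq ι] {n m : ℕ} {F : Type*} [Field F]

theorem splitClassCount_of_isConj {x y : MulAut (PSLG n F)}
    (h : Cfsg.IsConjUnder (Cfsg.inndiagPSL n F) x y) :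
    Cfsg.splitClassCount (Cfsg.inndiagPSL n F) (Cfsg.Inn (PSLG n F)) y =
      Cfsg.splitClassCount (Cfsg.inndiagPSL n F) (Cfsg.Inn (PSLG n F)) x := by
  obtain ⟨a, ha, rfl⟩ := h
  exact CfsgLib.Split.splitClassCount_conj ha

theorem index_range_pow [Fintype F] (m : ℕ) :
    ((powMonoidHom m : Fˣ →* Fˣ).range).index = Nat.gcd m (Fintype.card F - 1) := by
  classical
  rw [IsCyclic.index_powMonoidHom_range, Nat.card_eq_fintype_card, Fintype.card_units, Nat.gcd_comm]

/-- If every similarity has determinant an `n`-th power the class splits into `gcd(n, q-1)` classes. -/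
theorem split_of_det_pow [Fintype F] (hn : 2 ≤ n) (M : GL (Fin n) F)
    (h : ∀ k ∈ simGroup (M : Matrix (Fin n) (Fin n) F),
      Matrix.GeneralLinearGroup.det k ∈ (powMonoidHom n : Fˣ →* Fˣ).range) :
    Cfsg.splitClassCount (Cfsg.inndiagPSL n F) (Cfsg.Inn (PSLG n F)) (gx M) =
      Nat.gcd n (Fintype.card F - 1) := by
  rw [splitClassCount_gx hn, sup_eq_left.mpr (Subgroup.map_le_iff_le_comap.mpr h), index_range_pow]

theorem det_pow_of_odd (hodd : Odd n) {M k : GL (Fin n) F} (hk : k ∈ simGroup (M : Matrix (Fin n) (Fin n) F)) :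
    Matrix.GeneralLinearGroup.det k ∈ (powMonoidHom n : Fˣ →* Fˣ).range := by
  obtain ⟨c, hc⟩ := hk
  obtain ⟨l, rfl⟩ := hodd
  have h := simGroup_det hc
  obtain ⟨d, hd⟩ : ∃ d, d = Matrix.GeneralLinearGroup.det k := ⟨_, rfl⟩
  rw [← hd] at h ⊢
  obtain ⟨e, he⟩ : ∃ e, e = d / c ^ l := ⟨_, rfl⟩
  refine ⟨e, ?_⟩
  have h2 : e ^ 2 = c := by
    rw [he, div_pow, h, ← pow_mul, div_eq_iff_eq_mul, ← pow_succ', mul_comm l]
  show e ^ (2 * l + 1) = d
  rw [pow_succ, pow_mul, h2, he, mul_div_cancel]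

theorem det_pow_of_charTwo [Finite F] [CharP F 2] {M k : GL (Fin n) F}
    (hk : k ∈ simGroup (M : Matrix (Fin n) (Fin n) F)) :
    Matrix.GeneralLinearGroup.det k ∈ (powMonoidHom n : Fˣ →* Fˣ).range := by
  obtain ⟨c, hc⟩ := hk
  have h := congrArg Units.val (simGroup_det hc)
  rw [Units.val_pow_eq_pow_val, Units.val_pow_eq_pow_val] at h
  obtain ⟨s, hs⟩ : ∃ s : Fˣ, (s : F) ^ 2 = (c : F) :=
    ⟨Units.mk0 ((frobeniusEquiv F 2).symm (c : F)) (fun e => c.ne_zero (by
      rw [← frobeniusEquiv_symm_pow_p F 2 (c : F), e, zero_pow two_ne_zero])),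
      frobeniusEquiv_symm_pow_p F 2 _⟩
  refine ⟨s, Units.ext (CharTwo.sq_inj.mp ?_)⟩
  rw [h, ← hs, powMonoidHom_apply, Units.val_pow_eq_pow_val, ← pow_mul, ← pow_mul, mul_comm]

/-- The similarity multiplying the standard alternating form by `c`. -/
noncomputable def dScale (m : ℕ) (c : Fˣ) : GL (Fin m ⊕ Fin m) F :=
  Matrix.GeneralLinearGroup.mkOfDetNeZero (fromBlocks ((c : F) • 1) 0 0 1)
    (by rw [det_fromBlocks_zero₂₁, det_smul, det_one]; simp)

theorem dScale_coe (c : Fˣ) :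
    (dScale m c : Matrix (Fin m ⊕ Fin m) (Fin m ⊕ Fin m) F) = fromBlocks ((c : F) • 1) 0 0 1 := rfl

theorem dScale_det (c : Fˣ) : (dScale m c : Matrix (Fin m ⊕ Fin m) (Fin m ⊕ Fin m) F).det = (c : F) ^ m := by
  rw [dScale_coe, det_fromBlocks_zero₂₁, det_smul, det_one, Fintype.card_fin, mul_one, mul_one]

theorem dScale_sim (c : Fˣ) :
    (dScale m c : Matrix (Fin m ⊕ Fin m) (Fin m ⊕ Fin m) F)ᵀ * Matrix.J (Fin m) F *
      (dScale m c : Matrix (Fin m ⊕ Fin m) (Fin m ⊕ Fin m) F) = (c : F) • Matrix.J (Fin m) F := by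
  rw [dScale_coe, Matrix.J, fromBlocks_transpose, fromBlocks_multiply, fromBlocks_multiply, fromBlocks_smul]
  congr 1 <;> ext i j <;> simp

theorem det_simGroup_J {k : GL (Fin m ⊕ Fin m) F} {c : Fˣ}
    (hc : (k : Matrix (Fin m ⊕ Fin m) (Fin m ⊕ Fin m) F)ᵀ * Matrix.J (Fin m) F *
      (k : Matrix (Fin m ⊕ Fin m) (Fin m ⊕ Fin m) F) = (c : F) • Matrix.J (Fin m) F) :
    (k : Matrix (Fin m ⊕ Fin m) (Fin m ⊕ Fin m) F).det = (c : F) ^ m := by
  obtain ⟨d, hd⟩ : ∃ d, d = ((dScale m c)⁻¹ * k : GL (Fin m ⊕ Fin m) F) := ⟨_, rfl⟩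
  obtain ⟨c', hc'⟩ := Subgroup.mul_mem _ (Subgroup.inv_mem (simGroup (Matrix.J (Fin m) F)) ⟨c, dScale_sim c⟩)
    (show k ∈ simGroup (Matrix.J (Fin m) F) from ⟨c, hc⟩)
  have hk : k = dScale m c * d := by rw [hd, mul_inv_cancel_left]
  rw [← hd] at hc'
  have hsp : (d : Matrix (Fin m ⊕ Fin m) (Fin m ⊕ Fin m) F) ∈ Matrix.symplecticGroup (Fin m) F := by
    rw [SymplecticGroup.mem_iff']
    rw [hk, Units.val_mul, transpose_mul] at hc
    have e : (d : Matrix (Fin m ⊕ Fin m) (Fin m ⊕ Fin m) F)ᵀ *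
        ((dScale m c : Matrix (Fin m ⊕ Fin m) (Fin m ⊕ Fin m) F)ᵀ * Matrix.J (Fin m) F *
          (dScale m c : Matrix (Fin m ⊕ Fin m) (Fin m ⊕ Fin m) F)) * (d : Matrix (Fin m ⊕ Fin m) (Fin m ⊕ Fin m) F) =
        (c : F) • Matrix.J (Fin m) F := by
      rw [← hc]; simp only [Matrix.mul_assoc]
    rw [dScale_sim, Matrix.mul_smul, Matrix.smul_mul] at e
    exact (smul_right_injective _ c.ne_zero) e
  rw [hk, Units.val_mul, det_mul, dScale_det, SymplecticGroup.det_eq_one hsp, mul_one]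

/-- The symplectic class splits into `gcd(n/2, q-1)` classes. -/
theorem split_jMat [Fintype F] (hn : 2 ≤ n) (hnm : n = 2 * m) (e : Fin m ⊕ Fin m ≃ Fin n) :
    Cfsg.splitClassCount (Cfsg.inndiagPSL n F) (Cfsg.Inn (PSLG n F)) (gx (jMat (F := F) e)) =
      Nat.gcd m (Fintype.card F - 1) := by
  have hle : (powMonoidHom n : Fˣ →* Fˣ).range ≤ (powMonoidHom m : Fˣ →* Fˣ).range := by
    rintro _ ⟨u, rfl⟩
    exact ⟨u ^ 2, by rw [powMonoidHom_apply, powMonoidHom_apply, ← pow_mul, hnm]⟩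
  have hmap : (simGroup ((jMat (F := F) e : GL (Fin n) F) : Matrix (Fin n) (Fin n) F)).map
      Matrix.GeneralLinearGroup.det = (powMonoidHom m : Fˣ →* Fˣ).range := by
    rw [jMat_coe]
    apply le_antisymm
    · rintro _ ⟨k, hk, rfl⟩
      obtain ⟨k₀, rfl⟩ := (glReindex e).surjective k
      obtain ⟨c, hc⟩ := (glReindex_mem_simGroup e _ k₀).mp hk
      refine ⟨c, Units.ext ?_⟩
      rw [powMonoidHom_apply, Units.val_pow_eq_pow_val, Matrix.GeneralLinearGroup.val_det_apply, glReindex_coe,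
        det_reindex_self, det_simGroup_J hc]
    · rintro _ ⟨c, rfl⟩
      refine ⟨glReindex e (dScale m c), (glReindex_mem_simGroup e _ _).mpr ⟨c, dScale_sim c⟩, Units.ext ?_⟩
      rw [powMonoidHom_apply, Units.val_pow_eq_pow_val, Matrix.GeneralLinearGroup.val_det_apply, glReindex_coe,
        det_reindex_self, dScale_det]
  rw [splitClassCount_gx hn, hmap, sup_eq_right.mpr hle, index_range_pow]

/-- A symmetric class in even degree splits into `gcd(n, q-1)/2` classes. -/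
theorem split_sym [Fintype F] (hn : 2 ≤ n) (h2 : (2 : F) ≠ 0) (hnm : n = 2 * m) {M : GL (Fin n) F}
    (hM : (M : Matrix (Fin n) (Fin n) F)ᵀ = M) :
    Cfsg.splitClassCount (Cfsg.inndiagPSL n F) (Cfsg.Inn (PSLG n F)) (gx M) =
      Nat.gcd n (Fintype.card F - 1) / 2 := by
  classical
  have hM0 : (M : Matrix (Fin n) (Fin n) F).det ≠ 0 :=
    ((Matrix.isUnit_iff_isUnit_det _).mp M.isUnit).ne_zero
  let i0 : Fin n := ⟨0, by omega⟩
  let D : GL (Fin n) F := Matrix.GeneralLinearGroup.mkOfDetNeZero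
    (diagonal (Function.update 1 i0 (M : Matrix (Fin n) (Fin n) F).det))
    (by rw [det_diagonal, Finset.prod_update_of_mem (Finset.mem_univ _)]; simpa using hM0)
  have hDc : (D : Matrix (Fin n) (Fin n) F) =
      diagonal (Function.update 1 i0 (M : Matrix (Fin n) (Fin n) F).det) := rfl
  have hDd : (D : Matrix (Fin n) (Fin n) F).det = (M : Matrix (Fin n) (Fin n) F).det := by
    rw [hDc, det_diagonal, Finset.prod_update_of_mem (Finset.mem_univ _)]; simp
  have hDt : (D : Matrix (Fin n) (Fin n) F)ᵀ = D := by rw [hDc, diagonal_transpose]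
  rw [← splitClassCount_of_isConj (isConj_of_isSquare hn h2 hM hDt ⟨_, congrArg (· * _) hDd⟩),
    splitClassCount_gx hn]
  have hneg : (-1 : Fˣ) ∈ (simGroup (D : Matrix (Fin n) (Fin n) F)).map Matrix.GeneralLinearGroup.det := by
    refine ⟨Matrix.GeneralLinearGroup.mkOfDetNeZero (diagonal (Function.update 1 i0 (-1)))
      (by rw [det_diagonal, Finset.prod_update_of_mem (Finset.mem_univ _)]; simp), ⟨1, ?_⟩, Units.ext ?_⟩
    · show (diagonal (Function.update 1 i0 (-1)))ᵀ * _ * diagonal (Function.update 1 i0 (-1)) = _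
      rw [hDc, diagonal_transpose, diagonal_mul_diagonal, diagonal_mul_diagonal, Units.val_one, one_smul]
      congr 1
      funext i
      by_cases hi : i = i0 <;> simp [hi]
    · show (diagonal (Function.update 1 i0 (-1 : F))).det = _
      rw [det_diagonal, Finset.prod_update_of_mem (Finset.mem_univ _)]; simp
  have key : (powMonoidHom n : Fˣ →* Fˣ).range ⊔
      (simGroup (D : Matrix (Fin n) (Fin n) F)).map Matrix.GeneralLinearGroup.det =
      (powMonoidHom m : Fˣ →* Fˣ).range ⊔ Subgroup.zpowers (-1) := by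
    have hsign : ∀ {k : GL (Fin n) F} {c : Fˣ},
        (k : Matrix (Fin n) (Fin n) F)ᵀ * (D : Matrix (Fin n) (Fin n) F) * (k : Matrix (Fin n) (Fin n) F) =
          (c : F) • (D : Matrix (Fin n) (Fin n) F) →
        Matrix.GeneralLinearGroup.det k = c ^ m ∨ Matrix.GeneralLinearGroup.det k = -(c ^ m) := by
      intro k c hc
      have h := simGroup_det hc
      rw [show c ^ n = (c ^ m) ^ 2 by rw [← pow_mul, mul_comm m, ← hnm]] at h
      have he := congrArg Units.val h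
      rw [Units.val_pow_eq_pow_val, Units.val_pow_eq_pow_val (c ^ m) 2] at he
      rcases sq_eq_sq_iff_eq_or_eq_neg.mp he with h' | h'
      · exact Or.inl (Units.ext h')
      · exact Or.inr (Units.ext (by rw [Units.val_neg]; exact h'))
    apply le_antisymm
    · refine sup_le ?_ ?_
      · rintro _ ⟨u, rfl⟩
        exact Subgroup.mem_sup_left ⟨u ^ 2, by rw [powMonoidHom_apply, powMonoidHom_apply, ← pow_mul, hnm]⟩
      · rintro _ ⟨k, ⟨c, hc⟩, rfl⟩
        rcases hsign hc with h | h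
        · exact Subgroup.mem_sup_left ⟨c, h.symm⟩
        · rw [h, show -(c ^ m) = c ^ m * (-1) from (mul_neg_one _).symm]
          exact Subgroup.mul_mem_sup (show c ^ m ∈ (powMonoidHom m : Fˣ →* Fˣ).range from ⟨c, rfl⟩) (Subgroup.mem_zpowers _)
    · refine sup_le ?_ ((Subgroup.zpowers_le.mpr hneg).trans le_sup_right)
      rintro _ ⟨c, rfl⟩
      have hcd : (Matrix.GeneralLinearGroup.scalar (Fin n) c * D : GL (Fin n) F).val.det =
          (c : F) ^ n * (D : Matrix (Fin n) (Fin n) F).det := by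
        rw [scalar_mul_coe, det_smul, Fintype.card_fin]
      obtain ⟨P, hP⟩ := exists_congr_sym h2
        (M := Matrix.GeneralLinearGroup.scalar (Fin n) c * D) (M' := D)
        (by rw [scalar_mul_coe, transpose_smul, hDt]) hDt
        ⟨(c : F) ^ m * (D : Matrix (Fin n) (Fin n) F).det, by rw [hcd, show (c : F) ^ n = ((c : F) ^ m) ^ 2 by rw [← pow_mul, mul_comm m, ← hnm]]; ring⟩
      rw [scalar_mul_coe] at hP
      have hmem : Matrix.GeneralLinearGroup.det P ∈
          (simGroup (D : Matrix (Fin n) (Fin n) F)).map Matrix.GeneralLinearGroup.det := ⟨P, ⟨c, hP⟩, rfl⟩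
      refine Subgroup.mem_sup_right ?_
      rw [powMonoidHom_apply]
      rcases hsign hP with h | h
      · exact h ▸ hmem
      · have := Subgroup.mul_mem _ hmem hneg
        rwa [h, mul_neg_one, neg_neg] at this
  rw [key, CfsgLib.Split.index_pow_sup]
  have hord : Nat.card (Subgroup.zpowers (-1 : Fˣ)) = 2 := by
    rw [Nat.card_zpowers, orderOf_eq_prime_iff]
    refine ⟨neg_one_sq, fun h => h2 ?_⟩
    have := congrArg Units.val h
    rw [Units.val_neg, Units.val_one] at this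
    linear_combination -this
  have hidx := (Subgroup.zpowers (-1 : Fˣ)).card_mul_index
  rw [hord, Nat.card_eq_fintype_card, Fintype.card_units] at hidx
  rw [← hidx, hnm, Nat.gcd_mul_left, Nat.mul_div_cancel_left _ two_pos]

theorem card_projQuot [Fintype F] [Nonempty ι] (Q : Subgroup (GL ι F)) (hQ : Cfsg.Geo.scalars ι F ≤ Q) :
    Nat.card (Cfsg.projQuot Q) * (Fintype.card F - 1) = Nat.card Q := by
  classical
  have h : Nat.card ((Cfsg.Geo.scalars ι F).subgroupOf Q) = Fintype.card F - 1 := by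
    rw [Nat.card_congr (Subgroup.subgroupOfEquivOfLe hQ).toEquiv, ← Fintype.card_units, ← Nat.card_eq_fintype_card]
    refine (Nat.card_congr (Equiv.ofBijective
      (fun u : Fˣ => (⟨Matrix.GeneralLinearGroup.scalar ι u, mem_scalars.mpr ⟨u, rfl⟩⟩ : Cfsg.Geo.scalars ι F))
      ⟨fun u v huv => ?_, fun g => ?_⟩)).symm
    · have := congrArg (fun g : Cfsg.Geo.scalars ι F => ((g : GL ι F) : Matrix ι ι F)
        (Classical.arbitrary ι) (Classical.arbitrary ι)) huv
      exact Units.ext (by simpa [scalar_coe] using this)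
    · obtain ⟨u, hu⟩ := mem_scalars.mp g.2
      exact ⟨u, Subtype.ext hu.symm⟩
  rw [← h]
  exact ((Cfsg.Geo.scalars ι F).subgroupOf Q).card_eq_card_quotient_mul_card_subgroup.symm

theorem card_sim [Fintype F] [Nonempty ι] {M : GL ι F}
    (hsurj : ∀ c : Fˣ, ∃ P : GL ι F,
      (P : Matrix ι ι F)ᵀ * (M : Matrix ι ι F) * (P : Matrix ι ι F) = (c : F) • (M : Matrix ι ι F)) :
    Nat.card (simGroup (M : Matrix ι ι F)) = (Fintype.card F - 1) *
      Nat.card {k : GL ι F // (k : Matrix ι ι F)ᵀ * (M : Matrix ι ι F) * (k : Matrix ι ι F) = M} := by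
  classical
  choose P hP using hsurj
  have hPk : ∀ (c : Fˣ) (k : GL ι F), ((P c * k : GL ι F) : Matrix ι ι F)ᵀ * (M : Matrix ι ι F) *
      ((P c * k : GL ι F) : Matrix ι ι F) =
      (c : F) • ((k : Matrix ι ι F)ᵀ * (M : Matrix ι ι F) * (k : Matrix ι ι F)) := by
    intro c k
    calc _ = (k : Matrix ι ι F)ᵀ * ((P c : Matrix ι ι F)ᵀ * (M : Matrix ι ι F) * (P c : Matrix ι ι F)) *
          (k : Matrix ι ι F) := by simp only [Units.val_mul, transpose_mul, Matrix.mul_assoc]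
      _ = _ := by rw [hP, Matrix.mul_smul, Matrix.smul_mul]
  have hM0 : (M : Matrix ι ι F) ≠ 0 := by
    intro h0
    exact ((Matrix.isUnit_iff_isUnit_det _).mp M.isUnit).ne_zero (by rw [h0, Matrix.det_zero])
  rw [← Fintype.card_units, ← Nat.card_eq_fintype_card, ← Nat.card_prod]
  refine (Nat.card_congr (Equiv.ofBijective
    (fun p : Fˣ × {k : GL ι F // (k : Matrix ι ι F)ᵀ * (M : Matrix ι ι F) * (k : Matrix ι ι F) = M} =>
      (⟨P p.1 * p.2.1, p.1, by rw [hPk, p.2.2]⟩ : simGroup (M : Matrix ι ι F))) ⟨?_, ?_⟩)).symm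
  · rintro ⟨c, k, hk⟩ ⟨c', k', hk'⟩ h
    have h' : P c * k = P c' * k' := congrArg Subtype.val h
    have h1 := hPk c k
    rw [h', hPk, hk, hk'] at h1
    obtain rfl : c' = c := Units.ext (smul_left_injective F hM0 h1)
    obtain rfl := mul_left_cancel h'
    rfl
  · rintro ⟨g, c, hc⟩
    have h : ((P c)⁻¹ * g : GL ι F).valᵀ * (M : Matrix ι ι F) * ((P c)⁻¹ * g : GL ι F).val = M := by
      have h1 := hPk c ((P c)⁻¹ * g)
      rw [mul_inv_cancel_left, hc] at h1
      exact ((smul_right_injective (Matrix ι ι F) c.ne_zero) h1).symm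
    exact ⟨(c, ⟨_, h⟩), Subtype.ext (mul_inv_cancel_left _ _)⟩

theorem card_GSp [Fintype F] (hm : 1 ≤ m) :
    Nat.card (Cfsg.GSp m F) = (Fintype.card F - 1) * Nat.card (Matrix.symplecticGroup (Fin m) F) := by
  haveI : Nonempty (Fin m) := ⟨⟨0, hm⟩⟩
  let J₀ : GL (Fin m ⊕ Fin m) F := Matrix.GeneralLinearGroup.mkOfDetNeZero (Matrix.J (Fin m) F)
    (Matrix.isUnit_det_J (Fin m) F).ne_zero
  have h := card_sim (M := J₀) fun c => ⟨dScale m c, dScale_sim c⟩
  rw [Nat.card_congr (Equiv.subtypeEquivRight mem_GSp_iff)]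
  refine h.trans ?_
  congr 1
  refine Nat.card_congr (Equiv.ofBijective (fun k => ⟨k.1.1, SymplecticGroup.mem_iff'.mpr k.2⟩) ⟨?_, ?_⟩)
  · intro a b hab
    exact Subtype.ext (Units.ext (congrArg Subtype.val hab))
  · rintro ⟨A, hA⟩
    exact ⟨⟨Matrix.GeneralLinearGroup.mkOfDetNeZero A (by
      rw [SymplecticGroup.det_eq_one hA]; exact one_ne_zero), SymplecticGroup.mem_iff'.mp hA⟩, rfl⟩

theorem card_quadSim [Fintype F] [Nonempty ι] (h2 : (2 : F) ≠ 0) (Q : QuadraticForm F (ι → F))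
    (hQ : Q.polarBilin.Nondegenerate) {l : ℕ} (hl : Fintype.card ι = 2 * l) :
    Nat.card (Cfsg.Geo.quadSimilarityGroup (⇑Q)) =
      (Fintype.card F - 1) * Nat.card (Cfsg.isometryGroup F (⇑Q)) := by
  let G₀ : GL ι F := Matrix.GeneralLinearGroup.mkOfDetNeZero (CfsgLib.QuadFin.gram (⇑Q))
    (CfsgLib.QuadFin.gram_det_ne_zero Q hQ)
  have hG : (G₀ : Matrix ι ι F) = CfsgLib.QuadFin.gram (⇑Q) := rfl
  have h := card_sim (M := G₀) fun c => by
    obtain ⟨P, hP⟩ := exists_congr_sym h2 (M := Matrix.GeneralLinearGroup.scalar ι c * G₀) (M' := G₀)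
      (by rw [scalar_mul_coe, transpose_smul, hG, gram_symm]) (by rw [hG, gram_symm])
      ⟨(c : F) ^ l * (G₀ : Matrix ι ι F).det, by rw [scalar_mul_coe, det_smul, hl]; ring⟩
    exact ⟨P, by rw [hP, scalar_mul_coe]⟩
  rw [Nat.card_congr (Equiv.subtypeEquivRight (mem_quadSim_iff h2 Q))]
  refine h.trans ?_
  congr 1
  refine Nat.card_congr (Equiv.subtypeEquivRight fun k => ?_)
  rw [CfsgLib.ClassicalGroups.mem_isometryGroup_iff, hG]
  constructor
  · intro hk v
    refine mul_left_cancel₀ h2 ?_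
    rw [two_mul_quad, bil_comp, hk, ← two_mul_quad]
  · intro hk
    refine matrix_eq_of_bil fun u v => ?_
    rw [← bil_comp, ← polar_eq_gram, ← polar_eq_gram, QuadraticMap.polar, QuadraticMap.polar, ← mulVec_add,
      hk, hk, hk]

/-- The symplectic and orthogonal centralizers are not isomorphic. -/
theorem not_equiv_PGSp [Fintype F] (h2 : (2 : F) ≠ 0) (hn : 3 ≤ n) (hnm : n = 2 * m) {M : GL (Fin n) F}
    (hM : (M : Matrix (Fin n) (Fin n) F)ᵀ = M) :
    ¬ Nonempty (↥(Cfsg.inndiagPSL n F ⊓ Subgroup.centralizer {gx M}) ≃* Cfsg.PGSp m F) := by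
  rintro ⟨E⟩
  obtain ⟨k, rfl⟩ : ∃ k, m = k + 1 := ⟨m - 1, by omega⟩
  have hn2 : 2 ≤ n := by omega
  obtain ⟨a, b, hab⟩ := exists_anisotropic (F := F) h2
  have hq : 3 ≤ Fintype.card F := by
    by_contra hc
    have h1 : 1 < Fintype.card F := Fintype.one_lt_card
    have hq2 : Fintype.card F = 2 := by omega
    exact h2 (by have := Nat.cast_card_eq_zero F; rw [hq2] at this; exact_mod_cast this)
  obtain ⟨q, hqd⟩ : ∃ q, q = Fintype.card F := ⟨_, rfl⟩
  rw [← hqd] at hq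
  obtain ⟨P, hP⟩ : ∃ P, P = ∏ i ∈ Finset.range k, (q ^ (2 * (i + 1)) - 1) := ⟨_, rfl⟩
  have hscal : ∀ {ι : Type} [Fintype ι] [DecidableEq ι] (Q : Subgroup (GL ι F)) (N : Matrix ι ι F),
      (∀ g, g ∈ Q ↔ g ∈ simGroup N) → Cfsg.Geo.scalars ι F ≤ Q := by
    intro ι _ _ Q N h g hg
    obtain ⟨u, rfl⟩ := mem_scalars.mp hg
    exact (h _).mpr (scalar_mem_simGroup N u)
  have hPG : Nat.card (Cfsg.PGSp (k + 1) F) = q ^ (k + 1) ^ 2 * ((q ^ (2 * (k + 1)) - 1) * P) := by
    have h := card_projQuot (Cfsg.GSp (k + 1) F) (hscal _ _ mem_GSp_iff)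
    rw [card_GSp (by omega), CfsgLib.Sp.card_symplecticGroup rfl, Finset.prod_range_succ, ← hqd, ← hP,
      mul_comm, mul_right_inj' (by omega)] at h
    rw [h, mul_comm P]
  have hP0 : 0 < P := by
    rw [hP]
    refine Finset.prod_pos fun i _ => ?_
    have : 1 < q ^ (2 * (i + 1)) := Nat.one_lt_pow (by omega) (by omega)
    omega
  have hPO : ∀ {ι : Type} [Fintype ι] [DecidableEq ι] [Nonempty ι] (Q : QuadraticForm F (ι → F))
      (hQ : Q.polarBilin.Nondegenerate) (e : ι ≃ Fin n) (y : ℕ), y ≤ q ^ (k + 1) + 1 →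
      Nat.card (Cfsg.isometryGroup F (⇑Q)) = 2 * q ^ ((k + 1) * k) * y * P →
      IsSquare ((M : Matrix (Fin n) (Fin n) F).det * (CfsgLib.QuadFin.gram (⇑Q)).det) → False := by
    intro ι _ _ _ Q hQ e y hy hcard hsq
    obtain ⟨E'⟩ := centralizer_equiv_of_isConj
      (isConj_of_isSquare hn2 h2 (gramGL_transpose Q hQ e) hM (by rw [gramGL_det]; exact hsq))
      (centralizer_gramGL hn2 h2 Q hQ e)
    have h1 : Nat.card (Cfsg.PGO F (⇑Q)) = Nat.card (Cfsg.PGSp (k + 1) F) :=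
      Nat.card_congr (E'.symm.trans E).toEquiv
    have h3 := card_projQuot (Cfsg.Geo.quadSimilarityGroup (⇑Q)) (hscal _ _ (mem_quadSim_iff h2 Q))
    rw [card_quadSim h2 Q hQ (l := k + 1) (by have := Fintype.card_congr e; simp at this; omega), ← hqd, h1,
      mul_comm, mul_right_inj' (by omega), hPG, hcard] at h3
    obtain ⟨X, hX⟩ : ∃ X, X = q ^ (k + 1) := ⟨_, rfl⟩
    have hX3 : 3 ≤ X := hX ▸ hq.trans (Nat.le_self_pow (by omega) q)
    rw [show q ^ (k + 1) ^ 2 = q ^ ((k + 1) * k) * X by rw [hX, ← pow_add]; ring_nf,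
      show q ^ (2 * (k + 1)) = X * X by rw [hX, ← pow_add, two_mul]] at h3
    have h4 : X * (X * X - 1) = 2 * y := by
      refine mul_left_cancel₀ (mul_ne_zero (pow_ne_zero ((k + 1) * k) (show q ≠ 0 by omega)) hP0.ne') ?_
      linear_combination h3
    have h5 : 9 ≤ X * X := by nlinarith
    have h6 : 8 * X ≤ X * (X * X - 1) := by
      rw [mul_comm 8]; exact Nat.mul_le_mul_left _ (by omega)
    omega
  let e : Fin (k + 1) ⊕ Fin (k + 1) ≃ Fin n := finSumFinEquiv.trans (finCongr (by omega))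
  let e' : (Fin k ⊕ Fin k) ⊕ Fin 2 ≃ Fin n :=
    (Equiv.sumCongr finSumFinEquiv (Equiv.refl _)).trans (finSumFinEquiv.trans (finCongr (by omega)))
  rcases isSquare_or (M : Matrix (Fin n) (Fin n) F).det (not_isSquare_plus_minus h2 k a b hab) with h | h
  · refine hPO (qf (plus_nondeg (F := F) (k + 1))) (qf_nondeg _) e (q ^ (k + 1) - 1) (by omega) ?_ (by rwa [qf_coe])
    rw [qf_coe, CfsgLib.ClassicalGroups.card_isometry_plus, ← hqd, hP]
  · refine hPO (qf (minus_nondeg k a b h2 hab)) (qf_nondeg _) e' (q ^ (k + 1) + 1) le_rfl ?_ (by rwa [qf_coe])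
    rw [qf_coe, CfsgLib.ClassicalGroups.card_isometry_minus hab, ← hqd, hP]

end CfsgLib.GraphForms82
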