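import Mathlib
import Cfsg.Agent.Lib.PGroup.Frattini

/-!
# Burnside's bound for the automorphism group of a `p`-group

Automorphisms act without fixed points on generating tuples; we count the latter.
-/

namespace CfsgLib.AutFrattini82

open Subgroup

variable {P : Type*} [Group P] [Finite P] {p : ℕ} [Fact p.Prime] {n r : ℕ}

omit [Finite P] [Fact p.Prime] in
theorem dvd_card_of_free {A X : Type*} [Group A] [MulAction A X]
    (h : ∀ x : X, MulAction.stabilizer A x = ⊥) : Nat.card A ∣ Nat.card X := by
  rw [Nat.card_congr (MulAction.selfEquivOrbitsQuotientProd h), Nat.card_prod]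
  exact dvd_mul_left _ _

/-- Tuples generating `P`. -/
def GenTuple (P : Type*) [Group P] (r : ℕ) : Set (Fin r → P) :=
  {s | Subgroup.closure (Set.range s) = ⊤}

theorem gen_iff (s : Fin r → P) :
    s ∈ GenTuple P r ↔
      Subgroup.closure (Set.range fun i => QuotientGroup.mk' (frattini P) (s i)) = ⊤ := by
  have hrange : (Set.range fun i => QuotientGroup.mk' (frattini P) (s i)) =
      QuotientGroup.mk' (frattini P) '' Set.range s := by rw [← Set.range_comp]; rfl
  rw [hrange, ← MonoidHom.map_closure]
  constructor
  · intro (h : Subgroup.closure (Set.range s) = ⊤)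
    rw [h, Subgroup.map_top_of_surjective _ (QuotientGroup.mk'_surjective _)]
  · intro h
    refine frattini_nongenerating ?_
    have h1 := congrArg (Subgroup.comap (QuotientGroup.mk' (frattini P))) h
    rwa [comap_map_eq, QuotientGroup.ker_mk', comap_top] at h1

theorem card_lifts (q : Fin r → P ⧸ frattini P) :
    Nat.card {s : Fin r → P // ∀ i, QuotientGroup.mk' (frattini P) (s i) = q i} =
      Nat.card (frattini P) ^ r := by
  rw [Nat.card_congr (Equiv.subtypePiEquivPi (p := fun i (x : P) =>
    QuotientGroup.mk' (frattini P) x = q i)), Nat.card_pi]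
  calc ∏ i : Fin r, Nat.card {x : P // QuotientGroup.mk' (frattini P) x = q i}
      = ∏ _i : Fin r, Nat.card (frattini P) := by
        refine Finset.prod_congr rfl fun i _ => ?_
        obtain ⟨x₀, hx₀⟩ := QuotientGroup.mk'_surjective (frattini P) (q i)
        refine Nat.card_congr
          { toFun := fun x => ⟨x₀⁻¹ * x.1, QuotientGroup.eq.1 (hx₀.trans x.2.symm)⟩
            invFun := fun z => ⟨x₀ * z.1, by
              rw [map_mul, hx₀, QuotientGroup.mk'_apply _ (z : P),
                (QuotientGroup.eq_one_iff _).2 z.2, mul_one]⟩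
            left_inv := fun x => Subtype.ext (by simp)
            right_inv := fun z => Subtype.ext (by simp) }
    _ = _ := by simp

theorem card_frattini (hP : Nat.card P = p ^ n) (hr : (frattini P).index = p ^ r) :
    Nat.card (frattini P) = p ^ (n - r) := by
  have h := (frattini P).card_mul_index
  rw [hP, hr] at h
  have hp := (Fact.out : p.Prime)
  have hrn : r ≤ n := (Nat.pow_dvd_pow_iff_le_right hp.one_lt).1 ⟨_, h.symm.trans (mul_comm _ _)⟩
  refine Nat.eq_of_mul_eq_mul_right (pow_pos hp.pos r) ?_
  rw [h, ← pow_add, Nat.sub_add_cancel hrn]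

theorem gen_quot_count (hP : IsPGroup p P) (hr : (frattini P).index = p ^ r) :
    Nat.card {q : Fin r → P ⧸ frattini P // Subgroup.closure (Set.range q) = ⊤} =
      ∏ i ∈ Finset.range r, (p ^ r - p ^ i) := by
  classical
  have hcomm : ∀ a b : P ⧸ frattini P, a * b = b * a := by
    intro a b
    obtain ⟨x, rfl⟩ := QuotientGroup.mk'_surjective _ a
    obtain ⟨y, rfl⟩ := QuotientGroup.mk'_surjective _ b
    rw [← commutatorElement_eq_one_iff_mul_comm, ← map_commutatorElement]
    exact (QuotientGroup.eq_one_iff _).2
      (CfsgLib.PGroup.commutator_le_frattini hP (commutator_mem_commutator (mem_top x) (mem_top y)))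
  letI : CommGroup (P ⧸ frattini P) :=
    { (inferInstance : Group (P ⧸ frattini P)) with mul_comm := hcomm }
  have hpow : ∀ a : P ⧸ frattini P, a ^ p = 1 := by
    intro a
    obtain ⟨x, rfl⟩ := QuotientGroup.mk'_surjective _ a
    rw [← map_pow]
    exact (QuotientGroup.eq_one_iff _).2 (CfsgLib.PGroup.pow_mem_frattini hP x)
  letI : Module (ZMod p) (Additive (P ⧸ frattini P)) :=
    AddCommGroup.zmodModule (n := p) (G := Additive (P ⧸ frattini P)) fun x => hpow x.toMul
  letI := Fintype.ofFinite (P ⧸ frattini P)
  have hfin : Module.finrank (ZMod p) (Additive (P ⧸ frattini P)) = r := by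
    have h := Module.natCard_eq_pow_finrank (K := ZMod p) (V := Additive (P ⧸ frattini P))
    rw [Nat.card_congr (Additive.toMul : Additive (P ⧸ frattini P) ≃ _), Nat.card_zmod] at h
    exact ((Nat.pow_right_injective (Fact.out : p.Prime).two_le) (hr.symm.trans h)).symm
  have hli : ∀ q : Fin r → P ⧸ frattini P,
      Subgroup.closure (Set.range q) = ⊤ ↔
        LinearIndependent (ZMod p) (fun i => Additive.ofMul (q i)) := by
    intro q
    rw [linearIndependent_iff_card_eq_finrank_span, Fintype.card_fin, Set.finrank]
    constructor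
    · intro h
      have : Submodule.span (ZMod p) (Set.range fun i => Additive.ofMul (q i)) = ⊤ := by
        rw [eq_top_iff]
        rintro v -
        obtain ⟨x, rfl⟩ := Additive.ofMul.surjective v
        have hv : x ∈ Subgroup.closure (Set.range q) := h ▸ mem_top _
        induction hv using Subgroup.closure_induction with
        | mem x hx => obtain ⟨i, rfl⟩ := hx; exact Submodule.subset_span ⟨i, rfl⟩
        | one => exact Submodule.zero_mem _
        | mul x y _ _ hx hy => exact (Submodule.add_mem _ hx hy :)
        | inv x _ hx => exact (Submodule.neg_mem _ hx :)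
      rw [this, finrank_top, hfin]
    · intro h
      have h1 : Submodule.span (ZMod p) (Set.range fun i => Additive.ofMul (q i)) = ⊤ :=
        Submodule.eq_top_of_finrank_eq (h.symm.trans hfin.symm)
      rw [eq_top_iff]
      intro a _
      have ha : Additive.ofMul a ∈
          Submodule.span (ZMod p) (Set.range fun i => Additive.ofMul (q i)) := h1 ▸ trivial
      suffices h2 : ∀ v ∈ Submodule.span (ZMod p) (Set.range fun i => Additive.ofMul (q i)),
          v.toMul ∈ Subgroup.closure (Set.range q) from h2 _ ha
      intro v hv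
      induction hv using Submodule.span_induction with
      | mem x hx => obtain ⟨i, rfl⟩ := hx; exact subset_closure ⟨i, rfl⟩
      | zero => exact one_mem _
      | add x y _ _ hx hy => exact (Subgroup.closure (Set.range q)).mul_mem hx hy
      | smul c x _ hx =>
        rw [← ZMod.natCast_zmod_val c, Nat.cast_smul_eq_nsmul]
        exact pow_mem hx _
  rw [Nat.card_congr (Equiv.subtypeEquiv (q := fun w : Fin r → Additive (P ⧸ frattini P) =>
    LinearIndependent (ZMod p) w)
    (Equiv.arrowCongr (Equiv.refl (Fin r)) Additive.ofMul) (fun q => hli q)),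
    card_linearIndependent (le_of_eq hfin.symm), hfin, ZMod.card,
    Fin.prod_univ_eq_prod_range (fun i => p ^ r - p ^ i) r]

theorem card_genTuple (hP : Nat.card P = p ^ n) (hr : (frattini P).index = p ^ r) :
    Nat.card (GenTuple P r) = p ^ (r * (n - r)) * ∏ i ∈ Finset.range r, (p ^ r - p ^ i) := by
  let f : GenTuple P r → {q : Fin r → P ⧸ frattini P // Subgroup.closure (Set.range q) = ⊤} :=
    fun s => ⟨fun i => QuotientGroup.mk' (frattini P) (s.1 i), (gen_iff s.1).1 s.2⟩
  haveI := Fintype.ofFinite {q : Fin r → P ⧸ frattini P // Subgroup.closure (Set.range q) = ⊤}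
  rw [Nat.card_congr (Equiv.sigmaFiberEquiv f).symm, Nat.card_sigma]
  have hfib : ∀ q, Nat.card {s : GenTuple P r // f s = q} = p ^ (r * (n - r)) := by
    intro q
    rw [mul_comm, pow_mul, ← card_frattini hP hr, ← card_lifts q.1]
    exact Nat.card_congr
      { toFun := fun s => ⟨s.1.1, fun i => congrFun (congrArg Subtype.val s.2) i⟩
        invFun := fun s => ⟨⟨s.1, (gen_iff s.1).2 (by rw [funext s.2]; exact q.2)⟩,
          Subtype.ext (funext s.2)⟩
        left_inv := fun s => rfl
        right_inv := fun s => rfl }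
  simp only [hfib, Finset.sum_const, Finset.card_univ, smul_eq_mul]
  rw [← Nat.card_eq_fintype_card, gen_quot_count (IsPGroup.of_card hP) hr, mul_comm]

omit [Finite P] in
theorem eq_one_of_fixes {s : Fin r → P} (hs : s ∈ GenTuple P r) {α : MulAut P}
    (h : ∀ i, α (s i) = s i) : α = 1 := by
  have h1 : α.toMonoidHom = MonoidHom.id P :=
    MonoidHom.eq_of_eqOn_dense hs (by rintro _ ⟨i, rfl⟩; exact h i)
  exact MulEquiv.ext fun x => DFunLike.congr_fun h1 x

theorem card_aut_dvd (hP : Nat.card P = p ^ n) (hr : (frattini P).index = p ^ r) :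
    Nat.card (MulAut P) ∣ p ^ (r * (n - r)) * ∏ i ∈ Finset.range r, (p ^ r - p ^ i) := by
  rw [← card_genTuple hP hr]
  letI : MulAction (MulAut P) (GenTuple P r) :=
    { smul := fun α s => ⟨fun i => α (s.1 i), by
        change Subgroup.closure (Set.range (α.toMonoidHom ∘ s.1)) = ⊤
        rw [Set.range_comp, ← MonoidHom.map_closure, s.2,
          Subgroup.map_top_of_surjective _ α.surjective]⟩
      one_smul := fun s => rfl
      mul_smul := fun a b s => rfl }
  refine dvd_card_of_free (A := MulAut P) (X := GenTuple P r) fun s => ?_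
  rw [eq_bot_iff]
  intro α hα
  exact Subgroup.mem_bot.2
    (eq_one_of_fixes s.2 fun i => congrFun (congrArg Subtype.val hα) i)

theorem card_aut_trivial_dvd (hP : Nat.card P = p ^ n) (hr : (frattini P).index = p ^ r)
    (A : Subgroup (MulAut P)) (hA : ∀ α ∈ A, ∀ x : P, α x * x⁻¹ ∈ frattini P) :
    Nat.card A ∣ p ^ (r * (n - r)) := by
  have hpos : 0 < Nat.card {q : Fin r → P ⧸ frattini P // Subgroup.closure (Set.range q) = ⊤} := by
    rw [gen_quot_count (IsPGroup.of_card hP) hr]
    exact Finset.prod_pos fun i hi => Nat.sub_pos_of_lt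
      (Nat.pow_lt_pow_right (Fact.out : p.Prime).one_lt (Finset.mem_range.1 hi))
  obtain ⟨⟨q, hq⟩⟩ := (Nat.card_pos_iff.1 hpos).1
  let X := {s : Fin r → P // ∀ i, QuotientGroup.mk' (frattini P) (s i) = q i}
  rw [mul_comm, pow_mul, ← card_frattini hP hr, ← card_lifts q]
  letI : MulAction A X :=
    { smul := fun α s => ⟨fun i => (α : MulAut P) (s.1 i), fun i => by
        rw [← s.2 i, QuotientGroup.mk'_apply, QuotientGroup.mk'_apply,
          QuotientGroup.eq_iff_div_mem, div_eq_mul_inv]
        exact hA α α.2 _⟩
      one_smul := fun s => rfl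
      mul_smul := fun a b s => rfl }
  refine dvd_card_of_free (A := A) (X := X) fun s => ?_
  rw [eq_bot_iff]
  intro α hα
  have hg : s.1 ∈ GenTuple P r := (gen_iff _).2 (by rw [funext s.2]; exact hq)
  exact Subgroup.mem_bot.2
    (Subtype.ext (eq_one_of_fixes hg fun i => congrFun (congrArg Subtype.val hα) i))

end CfsgLib.AutFrattini82
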