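import Mathlib

namespace CfsgLib.CommCount82

open scoped BigOperators

/-- The number of commuting pairs, centraliser by centraliser. -/
theorem card_comm (X : Type*) [Group X] [Fintype X] :
    Nat.card (ConjClasses X) * Nat.card X = ∑ x : X, Nat.card (Subgroup.centralizer ({x} : Set X)) := by
  rw [← card_comm_eq_card_conjClasses_mul_card,
    Nat.card_congr (Equiv.subtypeProdEquivSigmaSubtype fun a b : X => Commute a b), Nat.card_sigma]
  refine Finset.sum_congr rfl fun x _ => Nat.card_congr (Equiv.subtypeEquivRight fun b => ?_)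
  rw [Subgroup.mem_centralizer_singleton_iff]
  exact ⟨fun h => h.symm, fun h => h.symm⟩

/-- Centraliser in a subgroup, as the intersection. -/
theorem card_centralizer_subgroup {X : Type*} [Group X] (Y : Subgroup X) (y : Y) :
    Nat.card (Subgroup.centralizer ({y} : Set Y)) =
      Nat.card (Y ⊓ Subgroup.centralizer ({(y : X)} : Set X) : Subgroup X) := by
  refine Nat.card_congr
    { toFun := fun z => ⟨((z : Y) : X), (z : Y).2, Subgroup.mem_centralizer_singleton_iff.2
        (by simpa using congrArg Subtype.val (Subgroup.mem_centralizer_singleton_iff.1 z.2))⟩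
      invFun := fun z => ⟨⟨(z : X), z.2.1⟩, Subgroup.mem_centralizer_singleton_iff.2
        (Subtype.ext (Subgroup.mem_centralizer_singleton_iff.1 z.2.2))⟩
      left_inv := fun z => rfl
      right_inv := fun z => rfl }

/-- Counting commuting pairs in `X × Y` both ways. -/
theorem sum_inf_centralizer {X : Type*} [Group X] [Fintype X] (Y : Subgroup X) [Fintype Y] :
    ∑ x : X, Nat.card (Y ⊓ Subgroup.centralizer ({x} : Set X) : Subgroup X) =
      ∑ y : Y, Nat.card (Subgroup.centralizer ({(y : X)} : Set X)) := by
  rw [← Nat.card_sigma, ← Nat.card_sigma]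
  refine Nat.card_congr
    { toFun := fun z => ⟨⟨(z.2 : X), z.2.2.1⟩, ⟨z.1, Subgroup.mem_centralizer_singleton_iff.2
        (Subgroup.mem_centralizer_singleton_iff.1 z.2.2.2).symm⟩⟩
      invFun := fun z => ⟨(z.2 : X), ⟨(z.1 : X), z.1.2, Subgroup.mem_centralizer_singleton_iff.2
        (Subgroup.mem_centralizer_singleton_iff.1 z.2.2).symm⟩⟩
      left_inv := fun z => rfl
      right_inv := fun z => rfl }

theorem card_le_index_mul {X : Type*} [Group X] [Finite X] (Y C : Subgroup X) :
    Nat.card C ≤ Y.index * Nat.card (Y ⊓ C : Subgroup X) := by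
  have h : Y.relIndex C * Nat.card (Y ⊓ C : Subgroup X) = Nat.card C := by
    have h1 := Subgroup.relIndex_mul_relIndex ⊥ (Y ⊓ C) C bot_le inf_le_right
    rw [Subgroup.relIndex_bot_left, Subgroup.relIndex_bot_left, Subgroup.inf_relIndex_right] at h1
    rw [mul_comm]; exact h1
  rw [← h]
  refine Nat.mul_le_mul_right _ ?_
  rw [← Subgroup.relIndex_top_right Y]
  exact Subgroup.relIndex_le_of_le_right le_top (by simp [Subgroup.index_ne_zero_of_finite])

end CfsgLib.CommCount82
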