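import Mathlib
import Cfsg.Agent.Lib.FewOrders.Norm

/-!
# Hamiltonian groups
-/

set_option autoImplicit false

namespace CfsgLib.Hamiltonian82

open Subgroup

variable {G : Type*} [Group G]

/-- A pair generating a quaternion group. -/
def QPair (a b : G) : Prop :=
  a * a = a * b * a⁻¹ * b⁻¹ ∧ b * b = a * b * a⁻¹ * b⁻¹ ∧
    a * b * a⁻¹ * b⁻¹ ≠ 1 ∧ (a * b * a⁻¹ * b⁻¹) * (a * b * a⁻¹ * b⁻¹) = 1

variable (hn : ∀ H : Subgroup G, H.Normal)

include hn in
theorem comm_mem_left (a b : G) : a * b * a⁻¹ * b⁻¹ ∈ zpowers a := by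
  rw [show a * b * a⁻¹ * b⁻¹ = a * (b * a⁻¹ * b⁻¹) by group]
  exact mul_mem (mem_zpowers a) ((hn _).conj_mem _ (inv_mem (mem_zpowers a)) b)

include hn in
theorem comm_mem_right (a b : G) : a * b * a⁻¹ * b⁻¹ ∈ zpowers b :=
  mul_mem ((hn _).conj_mem _ (mem_zpowers b) a) (inv_mem (mem_zpowers b))

omit hn in
theorem commute_of_mem_zpowers {x z : G} (h : z ∈ zpowers x) : Commute x z := by
  obtain ⟨k, rfl⟩ := h
  exact (Commute.refl x).zpow_right k

omit hn in
theorem commute_of_comm_eq_one {a b : G} (h : a * b * a⁻¹ * b⁻¹ = 1) : Commute a b :=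
  mul_inv_eq_iff_eq_mul.1 (mul_inv_eq_one.1 h)

omit hn in
theorem comm_eq_one_of_commute {a b : G} (h : Commute a b) : a * b * a⁻¹ * b⁻¹ = 1 := by
  rw [h.eq, mul_inv_cancel_right, mul_inv_cancel]

omit hn in
theorem zpowers_eq_root {p m : ℕ} [hp : Fact p.Prime] {x z : G}
    (hx : orderOf x = p ^ (m + 1)) (hz : z ∈ zpowers x) (hzp : z ^ p = 1) (hz1 : z ≠ 1) :
    zpowers z = zpowers (x ^ p ^ m) := by
  obtain ⟨k, rfl⟩ := hz
  have h1 : (p ^ (m + 1) : ℕ) ∣ ((k * p : ℤ)).natAbs := by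
    rw [← Int.natCast_dvd, ← hx, orderOf_dvd_iff_zpow_eq_one, zpow_mul, zpow_natCast]
    exact hzp
  rw [Int.natAbs_mul, Int.natAbs_natCast, pow_succ] at h1
  obtain ⟨k', hk'⟩ := Int.natCast_dvd.2 (Nat.dvd_of_mul_dvd_mul_right hp.out.pos h1)
  have hmem : x ^ k ∈ zpowers (x ^ p ^ m) := by
    rw [hk', zpow_mul, zpow_natCast]
    exact zpow_mem_zpowers _ _
  have hox : orderOf (x ^ p ^ m) = p := by
    rw [orderOf_pow' _ (pow_ne_zero _ hp.out.ne_zero), hx,
      Nat.gcd_eq_right (pow_dvd_pow p (Nat.le_succ m)), pow_succ,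
      Nat.mul_div_cancel_left _ (pow_pos hp.out.pos m)]
  have hoz : orderOf (x ^ k) = p := orderOf_eq_prime hzp hz1
  have hfin : Finite (zpowers (x ^ p ^ m)) :=
    Nat.finite_of_card_ne_zero (by rw [Nat.card_zpowers, hox]; exact hp.out.ne_zero)
  refine eq_of_le_of_card_ge (zpowers_le.2 hmem) ?_
  rw [Nat.card_zpowers, Nat.card_zpowers, hox, hoz]

omit hn in
theorem mul_pow_formula {a b : G} {z : G} (hzdef : z = a * b * a⁻¹ * b⁻¹) (hza : Commute a z)
    (hzb : Commute b z) (i k : ℕ) :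
    (b * a ^ i) ^ k = b ^ k * a ^ (i * k) * z ^ (i * k.choose 2) := by
  have hswap : ∀ j : ℕ, a ^ j * b = z ^ j * b * a ^ j := by
    intro j
    induction j with
    | zero => simp
    | succ j ih =>
      calc a ^ (j + 1) * b = a * (a ^ j * b) := by rw [pow_succ', mul_assoc]
        _ = (a * z ^ j) * b * a ^ j := by rw [ih]; group
        _ = z ^ j * (a * b) * a ^ j := by rw [(hza.pow_right j).eq]; group
        _ = z ^ j * (z * b * a) * a ^ j := by
          rw [show a * b = z * b * a by rw [hzdef]; group]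
        _ = z ^ (j + 1) * b * a ^ (j + 1) := by rw [pow_succ, pow_succ']; group
  induction k with
  | zero => simp
  | succ k ih =>
    have hc : k.succ.choose 2 = k + k.choose 2 := by
      rw [Nat.choose_succ_succ' k 1, Nat.choose_one_right]
    rw [pow_succ, ih, hc, mul_add i k (k.choose 2), pow_add z]
    calc b ^ k * a ^ (i * k) * z ^ (i * k.choose 2) * (b * a ^ i)
        = b ^ k * a ^ (i * k) * (z ^ (i * k.choose 2) * b) * a ^ i := by group
      _ = b ^ k * a ^ (i * k) * (b * z ^ (i * k.choose 2)) * a ^ i := by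
          rw [(hzb.pow_right _).eq]
      _ = b ^ k * (a ^ (i * k) * b) * (z ^ (i * k.choose 2) * a ^ i) := by group
      _ = b ^ k * (z ^ (i * k) * b * a ^ (i * k)) * (a ^ i * z ^ (i * k.choose 2)) := by
          rw [hswap, ((hza.pow_pow i _).eq)]
      _ = b ^ k * ((b * z ^ (i * k)) * a ^ (i * k)) * (a ^ i * z ^ (i * k.choose 2)) := by
          rw [(hzb.pow_right _).eq]
      _ = b ^ k * b * (z ^ (i * k) * (a ^ (i * k) * a ^ i)) * z ^ (i * k.choose 2) := by group
      _ = b ^ k * b * ((a ^ (i * k) * a ^ i) * z ^ (i * k)) * z ^ (i * k.choose 2) := by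
          rw [← pow_add, ((hza.pow_pow (i * k + i) (i * k)).eq)]
      _ = _ := by rw [← pow_succ, ← pow_add, show i * (k + 1) = i * k + i by ring]; group

omit hn in
theorem dvd_choose_two_pow {p n : ℕ} (hp : p.Prime) (h : ¬ (p = 2 ∧ n = 0)) :
    p ∣ (p ^ (n + 1)).choose 2 := by
  rcases eq_or_ne p 2 with rfl | h2
  · obtain ⟨k, rfl⟩ : ∃ k, n = k + 1 := ⟨n - 1, by
      have : n ≠ 0 := fun h0 => h ⟨rfl, h0⟩
      omega⟩
    rw [Nat.choose_two_right, show 2 ^ (k + 1 + 1) * (2 ^ (k + 1 + 1) - 1) / 2 =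
      2 ^ (k + 1) * (2 ^ (k + 1 + 1) - 1) from by
        rw [pow_succ 2 (k + 1), mul_comm (2 ^ (k + 1)) 2, mul_assoc, Nat.mul_div_cancel_left _ two_pos]]
    exact (dvd_pow_self 2 (by omega)).mul_right _
  · have h3 : p ∣ (p ^ (n + 1)).choose 2 * 2 := by
      rw [Nat.choose_two_right, Nat.div_mul_cancel (Nat.two_dvd_mul_sub_one _)]
      exact (dvd_pow_self p (Nat.succ_ne_zero n)).mul_right _
    rcases hp.dvd_mul.1 h3 with h4 | h4
    · exact h4
    · exact absurd ((Nat.prime_dvd_prime_iff_eq hp Nat.prime_two).1 h4) h2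

include hn in
theorem exists_qpair [Finite G] {p : ℕ} [hp : Fact p.Prime] :
    ∀ (d : ℕ) (a b : G), orderOf a + orderOf b ≤ d → (∃ i, orderOf a = p ^ i) →
      (∃ j, orderOf b = p ^ j) → ¬ Commute a b → p = 2 ∧ ∃ a' b' : G, QPair a' b' := by
  intro d
  induction d with
  | zero =>
    intro a b h
    have := orderOf_pos a
    omega
  | succ d ih =>
  intro a b hd ha hb hne
  wlog hle : orderOf b ≤ orderOf a generalizing a b
  · exact this b a (by omega) hb ha (fun h => hne h.symm) (by omega)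
  obtain ⟨z, hz⟩ : ∃ z, z = a * b * a⁻¹ * b⁻¹ := ⟨_, rfl⟩
  have hzA : z ∈ zpowers a := hz ▸ comm_mem_left hn a b
  have hzB : z ∈ zpowers b := hz ▸ comm_mem_right hn a b
  have hza := commute_of_mem_zpowers hzA
  have hzb := commute_of_mem_zpowers hzB
  have hz1 : z ≠ 1 := fun h => hne (commute_of_comm_eq_one (hz ▸ h))
  obtain ⟨i, hi⟩ := ha
  obtain ⟨j, hj⟩ := hb
  have hb1 : b ≠ 1 := by rintro rfl; exact hne (Commute.one_right a)
  have ha1 : a ≠ 1 := by rintro rfl; exact hne (Commute.one_left b)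
  obtain ⟨m, rfl⟩ : ∃ m, i = m + 1 := ⟨i - 1, by
    rcases Nat.eq_zero_or_pos i with rfl | h
    · exact absurd (orderOf_eq_one_iff.1 (by rw [hi, pow_zero])) ha1
    · omega⟩
  obtain ⟨n, rfl⟩ : ∃ n, j = n + 1 := ⟨j - 1, by
    rcases Nat.eq_zero_or_pos j with rfl | h
    · exact absurd (orderOf_eq_one_iff.1 (by rw [hj, pow_zero])) hb1
    · omega⟩
  have hnm : n ≤ m := by
    rw [hi, hj] at hle
    have := (Nat.pow_le_pow_iff_right hp.out.one_lt).1 hle
    omega
  -- `z` has order `p`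
  have hbp : orderOf (b ^ p) < orderOf b := by
    rw [orderOf_pow' _ hp.out.ne_zero, hj, Nat.gcd_eq_right (dvd_pow_self p (Nat.succ_ne_zero n))]
    exact Nat.div_lt_self (pow_pos hp.out.pos _) hp.out.one_lt
  by_cases hcb : Commute a (b ^ p)
  swap
  · exact ih a (b ^ p) (by omega) ⟨_, hi⟩
      ((Nat.dvd_prime_pow hp.out).1 (hj ▸ orderOf_pow_dvd p) |>.imp fun _ h => h.2) hcb
  have hzp : z ^ p = 1 := by
    have h1 : (z * b) ^ p = a * b ^ p * a⁻¹ := by
      rw [← conj_pow, show z * b = a * b * a⁻¹ by rw [hz]; group]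
    rw [hzb.symm.mul_pow, hcb.eq, mul_inv_cancel_right] at h1
    exact mul_eq_right.1 h1
  have hA := zpowers_eq_root hi hzA hzp hz1
  have hB := zpowers_eq_root hj hzB hzp hz1
  obtain ⟨t, ht⟩ : ∃ t : ℕ, (a ^ p ^ m) ^ t = (b ^ p ^ n)⁻¹ := by
    have h1 : (b ^ p ^ n)⁻¹ ∈ zpowers (a ^ p ^ m) := by
      rw [← hA, hB]; exact inv_mem (mem_zpowers _)
    exact (Submonoid.mem_powers_iff _ _).1 (mem_powers_iff_mem_zpowers.2 h1)
  obtain ⟨i', hi'⟩ : ∃ i', i' = t * p ^ (m - n) := ⟨_, rfl⟩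
  have hK : i' * p ^ n = p ^ m * t := by
    rw [hi', mul_assoc, ← pow_add, Nat.sub_add_cancel hnm, mul_comm]
  have hform := mul_pow_formula hz hza hzb i' (p ^ n)
  rw [hK, pow_mul, ht, mul_inv_cancel, one_mul] at hform
  by_cases hdiv : p ∣ i' * (p ^ n).choose 2
  · rw [orderOf_dvd_iff_pow_eq_one.1 ((orderOf_dvd_of_pow_eq_one hzp).trans hdiv)] at hform
    have hdvd := orderOf_dvd_of_pow_eq_one hform
    refine ih a (b * a ^ i') ?_ ⟨_, hi⟩
      ((Nat.dvd_prime_pow hp.out).1 hdvd |>.imp fun _ h => h.2) fun h => hne ?_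
    · have h1 := Nat.le_of_dvd (pow_pos hp.out.pos _) hdvd
      have h2 : p ^ n < orderOf b := hj ▸ Nat.pow_lt_pow_right hp.out.one_lt (Nat.lt_succ_self n)
      omega
    · have h1 := h.mul_right (((Commute.refl a).pow_right i').inv_right)
      rwa [mul_inv_cancel_right] at h1
  have hn1 : n ≠ 0 := by
    rintro rfl
    simp at hdiv
  obtain ⟨n', rfl⟩ : ∃ n', n = n' + 1 := ⟨n - 1, by omega⟩
  have h2 : p = 2 ∧ n' = 0 := by
    by_contra hc
    exact hdiv ((dvd_choose_two_pow hp.out hc).mul_left _)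
  obtain ⟨rfl, rfl⟩ := h2
  have hm : m = 1 := by
    by_contra hc
    refine hdiv (Dvd.dvd.mul_right ?_ _)
    rw [hi']
    exact (dvd_pow_self 2 (by omega)).mul_left t
  subst hm
  have hz2 : z * z = 1 := by rw [← pow_two]; exact hzp
  have key : ∀ w : G, orderOf w = 2 ^ (1 + 1) → zpowers z = zpowers (w ^ 2 ^ 1) → w * w = z := by
    intro w hw hwz
    have h1 : w * w ∈ zpowers z := hwz ▸ (by rw [pow_one, pow_two]; exact mem_zpowers _)
    obtain ⟨k, hk⟩ := (Submonoid.mem_powers_iff _ _).1 (mem_powers_iff_mem_zpowers.2 h1)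
    rcases Nat.even_or_odd k with ⟨l, hl⟩ | ⟨l, hl⟩
    · exfalso
      have h3 : w ^ 2 = 1 := by
        rw [pow_two, ← hk, hl, ← two_mul, pow_mul, hzp, one_pow]
      have h4 := orderOf_dvd_of_pow_eq_one h3
      rw [hw] at h4
      norm_num at h4
    · rw [← hk, hl, pow_add, pow_mul, hzp, one_pow, one_mul, pow_one]
  exact ⟨rfl, a, b, (key a hi hA).trans hz, (key b hj hB).trans hz, hz ▸ hz1, hz ▸ hz2⟩

variable [Finite G]

include hn in
theorem commute_of_coprime {x y : G} (h : (orderOf x).Coprime (orderOf y)) : Commute x y :=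
  commute_of_comm_eq_one (orderOf_eq_one_iff.1 (Nat.eq_one_of_dvd_coprimes h
    (orderOf_dvd_of_mem_zpowers (comm_mem_left hn x y))
    (orderOf_dvd_of_mem_zpowers (comm_mem_right hn x y))))

omit hn in
theorem mem_of_primePow {S : Subgroup G}
    (h : ∀ g : G, (∃ p k : ℕ, p.Prime ∧ orderOf g = p ^ k) → g ∈ S) : S = ⊤ := by
  refine Subgroup.eq_top_of_card_eq _ (Nat.dvd_antisymm S.card_subgroup_dvd_card ?_)
  rw [← Nat.factorization_prime_le_iff_dvd Nat.card_pos.ne' Nat.card_pos.ne']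
  intro p hp
  haveI := Fact.mk hp
  obtain ⟨P⟩ := (inferInstance : Nonempty (Sylow p G))
  have hle : (P : Subgroup G) ≤ S := by
    intro x hx
    obtain ⟨k, hk⟩ := IsPGroup.iff_orderOf.1 P.isPGroup' ⟨x, hx⟩
    exact h x ⟨p, k, hp, by rwa [Subgroup.orderOf_mk] at hk⟩
  rw [← hp.pow_dvd_iff_le_factorization Nat.card_pos.ne', ← P.card_eq_multiplicity]
  exact card_dvd_of_le hle

include hn in
theorem central_of_pairs {x : G} {p i : ℕ} [Fact p.Prime] (hx : orderOf x = p ^ i)
    (h : ∀ y : G, ∀ j, orderOf y = p ^ j → Commute x y) (g : G) : Commute x g := by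
  have hS : centralizer ({x} : Set G) = ⊤ := mem_of_primePow fun g hg => by
    obtain ⟨q, k, hq, hk⟩ := hg
    rw [mem_centralizer_singleton_iff]
    by_cases hqp : q = p
    · exact (h g k (hqp ▸ hk)).eq.symm
    · refine (commute_of_coprime hn ?_).eq
      rw [hx, hk]
      exact Nat.coprime_pow_primes _ _ hq Fact.out hqp
  exact ((mem_centralizer_singleton_iff).1 (hS ▸ mem_top g : g ∈ centralizer ({x} : Set G))).symm

include hn in
theorem exists_qpair_of_not_comm (hna : ¬ IsMulCommutative G) : ∃ a b : G, QPair a b := by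
  by_contra hc
  haveI : Fact (Nat.Prime 2) := ⟨Nat.prime_two⟩
  have hall : ∀ x : G, (∃ p k : ℕ, p.Prime ∧ orderOf x = p ^ k) → ∀ g, Commute x g := by
    rintro x ⟨p, k, hp, hk⟩ g
    haveI := Fact.mk hp
    refine central_of_pairs hn hk (fun y j hy => ?_) g
    by_contra hne
    exact hc (exists_qpair hn _ x y le_rfl ⟨k, hk⟩ ⟨j, hy⟩ hne).2
  refine hna ⟨⟨fun a b => ?_⟩⟩
  have hS : center G = ⊤ := mem_of_primePow fun g hg =>
    mem_center_iff.2 fun y => ((hall g hg y).symm).eq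
  exact (mem_center_iff.1 (hS ▸ mem_top b : b ∈ center G) a)

include hn in
theorem central_of_odd {x : G} (hx : Odd (orderOf x)) : x ∈ center G := by
  have hall : ∀ y : G, (∃ p k : ℕ, p.Prime ∧ orderOf y = p ^ k) → Commute x y := by
    rintro y ⟨p, k, hp, hk⟩
    rcases eq_or_ne p 2 with rfl | hp2
    · refine commute_of_coprime hn ?_
      rw [hk]
      exact Nat.Coprime.pow_right _ (Nat.coprime_two_right.2 hx)
    · haveI := Fact.mk hp
      refine (central_of_pairs hn hk (fun z j hz => ?_) x).symm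
      by_contra hne
      exact hp2 (exists_qpair hn _ y z le_rfl ⟨k, hk⟩ ⟨j, hz⟩ hne).1
  have hS : centralizer ({x} : Set G) = ⊤ := mem_of_primePow fun g hg =>
    mem_centralizer_singleton_iff.2 (hall g hg).eq.symm
  exact mem_center_iff.2 fun g =>
    mem_centralizer_singleton_iff.1 (hS ▸ mem_top g : g ∈ centralizer ({x} : Set G))

include hn in
theorem central_of_sq_eq_one {x : G} (hx : x * x = 1) : x ∈ center G := by
  refine mem_center_iff.2 fun g => ?_
  have h1 : g * x * g⁻¹ ∈ zpowers x := (hn _).conj_mem _ (mem_zpowers x) g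
  obtain ⟨k, hk⟩ := (Submonoid.mem_powers_iff _ _).1 (mem_powers_iff_mem_zpowers.2 h1)
  rcases Nat.even_or_odd k with ⟨l, hl⟩ | ⟨l, hl⟩
  · rw [hl, ← two_mul, pow_mul, pow_two, hx, one_pow, eq_comm, conj_eq_one_iff] at hk
    rw [hk, mul_one, one_mul]
  · rw [hl, pow_add, pow_mul, pow_two, hx, one_pow, one_mul, pow_one] at hk
    exact mul_inv_eq_iff_eq_mul.1 hk.symm

/-- Structure of the finite Hamiltonian groups. -/
theorem structure_theorem (hn : ∀ H : Subgroup G, H.Normal) (hna : ¬ IsMulCommutative G) :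
    ∃ Q E A : Subgroup G, Nonempty (Q ≃* QuaternionGroup 2) ∧
      (IsMulCommutative E ∧ ∀ e ∈ E, e ^ 2 = 1) ∧ IsMulCommutative A ∧ Odd (Nat.card A) ∧
      E ⊓ A = ⊥ ∧ Q ⊓ (E ⊔ A) = ⊥ ∧ Q ⊔ (E ⊔ A) = ⊤ := by
  haveI : Fact (Nat.Prime 2) := ⟨Nat.prime_two⟩
  obtain ⟨a, b, hab⟩ := exists_qpair_of_not_comm hn hna
  obtain ⟨haa, hbb, hc1, hc2⟩ := hab
  obtain ⟨c, hc⟩ : ∃ c, c = a * b * a⁻¹ * b⁻¹ := ⟨_, rfl⟩
  rw [← hc] at haa hbb hc1 hc2
  have hcZ : c ∈ center G := central_of_sq_eq_one hn hc2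
  obtain ⟨Q, hQ⟩ : ∃ Q, Q = zpowers a ⊔ zpowers b := ⟨_, rfl⟩
  have haQ : a ∈ Q := hQ ▸ mem_sup_left (mem_zpowers a)
  have hbQ : b ∈ Q := hQ ▸ mem_sup_right (mem_zpowers b)
  have hcQ : c ∈ Q := haa ▸ Q.mul_mem haQ haQ
  have hba : b * a * b⁻¹ = c * a := by
    calc b * a * b⁻¹ = (a * b * a⁻¹ * b⁻¹)⁻¹ * a := by group
      _ = c * a := by rw [← hc, inv_eq_of_mul_eq_one_right hc2]
  have hab' : a * b * a⁻¹ = c * b := by rw [hc]; group
  -- elements of `Q`
  have hQel : ∀ q ∈ Q, q = 1 ∨ q = c ∨ q * q = c := by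
    intro q hq
    haveI := hn (zpowers a)
    rw [hQ] at hq
    obtain ⟨u, hu, v, hv, rfl⟩ := mem_sup_of_normal_left.1 hq
    obtain ⟨i, rfl⟩ := (Submonoid.mem_powers_iff _ _).1 (mem_powers_iff_mem_zpowers.2 hu)
    obtain ⟨j, rfl⟩ := (Submonoid.mem_powers_iff _ _).1 (mem_powers_iff_mem_zpowers.2 hv)
    have hcp : ∀ l : ℕ, c ^ l = 1 ∨ c ^ l = c := by
      intro l
      induction l with
      | zero => exact Or.inl (pow_zero c)
      | succ l ih =>
        rcases ih with h | h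
        · exact Or.inr (by rw [pow_succ, h, one_mul])
        · exact Or.inl (by rw [pow_succ, h, hc2])
    have hcc : ∀ x : G, Commute c x := fun x => (mem_center_iff.1 hcZ x).symm
    have hsq' : ∀ (l : ℕ) (w : G), w * w = c → c ^ l * w * (c ^ l * w) = c := by
      intro l w hw
      rw [((hcc w).pow_left l).symm.mul_mul_mul_comm, hw, ← pow_add, ← two_mul, pow_mul, pow_two,
        hc2, one_pow, one_mul]
    rcases Nat.even_or_odd i with ⟨i', hi'⟩ | ⟨i', hi'⟩ <;>
      rcases Nat.even_or_odd j with ⟨j', hj'⟩ | ⟨j', hj'⟩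
    · rw [hi', hj', ← two_mul, ← two_mul, pow_mul, pow_mul, pow_two, pow_two, haa, hbb, ← pow_add]
      exact (hcp _).imp_right Or.inl
    · refine Or.inr (Or.inr ?_)
      rw [hi', hj', ← two_mul, pow_add, pow_mul, pow_mul, pow_two, pow_two, haa, hbb, pow_one,
        show c ^ i' * (c ^ j' * b) = c ^ (i' + j') * b by rw [pow_add, mul_assoc]]
      exact hsq' _ _ hbb
    · refine Or.inr (Or.inr ?_)
      rw [hi', hj', ← two_mul j', pow_add, pow_mul, pow_mul, pow_two, pow_two, haa, hbb, pow_one,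
        show c ^ i' * a * c ^ j' = c ^ (i' + j') * a by
          rw [pow_add, mul_assoc, ← ((hcc a).pow_left j').eq, mul_assoc]]
      exact hsq' _ _ haa
    · refine Or.inr (Or.inr ?_)
      rw [hi', hj', pow_add, pow_add, pow_mul, pow_mul, pow_two, pow_two, haa, hbb, pow_one,
        pow_one, ((hcc a).symm.pow_right j').mul_mul_mul_comm, ← pow_add]
      refine hsq' _ _ ?_
      calc a * b * (a * b) = a * (b * a * b⁻¹) * (b * b) := by group
        _ = (a * c) * a * c := by rw [hba, hbb]; group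
        _ = c * (a * a) * c := by rw [← (hcc a).eq]; group
        _ = c := by rw [haa, hc2, one_mul]
  have hne : a * b ≠ b * a := fun h => hc1 (by rw [hc, h]; group)
  -- `G = Q C(Q)`
  have hdec : ∀ g : G, ∃ q ∈ Q, Commute (q * g) a ∧ Commute (q * g) b := by
    intro g
    have key : ∀ w : G, w * w = c → ∀ g : G, g * w * g⁻¹ = w ∨ g * w * g⁻¹ = c * w := by
      intro w hw g
      have hcc : ∀ x : G, Commute c x := fun x => (mem_center_iff.1 hcZ x).symm
      obtain ⟨k, hk⟩ := (Submonoid.mem_powers_iff _ _).1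
        (mem_powers_iff_mem_zpowers.2 ((hn _).conj_mem _ (mem_zpowers w) g))
      have hsq : (g * w * g⁻¹) * (g * w * g⁻¹) = c := by
        rw [show (g * w * g⁻¹) * (g * w * g⁻¹) = g * (w * w) * g⁻¹ by group, hw,
          (hcc g).symm.eq, mul_inv_cancel_right]
      rcases Nat.even_or_odd k with ⟨l, hl⟩ | ⟨l, hl⟩
      · exfalso
        rw [hl, ← two_mul, pow_mul, pow_two, hw] at hk
        rw [← hk, ← pow_add, ← two_mul, pow_mul, pow_two, hc2, one_pow] at hsq
        exact hc1 hsq.symm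
      · rw [hl, pow_add, pow_mul, pow_two, hw, pow_one] at hk
        rcases Nat.even_or_odd l with ⟨l', hl'⟩ | ⟨l', hl'⟩
        · rw [hl', ← two_mul, pow_mul, pow_two, hc2, one_pow, one_mul] at hk
          exact Or.inl hk.symm
        · rw [hl', pow_add, pow_mul, pow_two, hc2, one_pow, one_mul, pow_one] at hk
          exact Or.inr hk.symm
    obtain ⟨q₁, hq₁, hg₁⟩ : ∃ q ∈ Q, Commute (q * g) a := by
      rcases key a haa g with h | h
      · exact ⟨1, Q.one_mem, by rw [one_mul]; exact mul_inv_eq_iff_eq_mul.1 h⟩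
      · refine ⟨b, hbQ, mul_inv_eq_iff_eq_mul.1 ?_⟩
        calc b * g * a * (b * g)⁻¹ = b * (g * a * g⁻¹) * b⁻¹ := by group
          _ = b * (c * a) * b⁻¹ := by rw [h]
          _ = c * (b * a * b⁻¹) := by
            rw [← mul_assoc b, mem_center_iff.1 hcZ b]; group
          _ = a := by rw [hba, ← mul_assoc, hc2, one_mul]
    rcases key b hbb (q₁ * g) with h | h
    · exact ⟨q₁, hq₁, hg₁, mul_inv_eq_iff_eq_mul.1 h⟩
    · refine ⟨a * q₁, Q.mul_mem haQ hq₁, ?_, mul_inv_eq_iff_eq_mul.1 ?_⟩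
      · rw [mul_assoc]
        exact (Commute.refl a).mul_left hg₁
      · calc a * q₁ * g * b * (a * q₁ * g)⁻¹ = a * ((q₁ * g) * b * (q₁ * g)⁻¹) * a⁻¹ := by group
          _ = a * (c * b) * a⁻¹ := by rw [h]
          _ = c * (a * b * a⁻¹) := by
            rw [← mul_assoc a, mem_center_iff.1 hcZ a]; group
          _ = b := by rw [hab', ← mul_assoc, hc2, one_mul]
  -- centralising elements of order four do not exist
  have hexp : ∀ x : G, Commute x a → Commute x b → x ^ 4 = 1 → x * x = 1 := by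
    intro x hxa hxb hx4
    have h1 : c ∈ zpowers (a * x) := by
      have h2 := comm_mem_left hn (a * x) b
      rwa [show a * x * b * (a * x)⁻¹ * b⁻¹ = c by
        rw [mul_assoc a x b, hxb.eq, hc]; group] at h2
    have hsq : a * x * (a * x) = c * (x * x) := by
      rw [hxa.mul_mul_mul_comm, haa]
    have h4 : (a * x) ^ 4 = 1 := by
      rw [hxa.symm.mul_pow, hx4, show (4 : ℕ) = 2 * 2 from rfl, pow_mul, pow_two a, haa, pow_two,
        hc2, mul_one]
    obtain ⟨k, hk⟩ := (Submonoid.mem_powers_iff _ _).1 (mem_powers_iff_mem_zpowers.2 h1)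
    have hax : Commute (a * x) a := (Commute.refl a).mul_left hxa
    rcases Nat.even_or_odd k with ⟨l, hl⟩ | ⟨l, hl⟩
    · rw [hl, ← two_mul, pow_mul, pow_two, hsq] at hk
      have hd2 : (c * (x * x)) ^ 2 = 1 := by
        rw [← hsq, ← pow_two, ← pow_mul]; exact h4
      rcases Nat.even_or_odd l with ⟨l', hl'⟩ | ⟨l', hl'⟩
      · rw [hl', ← two_mul, pow_mul, hd2, one_pow] at hk
        exact absurd hk.symm hc1
      · rw [hl', pow_add, pow_mul, hd2, one_pow, one_mul, pow_one] at hk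
        exact mul_eq_left.1 hk
    · exfalso
      have hd : (a * x) ∈ center G := by
        have hpow : (a * x) ^ k = (a * x) ^ (2 * l + 1) := by rw [hl]
        rw [hpow, pow_add, pow_mul, pow_one, pow_two, hsq] at hk
        have h5 : a * x = ((c * (x * x)) ^ l)⁻¹ * c := eq_inv_mul_of_mul_eq hk
        have hxx : x * x ∈ center G := central_of_sq_eq_one hn (by
          calc x * x * (x * x) = x ^ 4 := by simp [pow_succ, mul_assoc]
            _ = 1 := hx4)
        rw [h5]
        exact mul_mem (inv_mem (pow_mem (mul_mem hcZ hxx) l)) hcZ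
      refine hne ?_
      have h6 : Commute (a * x) b := (mem_center_iff.1 hd b).symm
      have h7 := h6.mul_left hxb.inv_left
      rw [mul_inv_cancel_right] at h7
      exact h7.eq
  -- the subgroups `E` and `A`
  let Ω : Subgroup G :=
    { carrier := {x | x * x = 1}
      one_mem' := mul_one 1
      mul_mem' := fun {x y} hx hy => by
        show x * y * (x * y) = 1
        rw [Commute.mul_mul_mul_comm (mem_center_iff.1 (central_of_sq_eq_one hn hx) y)]
        rw [show x * x = 1 from hx, show y * y = 1 from hy, mul_one]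
      inv_mem' := fun {x} hx => by
        show x⁻¹ * x⁻¹ = 1
        rw [← mul_inv_rev, show x * x = 1 from hx, inv_one] }
  let A : Subgroup G :=
    { carrier := {x | Odd (orderOf x)}
      one_mem' := by simp
      mul_mem' := fun {x y} hx hy => by
        have hcm : Commute x y := (mem_center_iff.1 (central_of_odd hn hx) y).symm
        exact Odd.of_dvd_nat (hx.mul hy) hcm.orderOf_mul_dvd_mul_orderOf
      inv_mem' := fun {x} hx => by
        show Odd (orderOf x⁻¹)
        rwa [orderOf_inv] }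
  obtain ⟨E, -, hE⟩ := ({E : Subgroup G | E ≤ Ω ∧ c ∉ E}).toFinite.exists_le_maximal (a := ⊥)
    ⟨bot_le, by rwa [mem_bot]⟩
  obtain ⟨hEΩ, hcE⟩ := hE.prop
  have hΩE : ∀ x ∈ Ω, x ∈ E ∨ x * c ∈ E := by
    intro x hx
    by_contra hcon
    push Not at hcon
    have hcx : c ∈ E ⊔ zpowers x := by
      by_contra hc'
      exact hcon.1 (hE.le_of_ge (y := E ⊔ zpowers x) ⟨sup_le hEΩ (zpowers_le.2 hx), hc'⟩
        le_sup_left (mem_sup_right (mem_zpowers x)))
    haveI := hn E
    obtain ⟨e, he, w, hw, hew⟩ := mem_sup_of_normal_left.1 hcx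
    obtain ⟨k, rfl⟩ := (Submonoid.mem_powers_iff _ _).1 (mem_powers_iff_mem_zpowers.2 hw)
    rcases Nat.even_or_odd k with ⟨l, hl⟩ | ⟨l, hl⟩
    · rw [hl, ← two_mul, pow_mul, pow_two, show x * x = 1 from hx, one_pow, mul_one] at hew
      exact hcE (hew ▸ he)
    · rw [hl, pow_add, pow_mul, pow_two, show x * x = 1 from hx, one_pow, one_mul, pow_one] at hew
      refine hcon.2 ?_
      rw [← hew, ← mul_assoc, ← mem_center_iff.1 (central_of_sq_eq_one hn hx) e, mul_assoc,
        show x * x = 1 from hx, mul_one]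
      exact he
  have hQiso : Nonempty (Q ≃* QuaternionGroup 2) := by
    have h4 : ∀ q : Q, q ^ 4 = 1 := fun q => by
      refine Subtype.ext ?_
      show (q : G) ^ (2 * 2) = 1
      rw [pow_mul, pow_two (q : G)]
      rcases hQel q q.2 with h | h | h
      · rw [h]; simp
      · rw [h, hc2, one_pow]
      · rw [h, pow_two, hc2]
    have hcases := CfsgLib.FewOrders.cyclic_four_or_quaternion h4 (⟨c, hcQ⟩ : Q)
      (orderOf_eq_prime (Subtype.ext (show c ^ 2 = 1 by rw [pow_two]; exact hc2))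
        fun h => hc1 (congrArg Subtype.val h))
      (fun q hq => by
        rcases hQel q q.2 with h | h | h
        · rw [show q = 1 from Subtype.ext h, orderOf_one] at hq
          omega
        · exact Subtype.ext h
        · exfalso
          have h5 := congrArg Subtype.val (hq ▸ pow_orderOf_eq_one q : q ^ 2 = 1)
          simp only [SubgroupClass.coe_pow, pow_two] at h5
          exact hc1 (h.symm.trans h5))
      (fun h2 => by
        have h6 : (⟨a, haQ⟩ : Q) ^ 2 = 1 := h2 ▸ pow_card_eq_one'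
        rw [pow_two] at h6
        exact hc1 (haa.symm.trans (congrArg Subtype.val h6)))
    rcases hcases with ⟨hcyc, -⟩ | h
    · haveI := hcyc
      exact absurd (congrArg Subtype.val
        ((IsCyclic.isMulCommutative (α := Q)).is_comm.comm ⟨a, haQ⟩ ⟨b, hbQ⟩)) hne
    · exact h
  have hAodd : Odd (Nat.card A) := by
    rw [Nat.odd_iff, ← Nat.two_dvd_ne_zero]
    intro h2
    obtain ⟨x, hx⟩ := exists_prime_orderOf_dvd_card' 2 h2
    rw [← Subgroup.orderOf_coe] at hx
    have h3 : Odd (orderOf (x : G)) := x.2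
    rw [hx] at h3
    norm_num at h3
  have hinter : ∀ x : G, Odd (orderOf x) → x ^ 4 = 1 → x = 1 := fun x hx h4 =>
    orderOf_eq_one_iff.1 (Nat.eq_one_of_dvd_coprimes
      (Nat.Coprime.pow_right 2 (Nat.coprime_two_right.2 hx)) dvd_rfl (orderOf_dvd_of_pow_eq_one h4))
  refine ⟨Q, E, A, hQiso,
    ⟨⟨⟨fun x y => Subtype.ext
      (mem_center_iff.1 (central_of_sq_eq_one hn (hEΩ x.2)) y).symm⟩⟩,
      fun e he => by rw [pow_two]; exact hEΩ he⟩,
    ⟨⟨fun x y => Subtype.ext (mem_center_iff.1 (central_of_odd hn x.2) y).symm⟩⟩, hAodd, ?_, ?_, ?_⟩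
  · rw [eq_bot_iff]
    rintro x ⟨hxE, hxA⟩
    exact mem_bot.2 (hinter x hxA (by
      rw [show (4 : ℕ) = 2 * 2 from rfl, pow_mul, pow_two x, show x * x = 1 from hEΩ hxE, one_pow]))
  · rw [eq_bot_iff]
    rintro q ⟨hq, hqEA⟩
    haveI := hn E
    obtain ⟨e, he, x, hx, rfl⟩ := mem_sup_of_normal_left.1 hqEA
    have hee : e * e = 1 := hEΩ he
    have hex : Commute e x := (mem_center_iff.1 (central_of_sq_eq_one hn hee) x).symm
    have hq4 : (e * x) ^ 4 = 1 := by
      rw [show (4 : ℕ) = 2 * 2 from rfl, pow_mul, pow_two (e * x)]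
      rcases hQel _ hq with h | h | h
      · rw [h]; simp
      · rw [h, hc2, one_pow]
      · rw [h, pow_two, hc2]
    rw [hex.mul_pow, show (4 : ℕ) = 2 * 2 from rfl, pow_mul, pow_two e, hee, one_pow, one_mul] at hq4
    rw [hinter x hx hq4, mul_one] at hq ⊢
    rcases hQel _ hq with h | h | h
    · exact mem_bot.2 h
    · exact absurd (h ▸ he) hcE
    · exact absurd (h.symm.trans hee) hc1
  · refine mem_of_primePow fun g hg => ?_
    obtain ⟨p, k, hp, hk⟩ := hg
    rcases eq_or_ne p 2 with rfl | hp2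
    swap
    · refine mem_sup_right (mem_sup_right ?_)
      show Odd (orderOf g)
      rw [hk]
      exact (hp.odd_of_ne_two hp2).pow
    obtain ⟨q, hq, hqa, hqb⟩ := hdec g
    obtain ⟨d, hd⟩ : ∃ d, d = q * g := ⟨_, rfl⟩
    rw [← hd] at hqa hqb
    have hqd : Commute q d := by
      haveI := hn (zpowers a)
      rw [hQ] at hq
      obtain ⟨u, hu, v, hv, rfl⟩ := mem_sup_of_normal_left.1 hq
      obtain ⟨i, rfl⟩ := hu
      obtain ⟨j, rfl⟩ := hv
      exact (hqa.symm.zpow_left i).mul_left (hqb.symm.zpow_left j)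
    have hg' : g = q⁻¹ * d := by rw [hd, inv_mul_cancel_left]
    -- `d` is a `2`-element
    have hd2 : d ^ 2 ^ (k + 2) = 1 := by
      have h1 : Commute q g := by
        rw [hg']
        exact ((Commute.refl q).inv_right).mul_right hqd
      have hq4 : q ^ 2 ^ 2 = 1 := by
        rw [show (2 : ℕ) ^ 2 = 2 * 2 from rfl, pow_mul, pow_two q]
        rcases hQel _ hq with h | h | h
        · rw [h]; simp
        · rw [h, hc2, one_pow]
        · rw [h, pow_two, hc2]
      rw [hd, h1.mul_pow, pow_add, mul_comm, pow_mul, hq4, one_pow, one_mul, mul_comm,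
        pow_mul, ← hk, pow_orderOf_eq_one, one_pow]
    have hdsq : d * d = 1 := by
      have key : ∀ l : ℕ, ∀ x : G, Commute x a → Commute x b → x ^ 2 ^ l = 1 → x * x = 1 := by
        intro l
        induction l with
        | zero => intro x _ _ h; rw [pow_zero, pow_one] at h; rw [h, one_mul]
        | succ l ih =>
          intro x hxa hxb h
          refine hexp x hxa hxb ?_
          have h2 := ih (x * x) (hxa.mul_left hxa) (hxb.mul_left hxb) (by
            rw [← pow_two, ← pow_mul, ← pow_succ']; exact h)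
          rw [← h2]; simp [pow_succ, mul_assoc]
      exact key _ d hqa hqb hd2
    rw [hg']
    rcases hΩE d hdsq with h | h
    · exact mul_mem_sup (Q.inv_mem hq) (mem_sup_left h)
    · have h5 : q⁻¹ * d = (q⁻¹ * c) * (d * c) := by
        rw [mul_assoc, ← mul_assoc c, ← mem_center_iff.1 hcZ d, mul_assoc d, hc2, mul_one]
      rw [h5]
      exact mul_mem_sup (Q.mul_mem (Q.inv_mem hq) hcQ) (mem_sup_left h)

end CfsgLib.Hamiltonian82
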