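import Cfsg.Agent.Lib.H82.UFourThree
import Mathlib.GroupTheory.SpecificGroups.Cyclic

/-!
# Centralizer and normalizer of a subgroup of order seven in `PSU_4(3)`
-/

set_option autoImplicit false
set_option linter.unusedSectionVars false

namespace CfsgLib.UFourThree82

open Matrix CfsgLib.ClassicalGroups CfsgLib.AutPSU Polynomial

variable {K : Type*} [Field K] [Fintype K]

/-- The linear map of a unitary matrix. -/
noncomputable def lin (g : SUG 4 K 3) : Module.End K (Fin 4 → K) := Matrix.toLinAlgEquiv' (mat g)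

theorem lin_apply (g : SUG 4 K 3) (v : Fin 4 → K) : lin g v = mat g *ᵥ v := Matrix.toLinAlgEquiv'_apply _ v

theorem lin_mul (g h : SUG 4 K 3) : lin (g * h) = lin g * lin h := map_mul _ (mat g) (mat h)

theorem lin_one : lin (1 : SUG 4 K 3) = 1 := map_one _

theorem lin_pow (g : SUG 4 K 3) (i : ℕ) : lin (g ^ i) = lin g ^ i := by
  induction i with
  | zero => exact lin_one
  | succ i ih => rw [pow_succ, lin_mul, ih, pow_succ]

theorem lin_injective : Function.Injective (lin : SUG 4 K 3 → Module.End K (Fin 4 → K)) :=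
  fun _ _ h => mat_injective (Matrix.toLinAlgEquiv'.injective h)

theorem lin_det (g : SUG 4 K 3) : LinearMap.det (lin g) = 1 :=
  (LinearMap.det_toLin' (mat g)).trans g.1.2

theorem mem_center_of_scalar {g : SUG 4 K 3} {z : K} (h : lin g = z • 1) :
    g ∈ Subgroup.center (SUG 4 K 3) := by
  refine Subgroup.mem_center_iff.mpr fun a => lin_injective ?_
  rw [lin_mul, lin_mul, h, mul_smul_comm, smul_mul_assoc, mul_one, one_mul]

variable (hK : Fintype.card K = 9) [CharP K 3]

include hK in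
theorem center_pow_four (z : Subgroup.center (SUG 4 K 3)) : (z : SUG 4 K 3) ^ 4 = 1 := by
  have h := pow_card_eq_one' (x := z)
  rw [card_center_SU (show Fintype.card K = 3 ^ 2 by rw [hK]; rfl) (by norm_num)] at h
  exact congrArg Subtype.val h

include hK in
/-- A commuting isometry has order dividing `28`. -/
theorem commute_pow (x c : SUG 4 K 3) (hx : x ^ 7 = 1) (hx1 : x ≠ 1) (hc : c * x = x * c) :
    c ^ 28 = 1 := by
  have hF : Fintype.card K = 3 ^ 2 := by rw [hK]; rfl
  obtain ⟨f, hfdef⟩ : ∃ f, f = lin x := ⟨_, rfl⟩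
  have hf7 : f ^ 7 = 1 := by rw [hfdef, ← lin_pow, hx, lin_one]
  have hf1 : f ≠ 1 := fun h => hx1 (lin_injective (by rw [← hfdef, h, lin_one]))
  have hV : Module.finrank K (Fin 4 → K) = 4 := by simp
  obtain ⟨P, hP⟩ := exists_poly hK hV hf7 hf1 (c := lin c) (by rw [hfdef, ← lin_mul, hc, lin_mul])
  have hadj : ∀ (Q : K[X]) (y z : Fin 4 → K),
      hh 3 (aeval f Q y) z = hh 3 y ((aeval f Q ^ 27) z) := by
    intro Q
    induction Q using Polynomial.induction_on' with
    | add A B hA hB =>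
      intro y z
      have h27 : (aeval f A + aeval f B) ^ 27 = aeval f A ^ 27 + aeval f B ^ 27 := by
        haveI : CharP (Module.End K (Fin 4 → K)) 3 :=
          charP_of_injective_algebraMap (algebraMap K (Module.End K (Fin 4 → K))).injective 3
        haveI : Fact (Nat.Prime 3) := ⟨Nat.prime_three⟩
        exact add_pow_char_pow_of_commute 3 3 ((Commute.all A B).map (aeval f))
      rw [map_add, LinearMap.add_apply, h_add_left, hA, hB, h27, LinearMap.add_apply, h_add_right hF]
    | monomial i a =>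
      intro y z
      have ha : a ^ 27 = a ^ 3 := by
        have h9 : a ^ 9 = a := hK ▸ FiniteField.pow_card a
        rw [show 27 = 9 * 3 from rfl, pow_mul, h9]
      have hfi : (f ^ i) * (f ^ i) ^ 27 = 1 := by
        rw [← pow_succ', ← pow_mul, show i * (27 + 1) = 7 * (4 * i) by ring, pow_mul, hf7, one_pow]
      rw [aeval_monomial, Algebra.algebraMap_eq_smul_one, smul_one_mul, _root_.smul_pow, LinearMap.smul_apply,
        LinearMap.smul_apply, h_smul_left, h_smul_right hF, ha, tau_apply, ← pow_mul a,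
        show a ^ (3 * 3) = a by rw [show 3 * 3 = Fintype.card K from hK.symm, FiniteField.pow_card]]
      congr 1
      conv_lhs => rw [show z = (f ^ i) (((f ^ i) ^ 27) z) by rw [← Module.End.mul_apply, hfi]; rfl]
      rw [hfdef, ← lin_pow, lin_apply, lin_apply]
      exact h_mat _ _ _
  have key : lin c ^ 28 = 1 := by
    refine LinearMap.ext fun z => eq_of_h_eq hF fun y => ?_
    rw [pow_succ, Module.End.mul_apply, ← hP, ← hadj, hP, lin_apply, lin_apply]
    exact h_mat _ _ _
  exact lin_injective (by rw [lin_pow, key, lin_one])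

include hK in
/-- An element of two-power order commuting with an element of order seven is central. -/
theorem central_of_commute (x c : SUG 4 K 3) (hx : x ^ 7 = 1) (hx1 : x ≠ 1) (hc : c * x = x * c) (hc4 : c ^ 4 = 1) :
    c ∈ Subgroup.center (SUG 4 K 3) := by
  obtain ⟨z, hz⟩ := exists_scalar hK (show Module.finrank K (Fin 4 → K) = 4 by simp) (f := lin x)
    (by rw [← lin_pow, hx, lin_one]) (fun h => hx1 (lin_injective (by rw [h, lin_one]))) (c := lin c)
    (by rw [← lin_mul, hc, lin_mul]) (by rw [← lin_pow, hc4, lin_one]) (lin_det c)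
  exact mem_center_of_scalar hz

include hK in
theorem card_psu : Nat.card (Cfsg.PSU 4 K 3) = 3265920 := by
  have hF : Fintype.card K = 3 ^ 2 := by rw [hK]; rfl
  have h1 := card_SU_mul hF (n := 4) (by norm_num)
  rw [card_GU hF, card_SU_eq_center_mul_PSU, card_center_SU hF (by norm_num)] at h1
  norm_num [Finset.prod_range_succ, Nat.even_iff] at h1
  omega

include hK in
/-- The centralizer and normalizer of a subgroup of order seven. -/
theorem normalizer_seven (X : Subgroup (Cfsg.PSU 4 K 3)) (hX : Nat.card X = 7) :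
    Nat.card ↥(Subgroup.normalizer (X : Set (Cfsg.PSU 4 K 3))) = 21 ∧
      Subgroup.centralizer (X : Set (Cfsg.PSU 4 K 3)) = X := by
  classical
  have : Fact (Nat.Prime 7) := ⟨by norm_num⟩
  haveI : Finite (SUG 4 K 3) := Finite.of_injective mat mat_injective
  have hG := card_psu (K := K) hK
  haveI : IsCyclic X := isCyclic_of_prime_card hX
  have hle : X ≤ Subgroup.centralizer (X : Set (Cfsg.PSU 4 K 3)) := by
    letI := IsCyclic.commGroup (α := X)
    intro a ha b hb
    exact congrArg Subtype.val (mul_comm (⟨b, hb⟩ : X) ⟨a, ha⟩)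
  obtain ⟨xb, hxb, hxb1⟩ := (Subgroup.ne_bot_iff_exists_ne_one.mp (fun h => by
    rw [h, Subgroup.card_bot] at hX; omega) : ∃ a : X, a ≠ 1) |> fun ⟨a, ha⟩ =>
      (⟨a.1, a.2, fun h => ha (Subtype.ext h)⟩ : ∃ a, a ∈ X ∧ a ≠ 1)
  have hxb7 : xb ^ 7 = 1 := by
    have h := pow_card_eq_one' (x := (⟨xb, hxb⟩ : X))
    rw [hX] at h
    exact congrArg Subtype.val h
  obtain ⟨x0, hx0⟩ := QuotientGroup.mk_surjective xb
  obtain ⟨x, hxdef⟩ : ∃ x, x = x0 ^ 8 := ⟨_, rfl⟩
  have hxq : (QuotientGroup.mk x : Cfsg.PSU 4 K 3) = xb := by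
    rw [hxdef, QuotientGroup.mk_pow, hx0, pow_succ, hxb7, one_mul]
  have hx7 : x ^ 7 = 1 := by
    have hz : x0 ^ 7 ∈ Subgroup.center (SUG 4 K 3) := by
      rw [← QuotientGroup.eq_one_iff, QuotientGroup.mk_pow, hx0, hxb7]
    rw [hxdef, ← pow_mul, show 8 * 7 = 7 * (4 * 2) from rfl, pow_mul, pow_mul,
      center_pow_four hK ⟨_, hz⟩, one_pow]
  have hx1 : x ≠ 1 := fun h => hxb1 (by rw [← hxq, h]; rfl)
  have hC7 : IsPGroup 7 (Subgroup.centralizer (X : Set (Cfsg.PSU 4 K 3))) := by
    rintro ⟨cb, hcb⟩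
    refine ⟨1, Subtype.ext ?_⟩
    show cb ^ 7 ^ 1 = 1
    rw [pow_one]
    obtain ⟨c, rfl⟩ := QuotientGroup.mk_surjective cb
    have h1 := hcb xb hxb
    rw [← hxq, ← QuotientGroup.mk_mul, ← QuotientGroup.mk_mul, QuotientGroup.eq] at h1
    obtain ⟨z, hz⟩ : ∃ z : Subgroup.center (SUG 4 K 3), (z : SUG 4 K 3) = (x * c)⁻¹ * (c * x) := ⟨⟨_, h1⟩, rfl⟩
    have h2 : c * x = x * c * z := by rw [hz]; group
    have hcom : ∀ a : SUG 4 K 3, (z : SUG 4 K 3) * a = a * z := fun a => (Subgroup.mem_center_iff.mp z.2 a).symm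
    have h3 : c * x * c⁻¹ = x * z := by rw [h2, mul_assoc (x * c), hcom c⁻¹, ← mul_assoc, mul_inv_cancel_right]
    have h4 : (z : SUG 4 K 3) ^ 7 = 1 := by
      have := congrArg (· ^ 7) h3
      simp only [conj_pow, hx7, mul_one, mul_inv_cancel] at this
      rw [(show Commute x (z : SUG 4 K 3) from (hcom x).symm).mul_pow, hx7, one_mul] at this
      exact this.symm
    have hz1 : (z : SUG 4 K 3) = 1 := by
      calc (z : SUG 4 K 3) = ((z : SUG 4 K 3) ^ 4) ^ 2 / (z : SUG 4 K 3) ^ 7 := by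
            rw [← pow_mul, show 4 * 2 = 7 + 1 from rfl, pow_succ, h4, one_mul, div_one]
        _ = 1 := by rw [center_pow_four hK, h4, one_pow, div_one]
    rw [hz1, mul_one] at h2
    rw [← QuotientGroup.mk_pow, QuotientGroup.eq_one_iff]
    refine central_of_commute hK x (c ^ 7) hx7 hx1 ((show Commute c x from h2).pow_left 7).eq ?_
    rw [← pow_mul]
    exact commute_pow hK x c hx7 hx1 h2
  obtain ⟨k, hk⟩ := IsPGroup.iff_card.mp hC7
  have hCdvd := Subgroup.card_subgroup_dvd_card (Subgroup.centralizer (X : Set (Cfsg.PSU 4 K 3)))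
  rw [hk, hG] at hCdvd
  have hk1 : k ≤ 1 := by
    by_contra hc
    have h1 := (pow_dvd_pow 7 (show 2 ≤ k by omega)).trans hCdvd
    norm_num at h1
  have hCeq : Subgroup.centralizer (X : Set (Cfsg.PSU 4 K 3)) = X := by
    refine (Subgroup.eq_of_le_of_card_ge hle ?_).symm
    rw [hX, hk]
    calc 7 ^ k ≤ 7 ^ 1 := Nat.pow_le_pow_right (by norm_num) hk1
      _ = 7 := pow_one 7
  refine ⟨?_, hCeq⟩
  let P : Sylow 7 (Cfsg.PSU 4 K 3) := Sylow.ofCard X (by
    rw [hX, hG, show (3265920 : ℕ).factorization 7 = 1 by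
      rw [show 3265920 = 7 * 466560 from rfl, Nat.factorization_mul (by norm_num) (by norm_num),
        Finsupp.add_apply, Nat.Prime.factorization_self (by norm_num),
        Nat.factorization_eq_zero_of_not_dvd (by norm_num)], pow_one])
  have hmod := card_sylow_modEq_one 7 (Cfsg.PSU 4 K 3)
  rw [Sylow.card_eq_index_normalizer P] at hmod
  have hidx := (Subgroup.normalizer (X : Set (Cfsg.PSU 4 K 3))).card_mul_index
  rw [hG] at hidx
  have hker := (Subgroup.normalizerMonoidHom X).ker.card_mul_index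
  rw [Subgroup.index_ker, Subgroup.normalizerMonoidHom_ker] at hker
  have hC : Nat.card ((Subgroup.centralizer (X : Set (Cfsg.PSU 4 K 3))).subgroupOf
      (Subgroup.normalizer (X : Set (Cfsg.PSU 4 K 3)))) = 7 := by
    rw [hCeq, Nat.card_congr (Subgroup.subgroupOfEquivOfLe Subgroup.le_normalizer).toEquiv, hX]
  rw [hC] at hker
  have hr : Nat.card (Subgroup.normalizerMonoidHom X).range ∣ 6 := by
    refine (Subgroup.card_subgroup_dvd_card _).trans ?_
    rw [IsCyclic.card_mulAut, hX, Nat.totient_prime (by norm_num)]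
  obtain ⟨d, hd⟩ : ∃ d, d = Nat.card (Subgroup.normalizerMonoidHom X).range := ⟨_, rfl⟩
  rw [← hd] at hker hr
  have hd6 : d ≤ 6 := Nat.le_of_dvd (by norm_num) hr
  change (Subgroup.normalizer (X : Set (Cfsg.PSU 4 K 3))).index ≡ 1 [MOD 7] at hmod
  rw [← hker] at hidx ⊢
  obtain ⟨i, hi⟩ : ∃ i, i = (Subgroup.normalizer (X : Set (Cfsg.PSU 4 K 3))).index := ⟨_, rfl⟩
  rw [← hi] at hidx hmod
  unfold Nat.ModEq at hmod
  interval_cases d <;> omega

end CfsgLib.UFourThree82
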