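import Mathlib

/-!
# Polynomial sequences in a group with a filtration

For a filtration `F 0 ≥ F 1 ≥ ⋯` by normal subgroups, with `⁅F i, F j⁆ ≤ F (i + j)`, ending in `F c = ⊥`,
we build subgroups `Q s` of `ℤ → G` with `⁅Q i, Q j⁆ ≤ Q (i + j)` which contain the sequences
`n ↦ x ^ (n choose k)` for `x ∈ F (s + k)` and whose members `g` satisfy
`g (n + 1) * (g n)⁻¹ ∈ Q (s + 1)`. This is Lazard's theorem in the form used for the Hall–Petrescu
formula.
-/

namespace CfsgLib.PolySeq82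

open Subgroup
open scoped commutatorElement

variable {G : Type*} [Group G]

/-- The multiplicative forward difference. -/
def delta (g : ℤ → G) : ℤ → G := fun n => g (n + 1) * (g n)⁻¹

theorem delta_one : delta (1 : ℤ → G) = 1 := by funext n; simp [delta]

theorem delta_mul (g h : ℤ → G) : delta (g * h) = delta g * (g * delta h * g⁻¹) := by
  funext n; simp [delta, mul_assoc]

theorem delta_inv (g : ℤ → G) : delta g⁻¹ = g⁻¹ * (delta g)⁻¹ * g := by
  funext n; simp [delta, mul_assoc]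

/-- A filtration: antitone, normal, multiplicative, ending at `c`. -/
structure Filt (G : Type*) [Group G] where
  F : ℕ → Subgroup G
  c : ℕ
  normal : ∀ i, (F i).Normal
  anti : Antitone F
  comm : ∀ i j, ⁅F i, F j⁆ ≤ F (i + j)
  bot : ∀ i, c ≤ i → F i = ⊥

variable (𝔉 : Filt G)

/-- Sequences valued in `K`. -/
def valued (K : Subgroup G) : Subgroup (ℤ → G) where
  carrier := {g | ∀ n, g n ∈ K}
  one_mem' := fun _ => K.one_mem
  mul_mem' := fun hg hh n => K.mul_mem (hg n) (hh n)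
  inv_mem' := fun hg n => K.inv_mem (hg n)

/-- One step of the construction: below `R`, inside `N`. -/
def step (K : Subgroup G) (R N : Subgroup (ℤ → G))
    (hN : N ≤ Subgroup.normalizer (R : Set (ℤ → G))) : Subgroup (ℤ → G) where
  carrier := {g | g ∈ valued K ∧ g ∈ N ∧ delta g ∈ R}
  one_mem' := ⟨one_mem _, one_mem _, by rw [delta_one]; exact one_mem _⟩
  mul_mem' := by
    rintro g h ⟨hg, hgN, hgd⟩ ⟨hh, hhN, hhd⟩
    refine ⟨mul_mem hg hh, mul_mem hgN hhN, ?_⟩
    rw [delta_mul]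
    exact mul_mem hgd ((mem_normalizer_iff.1 (hN hgN) _).1 hhd)
  inv_mem' := by
    rintro g ⟨hg, hgN, hgd⟩
    refine ⟨inv_mem hg, inv_mem hgN, ?_⟩
    rw [delta_inv]
    simpa using (mem_normalizer_iff.1 (hN (inv_mem hgN)) _).1 (inv_mem hgd)

/-- The pair (level `c - k`, common normalizer of the levels so far). -/
def levels : ℕ → {RN : Subgroup (ℤ → G) × Subgroup (ℤ → G) //
    RN.2 ≤ Subgroup.normalizer (RN.1 : Set (ℤ → G))}
  | 0 => ⟨(⊥, ⊤), by rw [Subgroup.normalizer_eq_top]⟩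
  | k + 1 =>
    ⟨(step (𝔉.F (𝔉.c - (k + 1))) (levels k).1.1 (levels k).1.2 (levels k).2,
      (levels k).1.2 ⊓ Subgroup.normalizer
        ((step (𝔉.F (𝔉.c - (k + 1))) (levels k).1.1 (levels k).1.2 (levels k).2 :
          Subgroup (ℤ → G)) : Set (ℤ → G))), inf_le_right⟩

/-- The polynomial sequences of level `s`. -/
def Q (s : ℕ) : Subgroup (ℤ → G) := (levels 𝔉 (𝔉.c - s)).1.1

/-- The common normalizer of the levels `≥ s`. -/
def Nm (s : ℕ) : Subgroup (ℤ → G) := (levels 𝔉 (𝔉.c - s)).1.2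

variable {𝔉}

theorem Q_of_le {s : ℕ} (h : 𝔉.c ≤ s) : Q 𝔉 s = ⊥ := by
  rw [Q, Nat.sub_eq_zero_of_le h]; rfl

theorem Nm_of_le {s : ℕ} (h : 𝔉.c ≤ s) : Nm 𝔉 s = ⊤ := by
  rw [Nm, Nat.sub_eq_zero_of_le h]; rfl

theorem mem_Q_iff {s : ℕ} (h : s < 𝔉.c) {g : ℤ → G} :
    g ∈ Q 𝔉 s ↔ (∀ n, g n ∈ 𝔉.F s) ∧ g ∈ Nm 𝔉 (s + 1) ∧ delta g ∈ Q 𝔉 (s + 1) := by
  obtain ⟨k, hk⟩ : ∃ k, 𝔉.c - s = k + 1 := ⟨𝔉.c - s - 1, by omega⟩
  have h1 : 𝔉.c - (s + 1) = k := by omega
  have h2 : 𝔉.c - (k + 1) = s := by omega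
  rw [Q, Nm, Q, hk, h1]
  simp only [levels, h2]
  exact Iff.rfl

theorem Nm_succ {s : ℕ} (h : s < 𝔉.c) :
    Nm 𝔉 s = Nm 𝔉 (s + 1) ⊓ Subgroup.normalizer (Q 𝔉 s : Set (ℤ → G)) := by
  obtain ⟨k, hk⟩ : ∃ k, 𝔉.c - s = k + 1 := ⟨𝔉.c - s - 1, by omega⟩
  have h1 : 𝔉.c - (s + 1) = k := by omega
  rw [Q, Nm, Nm, hk, h1]
  rfl

theorem mem_value {s : ℕ} {g : ℤ → G} (hg : g ∈ Q 𝔉 s) (n : ℤ) : g n ∈ 𝔉.F s := by
  rcases lt_or_ge s 𝔉.c with h | h
  · exact ((mem_Q_iff h).1 hg).1 n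
  · rw [Q_of_le h, mem_bot] at hg
    simp [hg]

theorem mem_delta {s : ℕ} {g : ℤ → G} (hg : g ∈ Q 𝔉 s) : delta g ∈ Q 𝔉 (s + 1) := by
  rcases lt_or_ge s 𝔉.c with h | h
  · exact ((mem_Q_iff h).1 hg).2.2
  · rw [Q_of_le h, mem_bot] at hg
    rw [hg, delta_one]; exact one_mem _

theorem Nm_le_normalizer (s : ℕ) : ∀ t, s ≤ t →
    Nm 𝔉 s ≤ Subgroup.normalizer (Q 𝔉 t : Set (ℤ → G)) := by
  obtain ⟨d, hd⟩ : ∃ d, 𝔉.c - s = d := ⟨_, rfl⟩
  induction d generalizing s with
  | zero =>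
    intro t ht
    rw [Q_of_le (by omega : 𝔉.c ≤ t), Subgroup.normalizer_eq_top]
    exact le_top
  | succ d ih =>
    intro t ht
    rw [Nm_succ (by omega)]
    rcases Nat.eq_or_lt_of_le ht with rfl | ht
    · exact inf_le_right
    · exact inf_le_left.trans (ih (s + 1) (by omega) t ht)

theorem mem_Nm {s : ℕ} {g : ℤ → G}
    (h : ∀ t, s ≤ t → g ∈ Subgroup.normalizer (Q 𝔉 t : Set (ℤ → G))) : g ∈ Nm 𝔉 s := by
  obtain ⟨d, hd⟩ : ∃ d, 𝔉.c - s = d := ⟨_, rfl⟩
  induction d generalizing s with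
  | zero => rw [Nm_of_le (by omega)]; exact mem_top _
  | succ d ih =>
    rw [Nm_succ (by omega)]
    exact ⟨ih (fun t ht => h t (by omega)) (by omega), h s le_rfl⟩

theorem Q_le_normalizer {s t : ℕ} (h : s ≤ t) :
    Q 𝔉 s ≤ Subgroup.normalizer (Q 𝔉 t : Set (ℤ → G)) := by
  rcases Nat.eq_or_lt_of_le h with rfl | h
  · exact Subgroup.le_normalizer
  · rcases lt_or_ge s 𝔉.c with hs | hs
    · exact fun g hg => Nm_le_normalizer (s + 1) t h ((mem_Q_iff hs).1 hg).2.1
    · rw [Q_of_le hs]; exact bot_le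

theorem Q_succ_le (s : ℕ) : Q 𝔉 (s + 1) ≤ Q 𝔉 s := by
  obtain ⟨d, hd⟩ : ∃ d, 𝔉.c - s = d := ⟨_, rfl⟩
  induction d generalizing s with
  | zero => rw [Q_of_le (by omega : 𝔉.c ≤ s + 1)]; exact bot_le
  | succ d ih =>
    intro g hg
    refine (mem_Q_iff (by omega)).2 ⟨fun n => 𝔉.anti (Nat.le_succ s) (mem_value hg n), ?_,
      ih (s + 1) (by omega) (mem_delta hg)⟩
    exact mem_Nm fun t ht => Q_le_normalizer ht hg

theorem Q_anti : Antitone (Q 𝔉) := antitone_nat_of_succ_le Q_succ_le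

theorem conj_mem {s t : ℕ} (h : s ≤ t) {g x : ℤ → G} (hg : g ∈ Q 𝔉 s) (hx : x ∈ Q 𝔉 t) :
    g * x * g⁻¹ ∈ Q 𝔉 t := (mem_normalizer_iff.1 (Q_le_normalizer h hg) x).1 hx

theorem calc_comm {M : Type*} [Group M] (a b g h : M) (hab : Commute a b) (hah : Commute a h)
    (hbg : Commute b g) (hag : Commute a (g * h * g⁻¹)) (hbh : Commute b (h * g * h⁻¹)) :
    ⁅a * g, b * h⁆ = ⁅g, h⁆ := by
  have hC : Commute b ⁅g, h⁆ := by
    rw [commutatorElement_def, show g * h * g⁻¹ * h⁻¹ = g * (h * g * h⁻¹)⁻¹ by group]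
    exact hbg.mul_right hbh.inv_right
  calc ⁅a * g, b * h⁆ = a * (g * b) * h * g⁻¹ * a⁻¹ * h⁻¹ * b⁻¹ := by
        rw [commutatorElement_def]; group
    _ = a * b * (g * h * g⁻¹) * a⁻¹ * h⁻¹ * b⁻¹ := by rw [← hbg.eq]; group
    _ = b * (a * (g * h * g⁻¹) * a⁻¹) * h⁻¹ * b⁻¹ := by rw [hab.eq]; group
    _ = b * ⁅g, h⁆ * b⁻¹ := by rw [hag.eq, commutatorElement_def]; group
    _ = ⁅g, h⁆ := by rw [hC.eq, mul_inv_cancel_right]

theorem commutator_mem {i j : ℕ} {g h : ℤ → G} (hg : g ∈ Q 𝔉 i) (hh : h ∈ Q 𝔉 j) :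
    ⁅g, h⁆ ∈ Q 𝔉 (i + j) := by
  obtain ⟨d, hd⟩ : ∃ d, 𝔉.c - (i + j) ≤ d := ⟨_, le_rfl⟩
  induction d generalizing i j g h with
  | zero =>
    rw [Q_of_le (by omega), mem_bot]
    funext n
    have h1 : ⁅g n, h n⁆ ∈ 𝔉.F (i + j) :=
      𝔉.comm i j (commutator_mem_commutator (mem_value hg n) (mem_value hh n))
    rw [𝔉.bot _ (by omega), mem_bot] at h1
    simpa [commutatorElement_def] using h1
  | succ d ih =>
    rcases Nat.lt_or_ge d (𝔉.c - (i + j)) with hlt | hge
    swap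
    · exact ih hg hh hge
    refine (mem_Q_iff (by omega)).2 ⟨fun n => ?_, ?_, ?_⟩
    · have h1 : ⁅g n, h n⁆ ∈ 𝔉.F (i + j) :=
        𝔉.comm i j (commutator_mem_commutator (mem_value hg n) (mem_value hh n))
      simpa [commutatorElement_def] using h1
    · refine mem_Nm fun t ht => ?_
      have h1 := Q_le_normalizer (by omega : i ≤ t) hg
      have h2 := Q_le_normalizer (by omega : j ≤ t) hh
      exact mul_mem (mul_mem (mul_mem h1 h2) (inv_mem h1)) (inv_mem h2)
    · set N := Q 𝔉 (i + j + 1) with hN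
      have hdi : delta g ∈ Q 𝔉 (i + 1) := mem_delta hg
      have hdj : delta h ∈ Q 𝔉 (j + 1) := mem_delta hh
      let K := Subgroup.normalizer (N : Set (ℤ → G))
      have inK : ∀ {s : ℕ} {x : ℤ → G}, s ≤ i + j + 1 → x ∈ Q 𝔉 s → x ∈ K := fun hs hx =>
        Q_le_normalizer hs hx
      let a : K := ⟨delta g, inK (by omega) hdi⟩
      let b : K := ⟨delta h, inK (by omega) hdj⟩
      let gg : K := ⟨g, inK (by omega) hg⟩
      let hk : K := ⟨h, inK (by omega) hh⟩
      haveI : (N.subgroupOf K).Normal := Subgroup.normal_in_normalizer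
      let π := QuotientGroup.mk' (N.subgroupOf K)
      have hcomm : ∀ x y : K, ⁅(x : ℤ → G), (y : ℤ → G)⁆ ∈ N → Commute (π x) (π y) := by
        intro x y hxy
        rw [← commutatorElement_eq_one_iff_commute, ← map_commutatorElement]
        exact (QuotientGroup.eq_one_iff _).2 (Subgroup.mem_subgroupOf.2 (by
          simpa [commutatorElement_def] using hxy))
      have hlow : ∀ {u v : ℕ} {x y : ℤ → G}, i + j + 1 ≤ u + v → x ∈ Q 𝔉 u → y ∈ Q 𝔉 v →
          ⁅x, y⁆ ∈ N := fun {u v x y} huv hx hy =>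
        Q_anti huv (ih hx hy (by omega))
      have hab : Commute (π a) (π b) := hcomm a b (hlow (by omega) hdi hdj)
      have hah : Commute (π a) (π hk) := hcomm a hk (hlow (by omega) hdi hh)
      have hbg : Commute (π b) (π gg) := hcomm b gg (hlow (by omega) hdj hg)
      have hag : Commute (π a) (π gg * π hk * (π gg)⁻¹) := by
        have h1 := mem_delta (inv_mem hg)
        have h2 := (hcomm ⟨_, inK (by omega) h1⟩ hk (hlow (by omega) h1 hh))
        have e : (⟨delta g⁻¹, inK (by omega) h1⟩ : K) = gg⁻¹ * a⁻¹ * gg :=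
          Subtype.ext (delta_inv g)
        rw [e, map_mul, map_mul, map_inv, map_inv] at h2
        simpa [mul_assoc] using (h2.map (MulAut.conj (π gg)).toMonoidHom).inv_left
      have hbh : Commute (π b) (π hk * π gg * (π hk)⁻¹) := by
        have h1 := mem_delta (inv_mem hh)
        have h2 := (hcomm ⟨_, inK (by omega) h1⟩ gg (hlow (by omega) h1 hg))
        have e : (⟨delta h⁻¹, inK (by omega) h1⟩ : K) = hk⁻¹ * b⁻¹ * hk :=
          Subtype.ext (delta_inv h)
        rw [e, map_mul, map_mul, map_inv, map_inv] at h2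
        simpa [mul_assoc] using (h2.map (MulAut.conj (π hk)).toMonoidHom).inv_left
      have key := calc_comm _ _ _ _ hab hah hbg hag hbh
      rw [← map_mul, ← map_mul, ← map_commutatorElement, ← map_commutatorElement,
        ← mul_inv_eq_one, ← map_inv, ← map_mul, QuotientGroup.mk'_apply,
        QuotientGroup.eq_one_iff] at key
      have h3 := Subgroup.mem_subgroupOf.1 key
      have e : ((⁅a * gg, b * hk⁆ * ⁅gg, hk⁆⁻¹ : K) : ℤ → G) = delta ⁅g, h⁆ := by
        funext n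
        simp [a, b, gg, hk, delta, commutatorElement_def, mul_assoc]
      rw [e] at h3
      exact h3

theorem delta_inv_of_commute {g : ℤ → G} (hc : Commute g (delta g)) :
    delta g⁻¹ = (delta g)⁻¹ := by
  rw [delta_inv, mul_assoc, ← hc.inv_right.eq, inv_mul_cancel_left]

theorem normalizes_aux {s : ℕ} : ∀ d t, 𝔉.c - t ≤ d → s < t → ∀ g : ℤ → G,
    delta g ∈ Q 𝔉 (s + 1) → Commute g (delta g) → ∀ x ∈ Q 𝔉 t, g * x * g⁻¹ ∈ Q 𝔉 t := by
  intro d
  induction d with
  | zero =>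
    intro t hd _ g _ _ x hx
    rw [Q_of_le (by omega), mem_bot] at hx ⊢
    simp [hx]
  | succ d ih =>
    intro t hd hst g hgd hc x hx
    rcases lt_or_ge t 𝔉.c with htc | htc
    swap
    · exact ih t (by omega) hst g hgd hc x hx
    have hgN : ∀ u, t < u → g ∈ Subgroup.normalizer (Q 𝔉 u : Set (ℤ → G)) := by
      intro u hu
      rw [mem_normalizer_iff]
      intro y
      refine ⟨fun hy => ih u (by omega) (by omega) g hgd hc y hy, fun hy => ?_⟩
      have h1 := ih u (by omega) (by omega) g⁻¹ (delta_inv_of_commute hc ▸ inv_mem hgd)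
        (delta_inv_of_commute hc ▸ hc.inv_inv) _ hy
      simpa [mul_assoc] using h1
    have hconj : ∀ y ∈ Q 𝔉 (t + 1), g * y * g⁻¹ ∈ Q 𝔉 (t + 1) := fun y hy =>
      (mem_normalizer_iff.1 (hgN (t + 1) (by omega)) y).1 hy
    refine (mem_Q_iff htc).2 ⟨fun n => ?_, ?_, ?_⟩
    · exact (𝔉.normal t).conj_mem _ (mem_value hx n) (g n)
    · refine mem_Nm fun u hu => ?_
      exact mul_mem (mul_mem (hgN u (by omega)) (Q_le_normalizer (by omega) hx))
        (inv_mem (hgN u (by omega)))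
    · have e : delta (g * x * g⁻¹) =
          delta g * (g * delta x * g⁻¹) * (delta g)⁻¹ * (g * ⁅g⁻¹ * delta g * g, x⁆ * g⁻¹) := by
        funext n; simp [delta, commutatorElement_def, mul_assoc]
      rw [e, show g⁻¹ * delta g * g = delta g by rw [mul_assoc, ← hc.eq, inv_mul_cancel_left]]
      refine mul_mem (conj_mem (by omega : s + 1 ≤ t + 1) hgd (hconj _ (mem_delta hx))) (hconj _ ?_)
      exact Q_anti (by omega) (commutator_mem hgd hx)

/-- A sequence with values in `F s` whose difference lies in `Q (s + 1)` and commutes with it. -/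
theorem mem_Q_of_commute {s : ℕ} {g : ℤ → G} (hv : ∀ n, g n ∈ 𝔉.F s)
    (hd : delta g ∈ Q 𝔉 (s + 1)) (hc : Commute g (delta g)) : g ∈ Q 𝔉 s := by
  rcases lt_or_ge s 𝔉.c with hs | hs
  · refine (mem_Q_iff hs).2 ⟨hv, mem_Nm fun t ht => mem_normalizer_iff.2 fun y => ?_, hd⟩
    refine ⟨fun hy => normalizes_aux _ t le_rfl (by omega) g hd hc y hy, fun hy => ?_⟩
    have h1 := normalizes_aux _ t le_rfl (by omega : s < t) g⁻¹
      (delta_inv_of_commute hc ▸ inv_mem hd) (delta_inv_of_commute hc ▸ hc.inv_inv) _ hy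
    simpa [mul_assoc] using h1
  · rw [Q_of_le hs, mem_bot]
    funext n
    have h1 := hv n
    rw [𝔉.bot s hs, mem_bot] at h1
    exact h1

/-- The sequence `n ↦ x ^ (n choose k)`. -/
def binom (x : G) (k : ℕ) : ℤ → G := fun n => x ^ Ring.choose n k

theorem delta_binom (x : G) (k : ℕ) : delta (binom x (k + 1)) = binom x k := by
  funext n
  rw [delta, binom, binom, binom, Ring.choose_succ_succ, zpow_add, mul_inv_cancel_right]

theorem binom_mem : ∀ (k s : ℕ) (x : G), x ∈ 𝔉.F (s + k) → binom x k ∈ Q 𝔉 s := by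
  intro k
  induction k with
  | zero =>
    intro s x hx
    refine mem_Q_of_commute (fun n => by simpa [binom] using hx) ?_ ?_
    · rw [show delta (binom x 0) = 1 by funext n; simp [delta, binom]]
      exact one_mem _
    · rw [show delta (binom x 0) = 1 by funext n; simp [delta, binom]]
      exact Commute.one_right _
  | succ k ih =>
    intro s x hx
    refine mem_Q_of_commute (fun n => zpow_mem (𝔉.anti (Nat.le_add_right _ _) hx) _) ?_ ?_
    · rw [delta_binom]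
      exact ih (s + 1) x (by rwa [show s + 1 + k = s + (k + 1) by omega])
    · rw [delta_binom]
      funext n
      exact (Commute.zpow_zpow_self x _ _).eq

theorem binom_natCast (x : G) (k n : ℕ) : binom x k (n : ℤ) = x ^ n.choose k := by
  rw [binom, Ring.choose_natCast, zpow_natCast]

/-- The first value that may be nontrivial lies deep in the filtration. -/
theorem value_mem : ∀ (m s : ℕ) (g : ℤ → G), g ∈ Q 𝔉 s → (∀ n : ℕ, n < m → g n = 1) →
    g m ∈ 𝔉.F (s + m) := by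
  intro m
  induction m with
  | zero => intro s g hg _; exact mem_value hg _
  | succ m ih =>
    intro s g hg h0
    have h1 := ih (s + 1) (delta g) (mem_delta hg) (fun n hn => by
      rw [delta, h0 n (by omega), show ((n : ℤ) + 1) = ((n + 1 : ℕ) : ℤ) by push_cast; rfl,
        h0 (n + 1) (by omega)]
      simp)
    rw [delta, h0 m (by omega), inv_one, mul_one,
      show ((m : ℤ) + 1) = ((m + 1 : ℕ) : ℤ) by push_cast; rfl,
      show s + 1 + m = s + (m + 1) by omega] at h1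
    exact h1

theorem eq_one_of_vanish {m s : ℕ} (hm : 𝔉.c ≤ s + m) {g : ℤ → G} (hg : g ∈ Q 𝔉 s)
    (h0 : ∀ n : ℕ, n < m → g n = 1) : ∀ n : ℕ, g n = 1 := by
  intro n
  induction n using Nat.strong_induction_on with
  | _ n ih =>
    rcases Nat.lt_or_ge n m with h | h
    · exact h0 n h
    · have h1 := value_mem n s g hg ih
      rwa [𝔉.bot _ (by omega), mem_bot] at h1

end CfsgLib.PolySeq82
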