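import Mathlib
import Cfsg.Prelude.Def_PLocal
import Cfsg.Agent.Lib.PGroup.Frattini

/-!
# Regular `p`-groups: the elements of bounded order form a subgroup

M. Hall, *The theory of groups*, 12.4.
-/

namespace CfsgLib.Regular82

open Subgroup
open scoped commutatorElement

universe u v

variable {G : Type u} [Group G] {p : ℕ} [Fact p.Prime]

theorem map_powerClosure {H : Type v} [Group H] (f : G →* H) (n : ℕ) (K : Subgroup G) :
    (Cfsg.powerClosure p n K).map f = Cfsg.powerClosure p n (K.map f) := by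
  rw [Cfsg.powerClosure, Cfsg.powerClosure, MonoidHom.map_closure]
  congr 1
  ext z
  constructor
  · rintro ⟨_, ⟨x, hx, rfl⟩, rfl⟩
    exact ⟨f x, mem_map_of_mem f hx, map_pow _ _ _⟩
  · rintro ⟨_, ⟨x, hx, rfl⟩, rfl⟩
    exact ⟨x ^ p ^ n, ⟨x, hx, rfl⟩, map_pow _ _ _⟩

theorem isRegular_subgroup (hG : Cfsg.IsRegularPGroup p G) (H : Subgroup G) :
    Cfsg.IsRegularPGroup p H := by
  refine ⟨hG.1.to_subgroup H, fun a b n => ?_⟩
  obtain ⟨c, hc, h⟩ := hG.2 a b n
  have h1 : Subgroup.closure {(a : G), (b : G)} = (Subgroup.closure {a, b}).map H.subtype := by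
    rw [MonoidHom.map_closure, Set.image_pair]; rfl
  rw [h1, ← map_commutator, ← map_powerClosure] at hc
  obtain ⟨c', hc', rfl⟩ := hc
  exact ⟨c', hc', Subtype.ext (by simpa using h)⟩

theorem powerClosure_eq_bot {n : ℕ} {K : Subgroup G} (h : ∀ x ∈ K, x ^ p ^ n = 1) :
    Cfsg.powerClosure p n K = ⊥ := by
  rw [Cfsg.powerClosure, closure_eq_bot_iff]
  rintro z ⟨x, hx, rfl⟩
  exact h x hx

/-- If a normal subgroup makes two generators commute, it contains the commutator of what they
generate. -/
theorem commutator_le_of_pair {M : Subgroup G} [M.Normal] {x y : G} (h : ⁅x, y⁆ ∈ M) :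
    ⁅Subgroup.closure {x, y}, Subgroup.closure {x, y}⁆ ≤ M := by
  rw [← QuotientGroup.ker_mk' M, ← Subgroup.map_eq_bot_iff, map_commutator, MonoidHom.map_closure,
    Set.image_pair]
  have hc : Commute (QuotientGroup.mk' M x) (QuotientGroup.mk' M y) := by
    rw [← commutatorElement_eq_one_iff_commute, ← map_commutatorElement]
    exact (QuotientGroup.eq_one_iff _).2 h
  rw [commutator_eq_bot_iff_le_centralizer, centralizer_closure, closure_le]
  intro z hz
  rw [SetLike.mem_coe, mem_centralizer_iff]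
  intro w hw
  rcases hz with rfl | rfl <;> rcases hw with rfl | rfl
  exacts [rfl, hc.eq.symm, hc.eq, rfl]

theorem commute_of_conj_generates [Finite G] (hG : IsPGroup p G) (x y : G)
    (h : Subgroup.closure {x, y * x * y⁻¹} = ⊤) : Commute x y := by
  have h1 : zpowers x ⊔ frattini G = ⊤ := by
    rw [eq_top_iff, ← h, closure_le]
    rintro z (rfl | rfl)
    · exact mem_sup_left (mem_zpowers _)
    · rw [show y * x * y⁻¹ = x * ⁅x⁻¹, y⁆ by rw [commutatorElement_def]; group]
      exact mul_mem_sup (mem_zpowers _)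
        (CfsgLib.PGroup.commutator_le_frattini hG
          (commutator_mem_commutator (mem_top _) (mem_top _)))
  have h2 : zpowers x = ⊤ := frattini_nongenerating h1
  obtain ⟨k, rfl⟩ : y ∈ zpowers x := h2 ▸ mem_top y
  exact (Commute.refl x).zpow_right k

theorem omega_aux : ∀ (m : ℕ) (G : Type u) [Group G] [Finite G], Nat.card G < m →
    Cfsg.IsRegularPGroup p G → ∀ (n : ℕ) (x y : G),
      (x ^ p ^ n = 1 → y ^ p ^ n = 1 → (x * y) ^ p ^ n = 1) ∧
      (x ^ p ^ n = y ^ p ^ n → (x * y⁻¹) ^ p ^ n = 1) := by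
  intro m
  induction m with
  | zero => intro G _ _ h; exact absurd h (Nat.not_lt_zero _)
  | succ m ih =>
    intro G _ _ hcard hG n x y
    have sub : ∀ (H : Subgroup G), H ≠ ⊤ → ∀ (a b : H),
        (a ^ p ^ n = 1 → b ^ p ^ n = 1 → (a * b) ^ p ^ n = 1) ∧
        (a ^ p ^ n = b ^ p ^ n → (a * b⁻¹) ^ p ^ n = 1) := by
      intro H hH a b
      have hlt : Nat.card H < Nat.card G := by
        refine lt_of_le_of_ne (Subgroup.card_le_card_group H) fun e => hH ?_
        exact Subgroup.eq_top_of_card_eq H e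
      exact ih H (by omega) (isRegular_subgroup hG H) n a b
    by_cases hK : Subgroup.closure {x, y} = ⊤
    · by_cases hxy : Commute x y
      · exact ⟨fun hx hy => by rw [hxy.mul_pow, hx, hy, one_mul],
          fun h => by rw [hxy.inv_right.mul_pow, inv_pow, h, mul_inv_cancel]⟩
      have hne : commutator G ≠ ⊤ := by
        intro e
        haveI : Nontrivial G := ⟨⟨x * y, y * x, fun e' => hxy e'⟩⟩
        exact CfsgLib.PGroup.frattini_ne_top
          (top_le_iff.1 (e ▸ CfsgLib.PGroup.commutator_le_frattini hG.1))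
      -- the commutator subgroup has exponent dividing `p ^ n` as soon as `⁅x, y⁆` does
      have hexp : ⁅x, y⁆ ^ p ^ n = 1 → ∀ z ∈ commutator G, z ^ p ^ n = 1 := by
        intro hd z hz
        let M : Subgroup G :=
          { carrier := {z | z ∈ commutator G ∧ z ^ p ^ n = 1}
            one_mem' := ⟨one_mem _, one_pow _⟩
            mul_mem' := fun {a b} ha hb => ⟨mul_mem ha.1 hb.1, by
              have h1 := (sub _ hne ⟨a, ha.1⟩ ⟨b, hb.1⟩).1 (Subtype.ext (by simpa using ha.2))
                (Subtype.ext (by simpa using hb.2))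
              simpa using congrArg Subtype.val h1⟩
            inv_mem' := fun {a} ha => ⟨inv_mem ha.1, by rw [inv_pow, ha.2, inv_one]⟩ }
        haveI : M.Normal := ⟨fun a ha g => ⟨Subgroup.Normal.conj_mem inferInstance a ha.1 g,
          by rw [conj_pow, ha.2, mul_one, mul_inv_cancel]⟩⟩
        have hle : ⁅Subgroup.closure {x, y}, Subgroup.closure {x, y}⁆ ≤ M :=
          commutator_le_of_pair
            (show ⁅x, y⁆ ∈ M from ⟨commutator_mem_commutator (mem_top x) (mem_top y), hd⟩)
        rw [hK, ← commutator_def] at hle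
        exact (hle hz).2
      have hfin : (∀ z ∈ commutator G, z ^ p ^ n = 1) → ∀ a b : G,
          (a * b) ^ p ^ n = a ^ p ^ n * b ^ p ^ n := by
        intro he a b
        obtain ⟨c, hc, h⟩ := hG.2 a b n
        rw [powerClosure_eq_bot fun z hz =>
          he z (commutator_mono le_top le_top hz), mem_bot] at hc
        rw [h, hc, mul_one]
      constructor
      · intro hx hy
        have hH : Subgroup.closure {x, y * x * y⁻¹} ≠ ⊤ :=
          fun e => hxy (commute_of_conj_generates hG.1 x y e)
        have h1 := (sub _ hH ⟨x, subset_closure (Or.inl rfl)⟩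
          ⟨y * x⁻¹ * y⁻¹, by
            rw [show y * x⁻¹ * y⁻¹ = (y * x * y⁻¹)⁻¹ by group]
            exact inv_mem (subset_closure (Or.inr rfl))⟩).1 (Subtype.ext (by simpa using hx))
          (Subtype.ext (by simp [conj_pow, inv_pow, hx]))
        have h2 : ⁅x, y⁆ ^ p ^ n = 1 := by
          simpa [commutatorElement_def, mul_assoc] using congrArg Subtype.val h1
        rw [hfin (hexp h2), hx, hy, one_mul]
      · intro h
        have hH : Subgroup.closure {y, x * y * x⁻¹} ≠ ⊤ :=
          fun e => hxy (commute_of_conj_generates hG.1 y x e).symm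
        have h0 : (x * y * x⁻¹) ^ p ^ n = y ^ p ^ n := by
          rw [conj_pow, ← h, ((Commute.refl x).pow_right _).eq, mul_inv_cancel_right]
        have h1 := (sub _ hH ⟨x * y * x⁻¹, subset_closure (Or.inr rfl)⟩
          ⟨y, subset_closure (Or.inl rfl)⟩).2 (Subtype.ext (by simpa using h0))
        have h2 : ⁅x, y⁆ ^ p ^ n = 1 := by
          simpa [commutatorElement_def, mul_assoc] using congrArg Subtype.val h1
        rw [hfin (hexp h2), inv_pow, h, mul_inv_cancel]
    · have h1 := sub _ hK ⟨x, subset_closure (Or.inl rfl)⟩ ⟨y, subset_closure (Or.inr rfl)⟩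
      constructor
      · intro hx hy
        simpa using congrArg Subtype.val (h1.1 (Subtype.ext (by simpa using hx))
          (Subtype.ext (by simpa using hy)))
      · intro h
        simpa using congrArg Subtype.val (h1.2 (Subtype.ext (by simpa using h)))

theorem pow_mul_eq_one [Finite G] (hG : Cfsg.IsRegularPGroup p G) {n : ℕ} {x y : G}
    (hx : x ^ p ^ n = 1) (hy : y ^ p ^ n = 1) : (x * y) ^ p ^ n = 1 :=
  (omega_aux (Nat.card G + 1) G (Nat.lt_succ_self _) hG n x y).1 hx hy

/-- The subgroup of elements of order dividing `p ^ n`. -/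
def omega [Finite G] (hG : Cfsg.IsRegularPGroup p G) (n : ℕ) : Subgroup G where
  carrier := {x | x ^ p ^ n = 1}
  one_mem' := one_pow _
  mul_mem' := fun ha hb => pow_mul_eq_one hG ha hb
  inv_mem' := fun {a} (ha : a ^ p ^ n = 1) => show a⁻¹ ^ p ^ n = 1 by rw [inv_pow, ha, inv_one]

theorem omega_characteristic [Finite G] (hG : Cfsg.IsRegularPGroup p G) (n : ℕ) :
    (omega hG n).Characteristic := by
  refine characteristic_iff_le_comap.2 fun φ x hx => ?_
  change φ x ^ p ^ n = 1
  rw [← map_pow, show x ^ p ^ n = 1 from hx, map_one]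

theorem pow_eq_pow_iff [Finite G] (hG : Cfsg.IsRegularPGroup p G) (n : ℕ) (a b : G) :
    a ^ p ^ n = b ^ p ^ n ↔ (a * b⁻¹) ^ p ^ n = 1 := by
  refine ⟨(omega_aux (Nat.card G + 1) G (Nat.lt_succ_self _) hG n a b).2, fun h => ?_⟩
  haveI := omega_characteristic hG n
  have hd : ⁅a * b⁻¹, b⁆ ∈ omega hG n := by
    rw [commutatorElement_def, mul_assoc, mul_assoc]
    refine mul_mem h ?_
    rw [← mul_assoc]
    exact Subgroup.Normal.conj_mem inferInstance _ ((omega hG n).inv_mem h) b
  obtain ⟨c, hc, he⟩ := hG.2 (a * b⁻¹) b n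
  rw [powerClosure_eq_bot fun z hz => commutator_le_of_pair hd hz, mem_bot] at hc
  rw [inv_mul_cancel_right, h, one_mul, hc, mul_one] at he
  exact he

end CfsgLib.Regular82
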