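import Mathlib

namespace CfsgLib.ThreeSub82

/-- The three subgroup lemma modulo a normal subgroup. -/
theorem commutator_commutator_le_of_rotate {G : Type*} [Group G] (N : Subgroup G) [N.Normal]
    {A B C : Subgroup G} (h1 : ⁅⁅B, C⁆, A⁆ ≤ N) (h2 : ⁅⁅C, A⁆, B⁆ ≤ N) : ⁅⁅A, B⁆, C⁆ ≤ N := by
  have key : ∀ S : Subgroup G, S.map (QuotientGroup.mk' N) = ⊥ ↔ S ≤ N := fun S => by
    rw [Subgroup.map_eq_bot_iff, QuotientGroup.ker_mk']
  rw [← key] at h1 h2 ⊢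
  rw [Subgroup.map_commutator, Subgroup.map_commutator] at h1 h2 ⊢
  exact Subgroup.commutator_commutator_eq_bot_of_rotate h1 h2

end CfsgLib.ThreeSub82
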