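import Mathlib
import Cfsg.Prelude.Def_PLocal
import Cfsg.Agent.Lib.H82.PolySeq
import Cfsg.Agent.Lib.H82.Regular
import Cfsg.Agent.Lib.H82.ThreeSubgroup

/-!
# Groups of class less than `p` are regular

The Hall–Petrescu formula, read off from polynomial sequences.
-/

namespace CfsgLib.HallPetrescu82

open Subgroup CfsgLib.PolySeq82

variable {G : Type*} [Group G]

/-- The filtration `G, G, G', …` from the lower central series. -/
def lcsTerm (G : Type*) [Group G] (i : ℕ) : Subgroup G := (⊤ : Subgroup G).lowerCentralSeries (i - 1)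

theorem lcs_commutator (i j : ℕ) :
    ⁅(⊤ : Subgroup G).lowerCentralSeries i, (⊤ : Subgroup G).lowerCentralSeries j⁆ ≤
      (⊤ : Subgroup G).lowerCentralSeries (i + j + 1) := by
  induction j generalizing i with
  | zero => exact le_rfl
  | succ j ih =>
    rw [Subgroup.lowerCentralSeries_succ, Subgroup.commutator_comm ((⊤ : Subgroup G).lowerCentralSeries i)]
    refine CfsgLib.ThreeSub82.commutator_commutator_le_of_rotate _ ?_ ?_
    · rw [Subgroup.commutator_comm ⊤ ((⊤ : Subgroup G).lowerCentralSeries i)]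
      refine (le_of_eq ?_).trans ((ih (i + 1)).trans (le_of_eq ?_))
      · rfl
      · congr 1; omega
    · refine (Subgroup.commutator_mono (ih i) le_rfl).trans (le_of_eq ?_)
      rfl

/-- The filtration attached to a nilpotent group. -/
def lcsFilt (G : Type*) [Group G] (c : ℕ) (hc : (⊤ : Subgroup G).lowerCentralSeries (c - 1) = ⊥) :
    Filt G where
  F := lcsTerm G
  c := c
  normal := fun i => by rw [lcsTerm]; infer_instance
  anti := fun i j h => (⊤ : Subgroup G).lowerCentralSeries_antitone (Nat.sub_le_sub_right h 1)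
  comm := fun i j => by
    rw [lcsTerm, lcsTerm, lcsTerm]
    exact (lcs_commutator _ _).trans ((⊤ : Subgroup G).lowerCentralSeries_antitone (by omega))
  bot := fun i hi => le_bot_iff.1
    (((⊤ : Subgroup G).lowerCentralSeries_antitone (Nat.sub_le_sub_right hi 1)).trans hc.le)

theorem pow_dvd_choose {p e m : ℕ} (hp : p.Prime) (h1 : 1 ≤ m) (h2 : m < p) :
    p ^ e ∣ (p ^ e).choose m := by
  obtain ⟨q, hq⟩ : ∃ q, p ^ e = q + 1 :=
    ⟨p ^ e - 1, by have := pow_pos hp.pos e; omega⟩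
  obtain ⟨m', rfl⟩ : ∃ m', m = m' + 1 := ⟨m - 1, by omega⟩
  have h3 : p ^ e ∣ (p ^ e).choose (m' + 1) * (m' + 1) :=
    ⟨q.choose m', by rw [hq, ← Nat.add_one_mul_choose_eq]⟩
  exact ((hp.coprime_iff_not_dvd.2 fun hd => absurd (Nat.le_of_dvd (by omega) hd)
    (by omega)).pow_left e).dvd_of_dvd_mul_right h3

/-- Hall–Petrescu, in a group of class less than `p`. -/
theorem mul_pow_prime_pow {p : ℕ} [Fact p.Prime]
    (hc : (⊤ : Subgroup G).lowerCentralSeries (p - 1) = ⊥) (a b : G) (e : ℕ) :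
    ∃ c ∈ Cfsg.powerClosure p e (commutator G),
      (a * b) ^ p ^ e = a ^ p ^ e * b ^ p ^ e * c := by
  obtain ⟨𝔉, h𝔉⟩ : ∃ 𝔉 : Filt G, 𝔉 = lcsFilt G p hc := ⟨_, rfl⟩
  have hF1 : ∀ x : G, x ∈ 𝔉.F (0 + 1) := fun x => by rw [h𝔉]; exact Subgroup.mem_top x
  let g : ℤ → G := (binom b 1)⁻¹ * (binom a 1)⁻¹ * binom (a * b) 1
  have hgQ : g ∈ Q 𝔉 0 := mul_mem (mul_mem (inv_mem (binom_mem 1 0 b (hF1 b)))
    (inv_mem (binom_mem 1 0 a (hF1 a)))) (binom_mem 1 0 (a * b) (hF1 (a * b)))
  have hgn : ∀ n : ℕ, g n = (b ^ n)⁻¹ * (a ^ n)⁻¹ * (a * b) ^ n := fun n => by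
    simp [g, binom_natCast, Nat.choose_one_right]
  have hcomm : ∀ m, 2 ≤ m → 𝔉.F m ≤ commutator G := fun m hm => by
    rw [h𝔉, ← Subgroup.top_lowerCentralSeries_one]
    exact (⊤ : Subgroup G).lowerCentralSeries_antitone (by omega)
  have key : ∀ d m, p ≤ m + d → 2 ≤ m → ∀ f ∈ Q 𝔉 0, (∀ n : ℕ, n < m → f n = 1) →
      f ((p ^ e : ℕ) : ℤ) ∈ Cfsg.powerClosure p e (commutator G) := by
    intro d
    induction d with
    | zero =>
      intro m hm _ f hf h0
      rw [eq_one_of_vanish (s := 0) (m := m) (by rw [h𝔉]; simpa [lcsFilt] using hm) hf h0]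
      exact one_mem _
    | succ d ih =>
      intro m hm h2 f hf h0
      rcases le_or_gt p m with hpm | hpm
      · rw [eq_one_of_vanish (s := 0) (m := m) (by rw [h𝔉]; simpa [lcsFilt] using hpm) hf h0]
        exact one_mem _
      have hx : f m ∈ 𝔉.F (0 + m) := value_mem m 0 f hf h0
      have hf' : (binom (f m) m)⁻¹ * f ∈ Q 𝔉 0 := mul_mem (inv_mem (binom_mem m 0 _ hx)) hf
      have h0' : ∀ n : ℕ, n < m + 1 → ((binom (f m) m)⁻¹ * f) n = 1 := by
        intro n hn
        simp only [Pi.mul_apply, Pi.inv_apply, binom_natCast]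
        rcases Nat.lt_or_ge n m with h | h
        · rw [h0 n h, Nat.choose_eq_zero_of_lt h]; simp
        · obtain rfl : n = m := by omega
          simp
      have h3 := ih (m + 1) (by omega) (by omega) _ hf' h0'
      simp only [Pi.mul_apply, Pi.inv_apply, binom_natCast] at h3
      obtain ⟨t, ht⟩ := pow_dvd_choose (e := e) (Fact.out : p.Prime) (by omega : 1 ≤ m) hpm
      have h4 : f m ^ (p ^ e).choose m ∈ Cfsg.powerClosure p e (commutator G) := by
        refine Subgroup.subset_closure ⟨f m ^ t, pow_mem (hcomm (0 + m) (by omega) hx) t, ?_⟩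
        rw [ht, mul_comm, pow_mul]
      simpa using mul_mem h4 h3
  refine ⟨g ((p ^ e : ℕ) : ℤ), key p 2 (by omega) le_rfl g hgQ fun n hn => ?_, ?_⟩
  · rw [hgn]
    rcases Nat.lt_or_ge n 1 with h | h
    · obtain rfl : n = 0 := by omega
      simp
    · obtain rfl : n = 1 := by omega
      simp [mul_assoc]
  · rw [hgn]
    simp [mul_assoc]

theorem isRegular_of_class_lt {p : ℕ} [Fact p.Prime] (hG : IsPGroup p G)
    (hcl : (⊤ : Subgroup G).lowerCentralSeries (p - 1) = ⊥) : Cfsg.IsRegularPGroup p G := by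
  refine ⟨hG, fun a b n => ?_⟩
  obtain ⟨H, hH⟩ : ∃ H : Subgroup G, H = Subgroup.closure {a, b} := ⟨_, rfl⟩
  have hc : (⊤ : Subgroup H).lowerCentralSeries (p - 1) = ⊥ := by
    rw [← Subgroup.map_eq_bot_iff_of_injective _ H.subtype_injective,
      Subgroup.map_lowerCentralSeries, eq_bot_iff, ← hcl]
    have hmono : ∀ i, ((⊤ : Subgroup H).map H.subtype).lowerCentralSeries i ≤
        (⊤ : Subgroup G).lowerCentralSeries i := by
      intro i
      induction i with
      | zero => exact le_top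
      | succ i ih =>
        simp only [Subgroup.lowerCentralSeries_succ]
        exact Subgroup.commutator_mono ih le_top
    exact hmono _
  have ha : a ∈ H := hH ▸ Subgroup.subset_closure (Or.inl rfl)
  have hb : b ∈ H := hH ▸ Subgroup.subset_closure (Or.inr rfl)
  obtain ⟨c, hcm, hceq⟩ := mul_pow_prime_pow hc (⟨a, ha⟩ : H) ⟨b, hb⟩ n
  refine ⟨(c : G), ?_, by simpa using congrArg Subtype.val hceq⟩
  have h1 := Subgroup.mem_map_of_mem H.subtype hcm
  rw [CfsgLib.Regular82.map_powerClosure, Subgroup.map_subtype_commutator] at h1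
  rw [← hH]
  exact h1

end CfsgLib.HallPetrescu82
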