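import Mathlib
import Cfsg.Agent.Lib.PCore.Basic
import Cfsg.Agent.Lib.PCore.PSolvable
import Cfsg.Agent.Lib.PGroup.Frattini
import Cfsg.Agent.Lib.Coprime.Commutator

/-!
# `G / O_{p',p}(G)` is faithful on the Frattini quotient
-/

namespace CfsgLib.HallHigmanFrattini82

open Subgroup
open scoped commutatorElement

variable {G : Type*} [Group G] [Finite G] {p : ℕ} [Fact p.Prime]

/-- With trivial `p'`-core, an element acting trivially on `O_p / Φ(O_p)` lies in `O_p`. -/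
theorem mem_pCore_of_trivial_on_frattini (h : Cfsg.IsPSolvable p G)
    (h0 : Cfsg.pPrimeCore p G = ⊥) (g : G) :
    (∀ x ∈ Cfsg.pCore p G,
        g * x * g⁻¹ * x⁻¹ ∈ (frattini (Cfsg.pCore p G)).map (Cfsg.pCore p G).subtype) ↔
      g ∈ Cfsg.pCore p G := by
  obtain ⟨V, hV⟩ : ∃ V, V = Cfsg.pCore p G := ⟨_, rfl⟩
  rw [← hV]
  have hVp : IsPGroup p V := hV ▸ CfsgLib.PCore.pCore_isPGroup
  haveI hVn : V.Normal := by
    rw [hV, Cfsg.pCore]
    exact Subgroup.sSup_normal _ fun A hA => hA.1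
  obtain ⟨F, hF⟩ : ∃ F, F = (frattini V).map V.subtype := ⟨_, rfl⟩
  rw [← hF]
  haveI hFn : F.Normal := by rw [hF]; infer_instance
  have hVD : ∀ a ∈ V, ∀ x ∈ V, a * x * a⁻¹ * x⁻¹ ∈ F := fun a ha x hx =>
    hF ▸ ⟨⁅(⟨a, ha⟩ : V), ⟨x, hx⟩⁆, CfsgLib.PGroup.commutator_le_frattini hVp
      (commutator_mem_commutator (mem_top _) (mem_top _)), by simp [commutatorElement_def]⟩
  refine ⟨fun hg => ?_, fun hg x hx => hVD g hg x hx⟩
  -- the elements acting trivially form a normal subgroup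
  let D : Subgroup G :=
    { carrier := {a | ∀ x ∈ V, a * x * a⁻¹ * x⁻¹ ∈ F}
      one_mem' := fun x _ => by simp
      mul_mem' := fun {a b} ha hb x hx => by
        have h1 := ha (b * x * b⁻¹) (hVn.conj_mem x hx b)
        have h2 := hb x hx
        have : a * b * x * (a * b)⁻¹ * x⁻¹ =
            (a * (b * x * b⁻¹) * a⁻¹ * (b * x * b⁻¹)⁻¹) * (b * x * b⁻¹ * x⁻¹) := by group
        rw [this]
        exact F.mul_mem h1 h2
      inv_mem' := fun {a} ha x hx => by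
        have hx' : a⁻¹ * x * a ∈ V := by simpa using hVn.conj_mem x hx a⁻¹
        have h1 := F.inv_mem (ha _ hx')
        have : a⁻¹ * x * a⁻¹⁻¹ * x⁻¹ =
            (a * (a⁻¹ * x * a) * a⁻¹ * (a⁻¹ * x * a)⁻¹)⁻¹ := by group
        rw [this]
        exact h1 }
  haveI hDn : D.Normal := ⟨fun a ha c x hx => by
    have hx' : c⁻¹ * x * c ∈ V := by simpa using hVn.conj_mem x hx c⁻¹
    have h1 := hFn.conj_mem _ (ha _ hx') c
    have : c * a * c⁻¹ * x * (c * a * c⁻¹)⁻¹ * x⁻¹ =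
        c * (a * (c⁻¹ * x * c) * a⁻¹ * (c⁻¹ * x * c)⁻¹) * c⁻¹ := by group
    rw [this]
    exact h1⟩
  have hp' : ∀ a ∈ D, (orderOf a).Coprime p → a = 1 := by
    intro a ha hcop
    obtain ⟨k, hk⟩ := (hVp.to_subgroup (frattini V)).exists_card_eq
    have h1 := CfsgLib.Coprime.le_centralizer_of_trivial_on_frattini (zpowers a) V
      (fun b _ => by rw [Subgroup.normalizer_eq_top]; exact mem_top b)
      (by rw [Nat.card_zpowers, hk]; exact hcop.pow_right k)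
      (fun b hb x hx => hF ▸ (zpowers_le.2 ha : zpowers a ≤ D) hb x hx)
    have h2 : a ∈ V := hV ▸ CfsgLib.PCore.centralizer_pCore_le h h0 (hV ▸ h1 (mem_zpowers a))
    obtain ⟨j, hj⟩ := IsPGroup.iff_orderOf.1 hVp ⟨a, h2⟩
    rw [Subgroup.orderOf_mk] at hj
    rw [← orderOf_eq_one_iff]
    exact Nat.eq_one_of_dvd_coprimes (hcop.pow_right j) dvd_rfl (hj ▸ dvd_rfl)
  have hDp : IsPGroup p D := by
    intro a
    obtain ⟨k, m, hm, hkm⟩ := Nat.exists_eq_pow_mul_and_not_dvd (orderOf_pos (a : G)).ne' p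
      (Fact.out : p.Prime).ne_one
    refine ⟨k, Subtype.ext ?_⟩
    have h1 : orderOf ((a : G) ^ p ^ k) = m := by
      rw [orderOf_pow_of_dvd (pow_ne_zero _ (Fact.out : p.Prime).ne_zero) ⟨m, hkm⟩, hkm,
        Nat.mul_div_cancel_left _ (pow_pos (Fact.out : p.Prime).pos k)]
    simpa using hp' _ (D.pow_mem a.2 _)
      (h1 ▸ ((Fact.out : p.Prime).coprime_iff_not_dvd.2 hm).symm)
  exact hV ▸ CfsgLib.PCore.le_pCore hDn hDp hg

theorem frattini_map_equiv {A B : Type*} [Group A] [Group B] (e : A ≃* B) :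
    (frattini A).map e.toMonoidHom = frattini B := by
  refine le_antisymm (Subgroup.map_le_iff_le_comap.2
    (frattini_le_comap_frattini_of_surjective e.surjective)) ?_
  intro x hx
  refine ⟨e.symm x, ?_, e.apply_symm_apply x⟩
  exact frattini_le_comap_frattini_of_surjective (φ := e.symm.toMonoidHom) e.symm.surjective hx

theorem pCore_pPrime_frattini (g : G) (h : Cfsg.IsPSolvable p G) :
    (∀ x ∈ Cfsg.pPrimePCore p G, g * x * g⁻¹ * x⁻¹ ∈
      ((frattini (↥(Cfsg.pPrimePCore p G) ⧸ (Cfsg.pPrimeCore p G).subgroupOf (Cfsg.pPrimePCore p G))).comap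
        (QuotientGroup.mk' ((Cfsg.pPrimeCore p G).subgroupOf (Cfsg.pPrimePCore p G)))).map
          (Cfsg.pPrimePCore p G).subtype) ↔ g ∈ Cfsg.pPrimePCore p G := by
  obtain ⟨P1, hP1⟩ : ∃ P, P = Cfsg.pPrimePCore p G := ⟨_, rfl⟩
  let π := QuotientGroup.mk' (Cfsg.pPrimeCore p G)
  have hmap : P1.map π = Cfsg.pCore p (G ⧸ Cfsg.pPrimeCore p G) :=
    hP1 ▸ CfsgLib.PCore.map_pPrimePCore
  have hcomap : ∀ a, a ∈ P1 ↔ π a ∈ Cfsg.pCore p (G ⧸ Cfsg.pPrimeCore p G) := fun a => by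
    rw [hP1]; exact Iff.rfl
  let ψ : P1 →* Cfsg.pCore p (G ⧸ Cfsg.pPrimeCore p G) :=
    (π.comp P1.subtype).codRestrict _ fun a => (hcomap a).1 a.2
  have hψ : Function.Surjective ψ := by
    rintro ⟨y, hy⟩
    obtain ⟨x, rfl⟩ := QuotientGroup.mk'_surjective (Cfsg.pPrimeCore p G) y
    exact ⟨⟨x, (hcomap x).2 hy⟩, rfl⟩
  have hker : ψ.ker = (Cfsg.pPrimeCore p G).subgroupOf P1 := by
    ext a
    rw [MonoidHom.mem_ker, Subgroup.mem_subgroupOf, ← QuotientGroup.eq_one_iff]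
    exact Subtype.ext_iff
  let e := (QuotientGroup.quotientMulEquivOfEq hker).symm.trans
    (QuotientGroup.quotientKerEquivOfSurjective ψ hψ)
  have he : ∀ a : P1, e (QuotientGroup.mk' _ a) = ψ a := fun a => rfl
  have key := mem_pCore_of_trivial_on_frattini (p := p)
    (CfsgLib.PCore.isPSolvable_quotient h (Cfsg.pPrimeCore p G))
    CfsgLib.PCore.pPrimeCore_quotient_pPrimeCore (π g)
  subst hP1
  rw [hcomap, ← key]
  constructor
  · intro h1 y hy
    obtain ⟨x, rfl⟩ := QuotientGroup.mk'_surjective (Cfsg.pPrimeCore p G) y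
    obtain ⟨z, hz, hzeq⟩ := h1 x ((hcomap x).2 hy)
    refine ⟨ψ z, ?_, ?_⟩
    · rw [← frattini_map_equiv e]
      exact ⟨_, hz, he z⟩
    · change π (z : G) = _
      rw [show (z : G) = g * x * g⁻¹ * x⁻¹ from hzeq]
      simp [π]
  · intro h1 x hx
    obtain ⟨y, hy, hyeq⟩ := h1 (π x) ((hcomap x).1 hx)
    haveI : (Cfsg.pPrimePCore p G).Normal := CfsgLib.PCore.pPrimePCore_normal_inst
    have hmem : g * x * g⁻¹ * x⁻¹ ∈ Cfsg.pPrimePCore p G :=
      Subgroup.mul_mem _ (Subgroup.Normal.conj_mem inferInstance x hx g) (Subgroup.inv_mem _ hx)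
    refine ⟨⟨_, hmem⟩, ?_, rfl⟩
    change QuotientGroup.mk' _ _ ∈ frattini _
    rw [← frattini_map_equiv e] at hy
    obtain ⟨w, hw, hwy⟩ := hy
    suffices heq : QuotientGroup.mk' _ (⟨_, hmem⟩ : Cfsg.pPrimePCore p G) = w by rw [heq]; exact hw
    apply e.injective
    rw [he]
    refine Subtype.ext ?_
    change π (g * x * g⁻¹ * x⁻¹) = _
    rw [show ((e w : Cfsg.pCore p _) : G ⧸ Cfsg.pPrimeCore p G) = y from congrArg Subtype.val hwy]
    rw [show (y : G ⧸ Cfsg.pPrimeCore p G) = π g * π x * (π g)⁻¹ * (π x)⁻¹ from hyeq]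
    simp

end CfsgLib.HallHigmanFrattini82
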