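import Mathlib
import Cfsg.Agent.Lib.Solvable.Gaschutz

/-!
# Gaschütz: complements from complements over Sylow subgroups
-/

set_option autoImplicit false

namespace CfsgLib.GaschutzLocal82

open Subgroup

variable {G : Type*} [Group G] [Finite G]

/-- The elements of the abelian subgroup `A` killed by `m`. -/
def torsion (A : Subgroup G) (hA : ∀ a ∈ A, ∀ b ∈ A, a * b = b * a) (m : ℕ) : Subgroup G where
  carrier := {x | x ∈ A ∧ x ^ m = 1}
  mul_mem' := by
    rintro a b ⟨ha, ha'⟩ ⟨hb, hb'⟩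
    refine ⟨A.mul_mem ha hb, ?_⟩
    rw [Commute.mul_pow (hA a ha b hb), ha', hb', one_mul]
  one_mem' := ⟨A.one_mem, one_pow m⟩
  inv_mem' := by
    rintro a ⟨ha, ha'⟩
    exact ⟨A.inv_mem ha, by rw [inv_pow, ha', inv_one]⟩

theorem mem_torsion {A : Subgroup G} {hA : ∀ a ∈ A, ∀ b ∈ A, a * b = b * a} {m : ℕ} {x : G} :
    x ∈ torsion A hA m ↔ x ∈ A ∧ x ^ m = 1 := Iff.rfl

theorem torsion_normal (A : Subgroup G) [A.Normal] (hA : ∀ a ∈ A, ∀ b ∈ A, a * b = b * a) (m : ℕ) :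
    (torsion A hA m).Normal :=
  ⟨fun a ha g => ⟨Normal.conj_mem inferInstance a ha.1 g, by
    rw [conj_pow, ha.2, mul_one, mul_inv_cancel]⟩⟩

/-- One prime at a time. -/
theorem step (A : Subgroup G) [A.Normal] (hA : ∀ a ∈ A, ∀ b ∈ A, a * b = b * a) {p : ℕ}
    [hp : Fact p.Prime] {U K : Subgroup G} (hKA : K ⊓ A = ⊥) (hU : K ⊔ A = U)
    (hidx : ¬ p ∣ U.index) :
    ∃ H : Subgroup G, H ⊓ A ≤ torsion A hA (ordCompl[p] (Nat.card A)) ∧
      H.index ∣ Nat.card A ∧ ∃ j, H.index = p ^ j := by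
  obtain ⟨N, hN⟩ : ∃ N, N = torsion A hA (ordCompl[p] (Nat.card A)) := ⟨_, rfl⟩
  rw [← hN]
  haveI hNn : N.Normal := hN ▸ torsion_normal A hA _
  have hNA : N ≤ A := fun x hx => (mem_torsion.1 (hN ▸ hx)).1
  have hNU : N ≤ U := hNA.trans (hU ▸ le_sup_right)
  haveI hAn : (A.map (QuotientGroup.mk' N)).Normal :=
    Normal.map inferInstance _ (QuotientGroup.mk'_surjective N)
  haveI : IsMulCommutative (A.map (QuotientGroup.mk' N) : Subgroup (G ⧸ N)) := ⟨⟨by
    rintro ⟨_, a, ha, rfl⟩ ⟨_, b, hb, rfl⟩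
    refine Subtype.ext ?_
    show QuotientGroup.mk' N a * QuotientGroup.mk' N b = QuotientGroup.mk' N b * QuotientGroup.mk' N a
    rw [← map_mul, hA a ha b hb, map_mul]⟩⟩
  have hpg : IsPGroup p (A.map (QuotientGroup.mk' N) : Subgroup (G ⧸ N)) := by
    rintro ⟨_, a, ha, rfl⟩
    refine ⟨(Nat.card A).factorization p, Subtype.ext ?_⟩
    show (QuotientGroup.mk' N a) ^ p ^ (Nat.card A).factorization p = 1
    rw [← map_pow]
    refine (QuotientGroup.eq_one_iff _).2 (hN ▸ mem_torsion.2 ⟨A.pow_mem ha _, ?_⟩)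
    rw [← pow_mul, Nat.ordProj_mul_ordCompl_eq_self]
    exact orderOf_dvd_iff_pow_eq_one.1 (Subgroup.orderOf_dvd_natCard A ha)
  obtain ⟨j, hj⟩ := IsPGroup.iff_card.1 hpg
  have hcop : (Nat.card (A.map (QuotientGroup.mk' N) : Subgroup (G ⧸ N))).Coprime
      (U.map (QuotientGroup.mk' N)).index := by
    rw [hj, index_map_eq U (QuotientGroup.mk'_surjective N) (by rwa [QuotientGroup.ker_mk'])]
    exact Nat.Coprime.pow_left _ (hp.out.coprime_iff_not_dvd.2 hidx)
  have D : CfsgLib.Gaschutz.Data (A.map (QuotientGroup.mk' N)) (U.map (QuotientGroup.mk' N))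
      (K.map (QuotientGroup.mk' N)) := by
    refine ⟨map_mono (hU ▸ le_sup_right), map_mono (hU ▸ le_sup_left), ?_, ?_⟩
    · rw [eq_bot_iff]
      rintro _ ⟨⟨k, hk, rfl⟩, a, ha, hka⟩
      have h1 : k ∈ A := by
        have h2 : a⁻¹ * k ∈ N := QuotientGroup.eq.1 hka
        simpa using A.mul_mem ha (hNA h2)
      have h3 : k ∈ K ⊓ A := ⟨hk, h1⟩
      rw [hKA, mem_bot] at h3
      rw [mem_bot, h3, map_one]
    · rw [← Subgroup.map_sup, sup_comm, hU]
  obtain ⟨H, hH⟩ := CfsgLib.Gaschutz.exists_complement D hcop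
  refine ⟨H.comap (QuotientGroup.mk' N), ?_, ?_, j, ?_⟩
  · intro x hx
    have h1 : QuotientGroup.mk' N x ∈ A.map (QuotientGroup.mk' N) ⊓ H :=
      ⟨mem_map_of_mem _ hx.2, hx.1⟩
    rw [hH.disjoint.eq_bot, mem_bot] at h1
    exact (QuotientGroup.eq_one_iff _).1 h1
  · rw [index_comap_of_surjective _ (QuotientGroup.mk'_surjective N), hH.index_eq_card]
    exact card_map_dvd _ _
  · rw [index_comap_of_surjective _ (QuotientGroup.mk'_surjective N), hH.index_eq_card, hj]

/-- A complement exists as soon as one exists over a Sylow subgroup for each prime. -/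
theorem exists_complement (A : Subgroup G) [A.Normal] (hA : ∀ a ∈ A, ∀ b ∈ A, a * b = b * a)
    (h : ∀ p : ℕ, p.Prime → p ∣ Nat.card A →
      ∃ U K : Subgroup G, K ⊓ A = ⊥ ∧ K ⊔ A = U ∧ ¬ p ∣ U.index) :
    ∃ H : Subgroup G, H.IsComplement' A := by
  have key : ∀ p : (Nat.card A).primeFactors, ∃ H : Subgroup G,
      H ⊓ A ≤ torsion A hA (ordCompl[(p : ℕ)] (Nat.card A)) ∧
      H.index ∣ Nat.card A ∧ ∃ j, H.index = (p : ℕ) ^ j := fun p => by
    haveI : Fact (p : ℕ).Prime := ⟨Nat.prime_of_mem_primeFactors p.2⟩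
    obtain ⟨U, K, h1, h2, h3⟩ := h p Fact.out (Nat.dvd_of_mem_primeFactors p.2)
    exact step A hA h1 h2 h3
  choose H hH1 hH2 j hH3 using key
  obtain ⟨T, hT⟩ : ∃ T : Subgroup G, T = ⨅ p, H p := ⟨_, rfl⟩
  have hbot : T ⊓ A = ⊥ := by
    rw [eq_bot_iff]
    intro x hx
    rw [mem_bot, ← orderOf_eq_one_iff]
    by_contra hne
    obtain ⟨q, hq, hqx⟩ := Nat.exists_prime_and_dvd hne
    have hxA : orderOf x ∣ Nat.card A := Subgroup.orderOf_dvd_natCard A hx.2
    have hmem : q ∈ (Nat.card A).primeFactors :=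
      Nat.mem_primeFactors.2 ⟨hq, hqx.trans hxA, Nat.card_pos.ne'⟩
    have h1 : x ∈ H ⟨q, hmem⟩ ⊓ A := ⟨mem_iInf.1 (hT ▸ hx.1) _, hx.2⟩
    exact Nat.not_dvd_ordCompl hq Nat.card_pos.ne'
      (hqx.trans (orderOf_dvd_of_pow_eq_one (mem_torsion.1 (hH1 _ h1)).2))
  have hfin : ∀ s : Finset {p // p ∈ (Nat.card A).primeFactors},
      (⨅ p ∈ s, H p).index = ∏ p ∈ s, (H p).index := by
    classical
    intro s
    induction s using Finset.induction_on with
    | empty => simp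
    | @insert a s ha ih =>
      rw [Finset.prod_insert ha, Finset.iInf_insert]
      have hc : ((H a).index).Coprime (∏ p ∈ s, (H p).index) := by
        refine Nat.Coprime.prod_right fun b hb => ?_
        rw [hH3 a, hH3 b]
        refine Nat.Coprime.pow _ _ ((Nat.coprime_primes (Nat.prime_of_mem_primeFactors a.2)
          (Nat.prime_of_mem_primeFactors b.2)).2 fun he => ha ?_)
        rwa [Subtype.ext he]
      refine le_antisymm (index_inf_le.trans (le_of_eq (by rw [ih]))) ?_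
      refine Nat.le_of_dvd (Nat.pos_of_ne_zero index_ne_zero_of_finite) ?_
      exact hc.mul_dvd_of_dvd_of_dvd (index_dvd_of_le inf_le_left)
        (ih ▸ index_dvd_of_le inf_le_right)
  have hidx : T.index ∣ Nat.card A := by
    have h0 := hfin Finset.univ
    simp only [Finset.mem_univ, iInf_pos] at h0
    rw [hT, h0]
    refine Finset.prod_dvd_of_isRelPrime ?_ fun p _ => hH2 p
    intro a _ b _ hab
    show IsRelPrime (H a).index (H b).index
    rw [← Nat.coprime_iff_isRelPrime, hH3 a, hH3 b]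
    exact Nat.Coprime.pow _ _ ((Nat.coprime_primes (Nat.prime_of_mem_primeFactors a.2)
      (Nat.prime_of_mem_primeFactors b.2)).2 fun he => hab (Subtype.ext he))
  have hinj : Nat.card T ∣ A.index := by
    rw [index_eq_card]
    refine card_dvd_of_injective ((QuotientGroup.mk' A).comp T.subtype) ?_
    rw [injective_iff_map_eq_one]
    intro x hx
    have h1 : (x : G) ∈ T ⊓ A := ⟨x.2, (QuotientGroup.eq_one_iff _).1 hx⟩
    rw [hbot, mem_bot] at h1
    exact Subtype.ext h1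
  refine ⟨T, isComplement'_of_card_mul_and_disjoint ?_ (disjoint_iff.2 hbot)⟩
  refine Nat.dvd_antisymm ?_ ?_
  · rw [← A.card_mul_index, mul_comm (Nat.card T)]
    exact Nat.mul_dvd_mul_left _ hinj
  · rw [← T.card_mul_index]
    exact Nat.mul_dvd_mul_left _ hidx

end CfsgLib.GaschutzLocal82
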