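import Mathlib
import Cfsg.Agent.Lib.Transfer.NormalComplement
import Cfsg.Agent.Lib.PCore.Basic
import Cfsg.Agent.Lib.PCore.PSolvable
import Cfsg.Agent.Lib.PGroup.Frattini
import Cfsg.Agent.Lib.H82.AutFrattini

/-!
# Normal `p`-complements and sections without an element of order the exponent
-/

set_option autoImplicit false

namespace CfsgLib.ExponentSection82

open Subgroup
open scoped commutatorElement

/-- A section with trivial `p'`-core and no element of order the exponent. -/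
def Bad (p : ℕ) (G : Type*) [Group G] : Prop :=
  ∃ (H : Subgroup G) (N : Subgroup H) (_ : N.Normal), Cfsg.pPrimeCore p (H ⧸ N) = ⊥ ∧
    ∀ k : H ⧸ N, orderOf k ≠ Monoid.exponent (H ⧸ N)

theorem bad_of_injective {p : ℕ} {A G : Type*} [Group A] [Finite A] [Group G] (f : A →* G)
    (hf : Function.Injective f) (h : Bad p A) : Bad p G := by
  obtain ⟨H, N, hN, h1, h2⟩ := h
  let e := H.equivMapOfInjective f hf
  haveI hN' : (N.map e.toMonoidHom).Normal := hN.map _ e.surjective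
  let e' : (H ⧸ N) ≃* (H.map f ⧸ N.map e.toMonoidHom) := QuotientGroup.congr N _ e rfl
  refine ⟨H.map f, N.map e.toMonoidHom, hN', CfsgLib.PCore.pPrimeCore_eq_bot_of_equiv e' h1,
    fun k => ?_⟩
  rw [← e'.apply_symm_apply k, MulEquiv.orderOf_eq, ← Monoid.exponent_eq_of_mulEquiv e']
  exact h2 _

theorem bad_of_surjective {p : ℕ} {G L K : Type*} [Group G] [Finite G] [Group L] [Group K]
    (f : G →* L) (hf : Function.Surjective f) {A : Subgroup L} (g : A →* K)
    (hg : Function.Surjective g) (h1 : Cfsg.pPrimeCore p K = ⊥)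
    (h2 : ∀ k : K, orderOf k ≠ Monoid.exponent K) : Bad p G := by
  let q : A.comap f →* A :=
    (f.comp (A.comap f).subtype).codRestrict A (fun x => x.2)
  have hq : Function.Surjective q := by
    rintro ⟨a, ha⟩
    obtain ⟨x, rfl⟩ := hf a
    exact ⟨⟨x, ha⟩, rfl⟩
  let e := QuotientGroup.quotientKerEquivOfSurjective (g.comp q) (hg.comp hq)
  haveI : Finite K := Finite.of_surjective _ (hg.comp hq)
  refine ⟨A.comap f, (g.comp q).ker, inferInstance,
    CfsgLib.PCore.pPrimeCore_eq_bot_of_equiv e.symm h1, fun k => ?_⟩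
  rw [← MulEquiv.orderOf_eq e k, Monoid.exponent_eq_of_mulEquiv e]
  exact h2 _

section Core

variable {L : Type*} [Group L] [Finite L] {p : ℕ} [hp : Fact p.Prime]

/-- An element normalising an elementary abelian group, moving it. -/
theorem exists_fpf (V : Subgroup L) [V.Normal] (hab : ∀ a ∈ V, ∀ b ∈ V, a * b = b * a)
    (hexp : ∀ a ∈ V, a ^ p = 1) {y : L} (hy : (orderOf y).Coprime p)
    (hmove : ∃ v ∈ V, y * v * y⁻¹ ≠ v) :
    ∃ W : Subgroup L, W ≠ ⊥ ∧ W ≤ V ∧ (∀ w ∈ W, y * w * y⁻¹ ∈ W) ∧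
      ∀ w ∈ W, y * w * y⁻¹ = w → w = 1 := by
  have hVn : V.Normal := inferInstance
  let φ : V →* L :=
    { toFun := fun v => y * v * y⁻¹ * (v : L)⁻¹
      map_one' := by simp
      map_mul' := fun a b => by
        have ha := hVn.conj_mem _ a.2 y
        have hb := hVn.conj_mem _ b.2 y
        show y * ((a : L) * b) * y⁻¹ * ((a : L) * b)⁻¹ =
          y * a * y⁻¹ * (a : L)⁻¹ * (y * b * y⁻¹ * (b : L)⁻¹)
        calc y * ((a : L) * b) * y⁻¹ * ((a : L) * b)⁻¹
            = (y * a * y⁻¹) * ((y * b * y⁻¹ * (b : L)⁻¹) * (a : L)⁻¹) := by group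
          _ = _ := by
            rw [hab _ (V.mul_mem hb (V.inv_mem b.2)) _ (V.inv_mem a.2)]; group }
  have hφV : ∀ v : V, φ v ∈ V := fun v => V.mul_mem (hVn.conj_mem _ v.2 y) (V.inv_mem v.2)
  refine ⟨φ.range, ?_, ?_, ?_, ?_⟩
  · obtain ⟨v, hv, hne⟩ := hmove
    intro hbot
    have h1 : φ ⟨v, hv⟩ ∈ φ.range := ⟨_, rfl⟩
    rw [hbot, mem_bot] at h1
    exact hne (mul_inv_eq_one.1 h1)
  · rintro _ ⟨v, rfl⟩
    exact hφV v
  · rintro _ ⟨v, rfl⟩
    refine ⟨⟨y * v * y⁻¹, hVn.conj_mem _ v.2 y⟩, ?_⟩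
    show y * (y * v * y⁻¹) * y⁻¹ * (y * (v : L) * y⁻¹)⁻¹ = y * (y * v * y⁻¹ * (v : L)⁻¹) * y⁻¹
    group
  · rintro _ ⟨v, rfl⟩ hfix
    obtain ⟨w, hw⟩ : ∃ w, w = φ v := ⟨_, rfl⟩
    have hwV : w ∈ V := hw ▸ hφV v
    rw [← hw] at hfix ⊢
    have key : ∀ i : ℕ, y ^ i * v * (y ^ i)⁻¹ = w ^ i * v := by
      intro i
      induction i with
      | zero => simp
      | succ i ih =>
        have h1 : y * (v : L) * y⁻¹ = w * v := by rw [hw]; simp [φ, mul_assoc]
        have h2 : y * w ^ i * y⁻¹ = w ^ i := by rw [← conj_pow, hfix]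
        calc y ^ (i + 1) * v * (y ^ (i + 1))⁻¹ = y * (y ^ i * v * (y ^ i)⁻¹) * y⁻¹ := by
              rw [pow_succ']; group
          _ = (y * w ^ i * y⁻¹) * (y * v * y⁻¹) := by rw [ih]; group
          _ = _ := by rw [h2, h1, ← mul_assoc, pow_succ]
    have h3 := key (orderOf y)
    rw [pow_orderOf_eq_one, one_mul, inv_one, mul_one, eq_comm, mul_eq_right] at h3
    exact orderOf_eq_one_iff.1 (Nat.eq_one_of_dvd_coprimes hy
      (orderOf_dvd_of_pow_eq_one h3) (orderOf_dvd_of_pow_eq_one (hexp w hwV)))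

theorem bad_of_fpf {G : Type*} [Group G] [Finite G] (f : G →* L) (hf : Function.Surjective f)
    (W : Subgroup L) (hW : W ≠ ⊥) (hexp : ∀ a ∈ W, a ^ p = 1)
    (hab : ∀ a ∈ W, ∀ b ∈ W, a * b = b * a) {y : L} (hy : (orderOf y).Coprime p)
    (hnorm : ∀ w ∈ W, y * w * y⁻¹ ∈ W) (hfpf : ∀ w ∈ W, y * w * y⁻¹ = w → w = 1) :
    Bad p G := by
  have hyN : y ∈ normalizer (W : Set L) := by
    let t : W → W := fun w => ⟨y * w * y⁻¹, hnorm _ w.2⟩
    have ht : Function.Injective t := fun a b h => by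
      have h1 := congrArg Subtype.val h
      exact Subtype.ext (mul_left_cancel (mul_right_cancel h1))
    rw [mem_normalizer_iff]
    intro z
    refine ⟨hnorm z, fun h => ?_⟩
    obtain ⟨⟨w, hw⟩, hwz⟩ := (Finite.injective_iff_surjective.1 ht) ⟨_, h⟩
    have h1 : y * w * y⁻¹ = y * z * y⁻¹ := congrArg Subtype.val hwz
    rwa [← mul_left_cancel (mul_right_cancel h1)]
  obtain ⟨A, hA⟩ : ∃ A, A = W ⊔ zpowers y := ⟨_, rfl⟩
  have hWA : W ≤ A := hA ▸ le_sup_left
  have hyA : y ∈ A := hA ▸ mem_sup_right (mem_zpowers y)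
  have hdec : ∀ a ∈ A, ∃ w ∈ W, ∃ i : ℕ, a = w * y ^ i := by
    intro a ha
    rw [hA, ← SetLike.mem_coe, coe_mul_of_right_le_normalizer_left _ _ (zpowers_le.2 hyN)] at ha
    obtain ⟨w, hw, z, hz, rfl⟩ := ha
    obtain ⟨i, rfl⟩ := mem_powers_iff_mem_zpowers.2 hz
    exact ⟨w, hw, i, rfl⟩
  haveI hcn : (Cfsg.pPrimeCore p A).Normal := by
    rw [Cfsg.pPrimeCore]
    exact Subgroup.sSup_normal _ fun B hB => hB.1
  obtain ⟨D, hD⟩ : ∃ D : Subgroup A, D = Cfsg.pPrimeCore p A := ⟨_, rfl⟩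
  haveI hDn : D.Normal := hD ▸ hcn
  obtain ⟨π, hπ⟩ : ∃ π : A →* A ⧸ D, π = QuotientGroup.mk' D := ⟨_, rfl⟩
  have hπs : Function.Surjective π := hπ ▸ QuotientGroup.mk'_surjective D
  -- `W` meets the `p'`-core trivially
  have hWD : ∀ w : A, (w : L) ∈ W → π w = 1 → w = 1 := by
    intro w hw h1
    rw [hπ] at h1
    have h2 : orderOf w ∣ Nat.card D :=
      Subgroup.orderOf_dvd_natCard D ((QuotientGroup.eq_one_iff w).1 h1)
    have h3 : orderOf w ∣ p := orderOf_dvd_of_pow_eq_one (Subtype.ext (hexp _ hw))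
    exact orderOf_eq_one_iff.1 (Nat.eq_one_of_dvd_coprimes (hD ▸ CfsgLib.PCore.pPrimeCore_coprime) h2 h3)
  have hD0 : Cfsg.pPrimeCore p (A ⧸ D) = ⊥ := by
    subst hD
    exact CfsgLib.PCore.pPrimeCore_quotient_pPrimeCore
  refine bad_of_surjective f hf π hπs hD0 fun k hk => ?_
  obtain ⟨ya, hya⟩ : ∃ ya, ya = π ⟨y, hyA⟩ := ⟨_, rfl⟩
  have hyac : (orderOf ya).Coprime p := by
    refine Nat.Coprime.coprime_dvd_left ?_ hy
    rw [hya]
    exact (orderOf_map_dvd π _).trans (by rw [Subgroup.orderOf_mk])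
  have hfix : ∀ w : A, (w : L) ∈ W → ya * π w * ya⁻¹ = π w → w = 1 := by
    intro w hw h1
    rw [hya, ← map_inv, ← map_mul, ← map_mul, ← mul_inv_eq_one, ← map_inv, ← map_mul] at h1
    have h2 := hWD _ (W.mul_mem (hnorm _ hw) (W.inv_mem hw)) h1
    exact Subtype.ext (hfpf _ hw (mul_inv_eq_one.1 (congrArg Subtype.val h2)))
  -- `p` divides the exponent
  obtain ⟨w₀, hw₀, hw₀1⟩ : ∃ w₀ ∈ W, w₀ ≠ 1 := by
    by_contra hc
    push Not at hc
    exact hW ((eq_bot_iff_forall _).2 hc)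
  have hpk : p ∣ orderOf k := by
    rw [hk]
    refine dvd_trans ?_ (Monoid.order_dvd_exponent (π ⟨w₀, hWA hw₀⟩))
    have h1 : orderOf (π ⟨w₀, hWA hw₀⟩) ∣ p :=
      orderOf_dvd_of_pow_eq_one (by
        rw [← map_pow, show (⟨w₀, hWA hw₀⟩ : A) ^ p = 1 from Subtype.ext (hexp _ hw₀), map_one])
    rcases hp.out.eq_one_or_self_of_dvd _ h1 with h2 | h2
    · exact absurd (congrArg Subtype.val (hWD _ hw₀ (orderOf_eq_one_iff.1 h2))) hw₀1
    · rw [h2]
  have hyk : orderOf ya ∣ orderOf k := hk ▸ Monoid.order_dvd_exponent _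
  obtain ⟨a, rfl⟩ := hπs k
  obtain ⟨w, hw, i, hai⟩ := hdec a a.2
  have ha : π a = π ⟨w, hWA hw⟩ * ya ^ i := by
    rw [hya, ← map_pow, ← map_mul]
    exact congrArg π (Subtype.ext hai)
  -- powers of `π a` modulo the image of `W`
  have hpow : ∀ n : ℕ, ∃ u : A, (u : L) ∈ W ∧ π a ^ n = π u * (ya ^ i) ^ n := by
    intro n
    induction n with
    | zero => exact ⟨1, W.one_mem, by simp⟩
    | succ n ih =>
      obtain ⟨u, hu, he⟩ := ih
      have hmem : (y ^ i) ^ n * w * ((y ^ i) ^ n)⁻¹ ∈ W :=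
        (mem_normalizer_iff.1 (pow_mem (pow_mem hyN i) n) w).1 hw
      refine ⟨u * ((⟨y, hyA⟩ : A) ^ i) ^ n * ⟨w, hWA hw⟩ * (((⟨y, hyA⟩ : A) ^ i) ^ n)⁻¹, ?_, ?_⟩
      · have h1 := W.mul_mem hu hmem
        simpa [mul_assoc] using h1
      · rw [pow_succ, he, ha, map_mul, map_mul, map_mul, map_inv, map_pow, map_pow, ← hya,
          pow_succ]
        group
  -- the order of `ya ^ i`
  have hgen : orderOf ya ∣ orderOf (ya ^ i) := by
    refine hyac.dvd_of_dvd_mul_right (hyk.trans (orderOf_dvd_of_pow_eq_one ?_))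
    obtain ⟨u, hu, he⟩ := hpow (orderOf (ya ^ i))
    rw [pow_mul, he, pow_orderOf_eq_one, mul_one, ← map_pow,
      show u ^ p = 1 from Subtype.ext (hexp _ hu), map_one]
  -- a nontrivial element of `W` commuting with `π a`
  obtain ⟨u, hu, he⟩ := hpow (orderOf (ya ^ i))
  rw [pow_orderOf_eq_one, mul_one] at he
  have hu1 : u ≠ 1 := by
    rintro rfl
    rw [map_one] at he
    have h1 := hpk.trans (orderOf_dvd_of_pow_eq_one he)
    exact hp.out.ne_one (Nat.eq_one_of_dvd_coprimes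
      (Nat.Coprime.coprime_dvd_left (orderOf_pow_dvd i) hyac) h1 dvd_rfl)
  have hc1 : Commute (π a) (π u) := he ▸ (Commute.refl _).pow_right _
  have hc2 : Commute (π ⟨w, hWA hw⟩) (π u) :=
    (show Commute (⟨w, hWA hw⟩ : A) u from Subtype.ext (hab w hw _ hu)).map π
  have hc3 : Commute (ya ^ i) (π u) := by
    have h1 := (hc2.inv_left).mul_left hc1
    rwa [ha, inv_mul_cancel_left] at h1
  have hc4 : Commute ya (π u) := by
    have hz : ya ∈ zpowers (ya ^ i) := by
      have hle : zpowers (ya ^ i) ≤ zpowers ya := zpowers_le.2 (npow_mem_zpowers ya i)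
      rw [eq_of_le_of_card_ge hle (by
        rw [Nat.card_zpowers, Nat.card_zpowers]
        exact Nat.le_of_dvd (orderOf_pos _) hgen)]
      exact mem_zpowers ya
    obtain ⟨j, hj⟩ := mem_zpowers_iff.1 hz
    rw [← hj]
    exact hc3.zpow_left j
  exact hu1 (hfix u hu (by rw [hc4.eq, mul_inv_cancel_right]))

end Core

variable {G : Type*} [Group G] [Finite G] {p : ℕ} [hp : Fact p.Prime]

/-- A normal `p`-subgroup moved by an element of order prime to `p` gives a bad section. -/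
theorem bad_of_normal (Q : Subgroup G) [Q.Normal] (hQ : IsPGroup p Q) {g : G}
    (hg : (orderOf g).Coprime p) (hmove : g ∉ centralizer (Q : Set G)) : Bad p G := by
  obtain ⟨F, hF⟩ : ∃ F, F = (frattini Q).map Q.subtype := ⟨_, rfl⟩
  haveI hFn : F.Normal := by rw [hF]; infer_instance
  haveI : (Q.map (QuotientGroup.mk' F)).Normal :=
    Normal.map inferInstance _ (QuotientGroup.mk'_surjective F)
  have hab : ∀ a ∈ Q.map (QuotientGroup.mk' F), ∀ b ∈ Q.map (QuotientGroup.mk' F),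
      a * b = b * a := by
    rintro _ ⟨a, ha, rfl⟩ _ ⟨b, hb, rfl⟩
    rw [← commutatorElement_eq_one_iff_mul_comm, ← map_commutatorElement]
    exact (QuotientGroup.eq_one_iff _).2 (hF ▸ ⟨⁅(⟨a, ha⟩ : Q), ⟨b, hb⟩⁆,
      CfsgLib.PGroup.commutator_le_frattini hQ
        (commutator_mem_commutator (mem_top _) (mem_top _)), by simp [commutatorElement_def]⟩)
  have hexp : ∀ a ∈ Q.map (QuotientGroup.mk' F), a ^ p = 1 := by
    rintro _ ⟨a, ha, rfl⟩
    rw [← map_pow]
    exact (QuotientGroup.eq_one_iff _).2 (hF ▸ ⟨(⟨a, ha⟩ : Q) ^ p,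
      CfsgLib.PGroup.pow_mem_frattini hQ _, rfl⟩)
  have hy : (orderOf (QuotientGroup.mk' F g)).Coprime p :=
    Nat.Coprime.coprime_dvd_left (orderOf_map_dvd _ g) hg
  have hmv : ∃ v ∈ Q.map (QuotientGroup.mk' F),
      QuotientGroup.mk' F g * v * (QuotientGroup.mk' F g)⁻¹ ≠ v := by
    by_contra hc
    push Not at hc
    apply hmove
    let α : MulAut Q := MulAut.conjNormal g
    have hmemF : ∀ x : Q, (x : G) ∈ F → x ∈ frattini Q := by
      intro x hxF
      rw [hF] at hxF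
      obtain ⟨z, hz, hzx⟩ := hxF
      rwa [← Subtype.ext hzx]
    have hA : ∀ β ∈ zpowers α, ∀ x : Q, β x * x⁻¹ ∈ frattini Q := by
      intro β hβ
      obtain ⟨j, rfl⟩ := mem_powers_iff_mem_zpowers.2 hβ
      clear hβ
      show ∀ x : Q, (α ^ j) x * x⁻¹ ∈ frattini Q
      induction j with
      | zero => intro x; simp
      | succ j ih =>
        intro x
        have h1 : α ((α ^ j) x) * ((α ^ j) x)⁻¹ ∈ frattini Q := by
          refine hmemF _ ?_
          obtain ⟨z, hz⟩ : ∃ z : Q, z = (α ^ j) x := ⟨_, rfl⟩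
          rw [← hz]
          refine (QuotientGroup.eq_one_iff _).1 ?_
          change QuotientGroup.mk' F (((α z : Q) : G) * ((z : Q) : G)⁻¹) = 1
          rw [show ((α z : Q) : G) = g * z * g⁻¹ from MulAut.conjNormal_apply g z, map_mul,
            map_mul, map_mul, map_inv, map_inv, hc _ (mem_map_of_mem _ z.2), mul_inv_cancel]
        have h2 := (frattini Q).mul_mem h1 (ih x)
        rw [pow_succ', MulAut.mul_apply]
        simpa [mul_assoc] using h2
    obtain ⟨n, hn⟩ := IsPGroup.iff_card.1 hQ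
    obtain ⟨r, hr⟩ := hQ.index (frattini Q)
    have h1 := CfsgLib.AutFrattini82.card_aut_trivial_dvd hn hr (zpowers α) hA
    rw [Nat.card_zpowers] at h1
    have h2 : α = 1 := orderOf_eq_one_iff.1 (Nat.eq_one_of_dvd_coprimes
      (hg.pow_right _) (orderOf_map_dvd (MulAut.conjNormal : G →* MulAut Q) g) h1)
    rw [mem_centralizer_iff]
    intro z hz
    have h3 : g * z * g⁻¹ = z := by
      have h4 := congrArg Subtype.val (DFunLike.congr_fun h2 ⟨z, hz⟩)
      rw [show ((α ⟨z, hz⟩ : Q) : G) = g * z * g⁻¹ from MulAut.conjNormal_apply g ⟨z, hz⟩] at h4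
      exact h4
    exact (mul_inv_eq_iff_eq_mul.1 h3).symm
  obtain ⟨W, hW, hWV, hnorm, hfpf⟩ := exists_fpf _ hab hexp hy hmv
  exact bad_of_fpf (QuotientGroup.mk' F) (QuotientGroup.mk'_surjective F) W hW
    (fun a ha => hexp a (hWV ha)) (fun a ha b hb => hab a (hWV ha) b (hWV hb)) hy hnorm hfpf

theorem hasNormalPComplement_of_not_bad (h : ¬ Bad p G) : Cfsg.HasNormalPComplement p G := by
  refine CfsgLib.Transfer.hasNormalPComplement_of_frobeniusCond fun Q hQ g hg hc => ?_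
  by_contra hn
  refine h (bad_of_injective (normalizer (Q : Set G)).subtype (Subgroup.subtype_injective _) ?_)
  haveI : (Q.subgroupOf (normalizer (Q : Set G))).Normal := normal_in_normalizer
  refine bad_of_normal (Q.subgroupOf (normalizer (Q : Set G)))
    (hQ.of_equiv (subgroupOfEquivOfLe le_normalizer).symm) (g := ⟨g, hg⟩)
    (by rwa [Subgroup.orderOf_mk]) fun h1 => hn ?_
  rw [mem_centralizer_iff] at h1 ⊢
  intro z hz
  exact congrArg Subtype.val (h1 ⟨z, le_normalizer hz⟩ (mem_subgroupOf.2 hz))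

omit [Finite G] in
theorem exists_orderOf_eq_exponent [Finite G] (hG : IsPGroup p G) :
    ∃ k : G, orderOf k = Monoid.exponent G := by
  obtain ⟨n, hn⟩ := IsPGroup.iff_card.1 hG
  have h1 : Monoid.exponent G ∣ p ^ n := hn ▸ Group.exponent_dvd_nat_card
  obtain ⟨e, -, he⟩ := (Nat.dvd_prime_pow hp.out).1 h1
  rcases Nat.eq_zero_or_pos e with rfl | hpos
  · exact ⟨1, by rw [orderOf_one, he, pow_zero]⟩
  obtain ⟨x, hx⟩ : ∃ x : G, x ^ p ^ (e - 1) ≠ 1 := by
    by_contra hc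
    push Not at hc
    have h2 := Monoid.exponent_dvd_of_forall_pow_eq_one hc
    rw [he, Nat.pow_dvd_pow_iff_le_right hp.out.one_lt] at h2
    omega
  refine ⟨x, ?_⟩
  have h3 := orderOf_eq_prime_pow (n := e - 1) hx (by
    rw [Nat.sub_add_cancel hpos, ← he]; exact Monoid.pow_exponent_eq_one x)
  rwa [Nat.sub_add_cancel hpos, ← he] at h3

theorem isPGroup_of_section (h : Cfsg.HasNormalPComplement p G) (H : Subgroup G) (N : Subgroup H)
    [N.Normal] (h0 : Cfsg.pPrimeCore p (H ⧸ N) = ⊥) : IsPGroup p (H ⧸ N) := by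
  obtain ⟨P, M, hM, hc⟩ := CfsgLib.Transfer.hasNormalPComplement_of_surjective
    (QuotientGroup.mk' N) (QuotientGroup.mk'_surjective N)
    (CfsgLib.Transfer.hasNormalPComplement_subgroup H h)
  have h1 : M = ⊥ := by
    rw [eq_bot_iff, ← h0]
    refine CfsgLib.PCore.le_pPrimeCore_of_not_dvd hM ?_
    rw [← hc.index_eq_card]
    exact P.not_dvd_index
  have h2 : (P : Subgroup (H ⧸ N)) = ⊤ := by
    have h3 := hc.sup_eq_top
    rwa [h1, bot_sup_eq] at h3
  exact (h2 ▸ P.isPGroup' : IsPGroup p (⊤ : Subgroup (H ⧸ N))).of_equiv Subgroup.topEquiv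

end CfsgLib.ExponentSection82
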