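import Mathlib
import Cfsg.Agent.Lib.Characters.Burnside
import Cfsg.Agent.Lib.PCore.Basic
import Cfsg.Agent.Lib.PCore.PSolvable
import Cfsg.Agent.Lib.PGroup.Frattini
import Cfsg.Agent.Lib.H82.HallHigmanFrattini

/-!
# Groups of exponent six have `p`-length one
-/

namespace CfsgLib.ExponentSix82

open Subgroup
open scoped commutatorElement

variable {G : Type*} [Group G] [Finite G]

theorem isSolvable_of_exp_six (h : ∀ x : G, x ^ 6 = 1) : Group.IsSolvable G := by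
  have hdvd : ∀ r : ℕ, r.Prime → r ∣ Nat.card G → r = 2 ∨ r = 3 := by
    intro r hr hrd
    haveI := Fact.mk hr
    obtain ⟨x, hx⟩ := exists_prime_orderOf_dvd_card' r hrd
    have h1 : r ∣ 2 * 3 := hx ▸ orderOf_dvd_of_pow_eq_one (h x)
    rcases hr.dvd_mul.1 h1 with h2 | h2
    · exact Or.inl ((Nat.prime_dvd_prime_iff_eq hr Nat.prime_two).1 h2)
    · exact Or.inr ((Nat.prime_dvd_prime_iff_eq hr Nat.prime_three).1 h2)
  refine CfsgLib.Burnside.isSolvable_of_card_eq Nat.prime_two Nat.prime_three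
    ((Nat.card G).factorization 2) ((Nat.card G).factorization 3) ?_
  refine Nat.eq_of_factorization_eq Nat.card_pos.ne' (by positivity) fun r => ?_
  rw [Nat.factorization_mul (by positivity) (by positivity), Finsupp.add_apply,
    Nat.Prime.factorization_pow Nat.prime_two, Nat.Prime.factorization_pow Nat.prime_three,
    Finsupp.single_apply, Finsupp.single_apply]
  by_cases h2 : 2 = r
  · subst h2; simp
  by_cases h3 : 3 = r
  · subst h3; simp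
  rw [if_neg h2, if_neg h3, add_zero, Nat.factorization_eq_zero_iff]
  by_contra hc
  push Not at hc
  rcases hdvd r hc.1 hc.2.1 with rfl | rfl
  · exact h2 rfl
  · exact h3 rfl

theorem pow_eq_one_of_isPGroup {q : ℕ} [Fact q.Prime] (hq : ¬ q ^ 2 ∣ 6) {x : G} (hx6 : x ^ 6 = 1)
    {k : ℕ} (hk : x ^ q ^ k = 1) : x ^ q = 1 := by
  obtain ⟨j, -, hj⟩ := (Nat.dvd_prime_pow (Fact.out : q.Prime)).1 (orderOf_dvd_of_pow_eq_one hk)
  have h6 := orderOf_dvd_of_pow_eq_one hx6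
  rw [hj] at h6
  have hj1 : j ≤ 1 := by
    by_contra hc
    exact hq ((pow_dvd_pow q (by omega : 2 ≤ j)).trans h6)
  rw [← orderOf_dvd_iff_pow_eq_one, hj]
  exact (pow_dvd_pow q hj1).trans (pow_one q).dvd

/-- The Hall–Higman step for `p = 3`: exponent six rules out `A₄` acting on a `3`-group. -/
theorem three_step (h : ∀ x : G, x ^ 6 = 1) (V : Subgroup G) [V.Normal]
    (hab : ∀ a ∈ V, ∀ b ∈ V, a * b = b * a) (hexp : ∀ a ∈ V, a ^ 3 = 1)
    (hfaith : ∀ g : G, (∀ a ∈ V, g * a * g⁻¹ = a) → g ∈ V)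
    (hcore : Cfsg.pCore 3 (G ⧸ V) = ⊥) : ¬ 3 ∣ Nat.card (G ⧸ V) := by
  intro hdvd
  haveI : Fact (Nat.Prime 2) := ⟨Nat.prime_two⟩
  haveI : Fact (Nat.Prime 3) := ⟨Nat.prime_three⟩
  have hH6 : ∀ y : G ⧸ V, y ^ 6 = 1 := fun y => by
    obtain ⟨g, rfl⟩ := QuotientGroup.mk'_surjective V y
    rw [← map_pow, h g, map_one]
  haveI := isSolvable_of_exp_six hH6
  have hHp : Cfsg.IsPSolvable 2 (G ⧸ V) := CfsgLib.PCore.isPSolvable_of_isSolvable
  have h0 : Cfsg.pPrimeCore 2 (G ⧸ V) = ⊥ := by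
    rw [eq_bot_iff, ← hcore]
    have hn : (Cfsg.pPrimeCore 2 (G ⧸ V)).Normal := by
      rw [Cfsg.pPrimeCore]
      exact Subgroup.sSup_normal _ fun A hA => hA.1
    refine CfsgLib.PCore.le_pCore hn fun a => ?_
    have hodd : Nat.Coprime (orderOf (a : G ⧸ V)) 2 :=
      Nat.Coprime.coprime_dvd_left (Subgroup.orderOf_dvd_natCard _ a.2)
        CfsgLib.PCore.pPrimeCore_coprime
    have h3 : orderOf (a : G ⧸ V) ∣ 3 :=
      hodd.dvd_of_dvd_mul_left (n := 3) (m := 2) (orderOf_dvd_of_pow_eq_one (hH6 _))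
    refine ⟨1, Subtype.ext ?_⟩
    simpa using orderOf_dvd_iff_pow_eq_one.1 h3
  obtain ⟨y, hy⟩ := exists_prime_orderOf_dvd_card' 3 hdvd
  -- `y` moves some element of `O_2`
  have hmove : ∃ e ∈ Cfsg.pCore 2 (G ⧸ V), y * e * y⁻¹ ≠ e := by
    by_contra hc
    push Not at hc
    have h1 : y ∈ Subgroup.centralizer (Cfsg.pCore 2 (G ⧸ V) : Set (G ⧸ V)) := by
      rw [mem_centralizer_iff]
      intro e he
      exact (mul_inv_eq_iff_eq_mul.1 (hc e he)).symm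
    obtain ⟨k, hk⟩ := CfsgLib.PCore.pCore_isPGroup ⟨y, CfsgLib.PCore.centralizer_pCore_le hHp h0 h1⟩
    have h2 : orderOf y ∣ 2 ^ k := orderOf_dvd_of_pow_eq_one (by simpa using congrArg Subtype.val hk)
    rw [hy] at h2
    exact absurd (Nat.prime_three.dvd_of_dvd_pow h2) (by norm_num)
  obtain ⟨e, heE, hey⟩ := hmove
  obtain ⟨E, hE⟩ : ∃ E, E = Cfsg.pCore 2 (G ⧸ V) := ⟨_, rfl⟩
  have hEn : E.Normal := by
    rw [hE, Cfsg.pCore]
    exact Subgroup.sSup_normal _ fun A hA => hA.1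
  rw [← hE] at heE
  have hE2 : ∀ z ∈ E, z * z = 1 := fun z hz => by
    obtain ⟨k, hk⟩ := (hE ▸ CfsgLib.PCore.pCore_isPGroup : IsPGroup 2 E) ⟨z, hz⟩
    have h1 := pow_eq_one_of_isPGroup (q := 2) (by norm_num) (hH6 z)
      (by simpa using congrArg Subtype.val hk)
    rwa [sq] at h1
  have hEinv : ∀ z ∈ E, z⁻¹ = z := fun z hz => inv_eq_of_mul_eq_one_right (hE2 z hz)
  have hEc : ∀ a ∈ E, ∀ b ∈ E, a * b = b * a := fun a ha b hb => by
    calc a * b = (a * b)⁻¹ := (hEinv _ (E.mul_mem ha hb)).symm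
      _ = b * a := by rw [mul_inv_rev, hEinv a ha, hEinv b hb]
  have hy3 : y ^ 3 = 1 := hy ▸ pow_orderOf_eq_one y
  have hy3' : y * y * y = 1 := by rw [← hy3]; simp [pow_succ, mul_assoc]
  -- the three conjugates
  obtain ⟨f1, hf1⟩ : ∃ f, f = e * (y * e * y⁻¹) := ⟨_, rfl⟩
  have hf1E : f1 ∈ E := hf1 ▸ E.mul_mem heE (hEn.conj_mem e heE y)
  have hf1ne : f1 ≠ 1 := fun h1 => hey (by
    rw [hf1] at h1
    rw [← inv_eq_of_mul_eq_one_right h1, hEinv e heE])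
  have hprod : f1 * (y * f1 * y⁻¹) * (y * (y * f1 * y⁻¹) * y⁻¹) = 1 := by
    have a : y * (y * (y * e * y⁻¹) * y⁻¹) * y⁻¹ = e := by
      calc y * (y * (y * e * y⁻¹) * y⁻¹) * y⁻¹ = (y * y * y) * e * (y * y * y)⁻¹ := by group
        _ = e := by rw [hy3']; group
    obtain ⟨e', he'⟩ : ∃ x, x = y * e * y⁻¹ := ⟨_, rfl⟩
    obtain ⟨e'', he''⟩ : ∃ x, x = y * e' * y⁻¹ := ⟨_, rfl⟩
    have he'E : e' ∈ E := he' ▸ hEn.conj_mem e heE y
    have he''E : e'' ∈ E := he'' ▸ hEn.conj_mem e' he'E y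
    have b1 : y * f1 * y⁻¹ = e' * e'' := by rw [hf1, he'', he']; group
    have b2 : y * (e' * e'') * y⁻¹ = e'' * e := by
      rw [← he', ← he''] at a
      calc y * (e' * e'') * y⁻¹ = (y * e' * y⁻¹) * (y * e'' * y⁻¹) := by group
        _ = e'' * e := by rw [← he'', a]
    rw [b1, b2, hf1, ← he']
    calc e * e' * (e' * e'') * (e'' * e) = e * (e' * e') * (e'' * e'') * e := by group
      _ = 1 := by rw [hE2 e' he'E, hE2 e'' he''E]; simpa using hE2 e heE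
  -- lifts acting on `V`
  obtain ⟨x, rfl⟩ := QuotientGroup.mk'_surjective V y
  obtain ⟨a1, ha1⟩ := QuotientGroup.mk'_surjective V f1
  obtain ⟨a2, ha2⟩ : ∃ a, a = x * a1 * x⁻¹ := ⟨_, rfl⟩
  obtain ⟨a3, ha3⟩ : ∃ a, a = x * a2 * x⁻¹ := ⟨_, rfl⟩
  have hact : ∀ g g' : G, QuotientGroup.mk' V g = QuotientGroup.mk' V g' →
      ∀ v ∈ V, g * v * g⁻¹ = g' * v * g'⁻¹ := by
    intro g g' hgg v hv
    have h1 : g⁻¹ * g' ∈ V := QuotientGroup.eq.1 hgg
    calc g * v * g⁻¹ = g * ((g⁻¹ * g') * v * (g⁻¹ * g')⁻¹) * g⁻¹ := by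
          rw [hab _ h1 v hv, mul_inv_cancel_right]
      _ = g' * v * g'⁻¹ := by group
  have hVn : V.Normal := inferInstance
  have hsq : ∀ g : G, QuotientGroup.mk' V g ∈ E → ∀ v ∈ V, g * (g * v * g⁻¹) * g⁻¹ = v := by
    intro g hg v hv
    rw [show g * (g * v * g⁻¹) * g⁻¹ = g * g * v * (g * g)⁻¹ by group]
    rw [hact (g * g) 1 (by rw [map_mul, hE2 _ hg, map_one]) v hv]
    group
  have hE1 : QuotientGroup.mk' V a1 ∈ E := ha1 ▸ hf1E
  have hE2' : QuotientGroup.mk' V a2 ∈ E := by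
    rw [ha2, map_mul, map_mul, map_inv]; exact hEn.conj_mem _ hE1 _
  have hcomm12 : ∀ v ∈ V, a1 * (a2 * v * a2⁻¹) * a1⁻¹ = a2 * (a1 * v * a1⁻¹) * a2⁻¹ := by
    intro v hv
    rw [show a1 * (a2 * v * a2⁻¹) * a1⁻¹ = a1 * a2 * v * (a1 * a2)⁻¹ by group,
      show a2 * (a1 * v * a1⁻¹) * a2⁻¹ = a2 * a1 * v * (a2 * a1)⁻¹ by group]
    exact hact _ _ (by rw [map_mul, map_mul, hEc _ hE1 _ hE2']) v hv
  have h123 : ∀ v ∈ V, a1 * (a2 * (a3 * v * a3⁻¹) * a2⁻¹) * a1⁻¹ = v := by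
    intro v hv
    rw [show a1 * (a2 * (a3 * v * a3⁻¹) * a2⁻¹) * a1⁻¹ = a1 * a2 * a3 * v * (a1 * a2 * a3)⁻¹ by group]
    rw [hact (a1 * a2 * a3) 1 ?_ v hv]
    · group
    · rw [map_mul, map_mul, ha3, ha2]
      simp only [map_mul, map_inv, ha1, map_one]
      exact hprod
  -- a vector inverted by `a1`
  obtain ⟨w, hw, hwne⟩ : ∃ w ∈ V, a1 * w * a1⁻¹ ≠ w := by
    by_contra hc
    push Not at hc
    apply hf1ne
    rw [← ha1]
    exact (QuotientGroup.eq_one_iff _).2 (hfaith a1 hc)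
  obtain ⟨v, hv, hvne, hv1⟩ : ∃ v ∈ V, v ≠ 1 ∧ a1 * v * a1⁻¹ = v⁻¹ := by
    refine ⟨a1 * w * a1⁻¹ * w⁻¹, V.mul_mem (hVn.conj_mem w hw a1) (V.inv_mem hw),
      fun h1 => hwne (mul_inv_eq_one.1 h1), ?_⟩
    rw [show a1 * (a1 * w * a1⁻¹ * w⁻¹) * a1⁻¹ =
      a1 * (a1 * w * a1⁻¹) * a1⁻¹ * (a1 * w * a1⁻¹)⁻¹ by group, hsq a1 hE1 w hw]
    group
  -- split it under `a2`
  obtain ⟨u, hu, hune, hu1, hu2⟩ : ∃ u ∈ V, u ≠ 1 ∧ a1 * u * a1⁻¹ = u⁻¹ ∧
      (a2 * u * a2⁻¹ = u ∨ a2 * u * a2⁻¹ = u⁻¹) := by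
    by_cases hd : a2 * v * a2⁻¹ = v
    · exact ⟨v, hv, hvne, hv1, Or.inl hd⟩
    have hv2 : a2 * v * a2⁻¹ ∈ V := hVn.conj_mem v hv a2
    refine ⟨a2 * v * a2⁻¹ * v⁻¹, V.mul_mem hv2 (V.inv_mem hv),
      fun h1 => hd (mul_inv_eq_one.1 h1), ?_, Or.inr ?_⟩
    · rw [show a1 * (a2 * v * a2⁻¹ * v⁻¹) * a1⁻¹ =
        a1 * (a2 * v * a2⁻¹) * a1⁻¹ * (a1 * v * a1⁻¹)⁻¹ by group, hcomm12 v hv, hv1]
      rw [show a2 * v⁻¹ * a2⁻¹ = (a2 * v * a2⁻¹)⁻¹ by group, inv_inv,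
        mul_inv_rev (a2 * v * a2⁻¹) v⁻¹, inv_inv]
      exact hab _ (V.inv_mem hv2) _ hv
    · rw [show a2 * (a2 * v * a2⁻¹ * v⁻¹) * a2⁻¹ =
        a2 * (a2 * v * a2⁻¹) * a2⁻¹ * (a2 * v * a2⁻¹)⁻¹ by group, hsq a2 hE2' v hv]
      group
  obtain ⟨s, hs⟩ : ∃ s, s = x * u * x⁻¹ := ⟨_, rfl⟩
  obtain ⟨t, ht⟩ : ∃ t, t = x * s * x⁻¹ := ⟨_, rfl⟩
  have hsV : s ∈ V := hs ▸ hVn.conj_mem u hu x
  have htV : t ∈ V := ht ▸ hVn.conj_mem s hsV x
  have hsne : s ≠ 1 := fun h1 => hune (conj_eq_one_iff.1 (hs ▸ h1))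
  have htne : t ≠ 1 := fun h1 => hsne (conj_eq_one_iff.1 (ht ▸ h1))
  -- the relation from the exponent
  have hrel : u * s * t = 1 := by
    have h1 : QuotientGroup.mk' V (x * x * x) = 1 := by rw [map_mul, map_mul]; exact hy3'
    have hxc : ∀ g : G, QuotientGroup.mk' V (g * g * g) = 1 → (g * g * g) * (g * g * g) = 1 :=
      fun g _ => by rw [← h g]; simp [pow_succ, mul_assoc]
    have hx1 : x * x * x ∈ V := (QuotientGroup.eq_one_iff _).1 h1
    have hux : (u * x) * (u * x) * (u * x) = u * s * t * (x * x * x) := by rw [hs, ht, hs]; group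
    have hxx : x * x * x = 1 := by
      have h2 := hxc x h1
      have h3 := hexp _ hx1
      rw [pow_succ, pow_two, h2, one_mul] at h3
      exact h3
    have hux1 : (u * x) * (u * x) * (u * x) ∈ V := by
      rw [hux, hxx, mul_one]; exact V.mul_mem (V.mul_mem hu hsV) htV
    have h2 : (u * x) * (u * x) * (u * x) = 1 := by
      have h3 := hexp _ hux1
      have h4 := hxc (u * x) ((QuotientGroup.eq_one_iff _).2 hux1)
      rw [pow_succ, pow_two, h4, one_mul] at h3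
      exact h3
    rw [hux, hxx, mul_one] at h2
    exact h2
  have hu3 : a3 * u * a3⁻¹ = (a2 * u * a2⁻¹)⁻¹ := by
    -- `a3` acts as `a1 a2`
    have h1 := h123 u hu
    have h2 := congrArg (fun z => a2 * (a1 * z * a1⁻¹) * a2⁻¹) h1
    have h3 : a3 * u * a3⁻¹ ∈ V := hVn.conj_mem u hu a3
    rw [hsq a1 hE1 _ (hVn.conj_mem _ h3 a2), hsq a2 hE2' _ h3, hu1] at h2
    rw [h2]; group
  -- the action of `a1` on the translates
  have hs1 : a1 * s * a1⁻¹ = x * (a3 * u * a3⁻¹) * x⁻¹ := by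
    rw [hs, show a1 * (x * u * x⁻¹) * a1⁻¹ = a1 * x * u * (a1 * x)⁻¹ by group,
      show x * (a3 * u * a3⁻¹) * x⁻¹ = x * a3 * u * (x * a3)⁻¹ by group]
    refine hact _ _ ?_ u hu
    have h1 : QuotientGroup.mk' V (x * x * x) = 1 := by rw [map_mul, map_mul]; exact hy3'
    rw [ha3, ha2]
    rw [show x * (x * (x * a1 * x⁻¹) * x⁻¹) = (x * x * x) * a1 * (x * x * x)⁻¹ * x by group]
    simp only [map_mul, map_inv, map_mul] at h1 ⊢
    rw [h1]; group
  have ht1 : a1 * t * a1⁻¹ = x * (x * (a2 * u * a2⁻¹) * x⁻¹) * x⁻¹ := by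
    rw [ht, hs, show a1 * (x * (x * u * x⁻¹) * x⁻¹) * a1⁻¹ = a1 * x * x * u * (a1 * x * x)⁻¹ by group,
      show x * (x * (a2 * u * a2⁻¹) * x⁻¹) * x⁻¹ = x * x * a2 * u * (x * x * a2)⁻¹ by group]
    refine hact _ _ ?_ u hu
    have h1 : QuotientGroup.mk' V (x * x * x) = 1 := by rw [map_mul, map_mul]; exact hy3'
    rw [ha2, show x * x * (x * a1 * x⁻¹) = (x * x * x) * a1 * (x * x * x)⁻¹ * x * x by group]
    simp only [map_mul, map_inv] at h1 ⊢
    rw [h1]; group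
  have hfin : ∀ c ∈ V, c * c = 1 → c = 1 := fun c hc h2 => by
    have h3 := hexp c hc
    rwa [pow_succ, pow_two, h2, one_mul] at h3
  have himg : (a1 * u * a1⁻¹) * (a1 * s * a1⁻¹) * (a1 * t * a1⁻¹) = 1 := by
    calc _ = a1 * (u * s * t) * a1⁻¹ := by group
      _ = 1 := by rw [hrel]; group
  rcases hu2 with hp2 | hp2
  · rw [hp2, show x * (x * u * x⁻¹) * x⁻¹ = t by rw [ht, hs]] at ht1
    rw [hu3, hp2, show x * u⁻¹ * x⁻¹ = s⁻¹ by rw [hs]; group] at hs1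
    rw [hu1, hs1, ht1] at himg
    -- `t = s * u` and `u * s * t = 1`
    apply htne (hfin t htV ?_)
    have h4 : t = s * u := by
      calc t = (s * u) * (u⁻¹ * s⁻¹ * t) := by group
        _ = s * u := by rw [himg, mul_one]
    calc t * t = (u * s) * t := by
          conv_lhs => arg 1; rw [h4, hab s hsV u hu]
      _ = 1 := hrel
  · rw [hp2, show x * (x * u⁻¹ * x⁻¹) * x⁻¹ = t⁻¹ by rw [ht, hs]; simp [mul_assoc]] at ht1
    rw [hu3, hp2, inv_inv, ← hs] at hs1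
    rw [hu1, hs1, ht1] at himg
    apply hsne (hfin s hsV ?_)
    have h4 : t = u⁻¹ * s := by
      calc t = (u⁻¹ * s * t⁻¹)⁻¹ * (u⁻¹ * s) := by group
        _ = u⁻¹ * s := by rw [himg, inv_one, one_mul]
    calc s * s = (u * s) * (u⁻¹ * s) := by
          rw [hab u hu s hsV]; group
      _ = 1 := by rw [← h4]; exact hrel

theorem upperPSeries_three_eq_top {p : ℕ} [Fact p.Prime]
    (h : Cfsg.pPrimePCore p G = ⊤ ∨ (Cfsg.pPrimePCore p G).index.Coprime p) :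
    Cfsg.PLengthLE p 1 G := by
  rw [Cfsg.PLengthLE]
  have h2 : (Cfsg.upperPSeries p G 2).1 = Cfsg.pPrimePCore p G := by
    rw [CfsgLib.PCore.upperPSeries_succ_of_odd (by decide : ¬ Even 1), Cfsg.pPrimePCore]
    have key : ∀ (K L : Subgroup G) [K.Normal] [L.Normal], K = L →
        (Cfsg.pCore p (G ⧸ K)).comap (QuotientGroup.mk' K) =
          (Cfsg.pCore p (G ⧸ L)).comap (QuotientGroup.mk' L) := by
      intro K L _ _ e
      subst e
      rfl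
    haveI := (Cfsg.upperPSeries p G 1).2
    exact key _ _ CfsgLib.PCore.upperPSeries_one
  rw [eq_top_iff]
  refine CfsgLib.PCore.le_upperPSeries_succ (n := 2) (fun _ => ?_) (fun hn => absurd (by decide) hn)
  rw [h2, Subgroup.relIndex_top_right]
  rcases h with h | h
  · rw [h, Subgroup.index_top]; exact Nat.coprime_one_left p
  · exact h

theorem pLength_le_one (h : ∀ x : G, x ^ 6 = 1) {p : ℕ} [hp : Fact p.Prime] (hp6 : p = 2 ∨ p = 3) :
    Cfsg.PLengthLE p 1 G := by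
  have hp2 : ¬ p ^ 2 ∣ 6 := by rcases hp6 with rfl | rfl <;> norm_num
  obtain ⟨K, hK⟩ : ∃ K, K = Cfsg.pPrimeCore p G := ⟨_, rfl⟩
  haveI hKn : K.Normal := by
    rw [hK, Cfsg.pPrimeCore]
    exact Subgroup.sSup_normal _ fun A hA => hA.1
  refine upperPSeries_three_eq_top (Or.inr ?_)
  rw [Cfsg.pPrimePCore, Subgroup.index_comap_of_surjective _ (QuotientGroup.mk'_surjective _)]
  obtain ⟨Q, hQ⟩ : ∃ Q : Type _, Q = (G ⧸ Cfsg.pPrimeCore p G) := ⟨_, rfl⟩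
  have hbar6 : ∀ y : G ⧸ Cfsg.pPrimeCore p G, y ^ 6 = 1 := fun y => by
    obtain ⟨g, rfl⟩ := QuotientGroup.mk'_surjective _ y
    rw [← map_pow, h g, map_one]
  haveI := isSolvable_of_exp_six hbar6
  have hps : Cfsg.IsPSolvable p (G ⧸ Cfsg.pPrimeCore p G) := CfsgLib.PCore.isPSolvable_of_isSolvable
  have h0 : Cfsg.pPrimeCore p (G ⧸ Cfsg.pPrimeCore p G) = ⊥ :=
    CfsgLib.PCore.pPrimeCore_quotient_pPrimeCore
  obtain ⟨V, hV⟩ : ∃ V, V = Cfsg.pCore p (G ⧸ Cfsg.pPrimeCore p G) := ⟨_, rfl⟩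
  rw [← hV]
  haveI hVn : V.Normal := by
    rw [hV, Cfsg.pCore]
    exact Subgroup.sSup_normal _ fun A hA => hA.1
  have hVp : IsPGroup p V := hV ▸ CfsgLib.PCore.pCore_isPGroup
  refine (hp.out.coprime_iff_not_dvd.2 fun hd => ?_).symm
  rw [Subgroup.index_eq_card] at hd
  rcases hp6 with rfl | rfl
  · -- the Sylow subgroups are abelian
    obtain ⟨P, hP⟩ := hVp.exists_le_sylow
    have hsq : ∀ a ∈ (P : Subgroup (G ⧸ Cfsg.pPrimeCore 2 G)), a * a = 1 := fun a ha => by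
      obtain ⟨k, hk⟩ := P.isPGroup' ⟨a, ha⟩
      have h1 := pow_eq_one_of_isPGroup hp2 (hbar6 a) (by simpa using congrArg Subtype.val hk)
      rwa [sq] at h1
    have hinv : ∀ a ∈ (P : Subgroup (G ⧸ Cfsg.pPrimeCore 2 G)), a⁻¹ = a :=
      fun a ha => inv_eq_of_mul_eq_one_right (hsq a ha)
    have hle : (P : Subgroup (G ⧸ Cfsg.pPrimeCore 2 G)) ≤ V := fun a ha => by
      have h1 : a ∈ Subgroup.centralizer (V : Set (G ⧸ Cfsg.pPrimeCore 2 G)) := by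
        rw [mem_centralizer_iff]
        intro b hb
        calc b * a = (b * a)⁻¹ := (hinv _ (mul_mem (hP hb) ha)).symm
          _ = a * b := by rw [mul_inv_rev, hinv a ha, hinv b (hP hb)]
      rw [hV] at h1 ⊢
      exact CfsgLib.PCore.centralizer_pCore_le hps h0 h1
    rw [← Subgroup.index_eq_card] at hd
    exact P.not_dvd_index (hd.trans (Subgroup.index_dvd_of_le hle))
  · -- reduce modulo `Φ(V)`
    obtain ⟨F, hF⟩ : ∃ F, F = (frattini V).map V.subtype := ⟨_, rfl⟩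
    haveI hFn : F.Normal := by rw [hF]; infer_instance
    have hFV : F ≤ V := hF ▸ Subgroup.map_subtype_le _
    haveI : (V.map (QuotientGroup.mk' F)).Normal := hVn.map _ (QuotientGroup.mk'_surjective F)
    have key : (V.map (QuotientGroup.mk' F)).comap (QuotientGroup.mk' F) = V :=
      Subgroup.comap_map_eq_self (by rw [QuotientGroup.ker_mk']; exact hFV)
    let e : ((G ⧸ Cfsg.pPrimeCore 3 G) ⧸ F) ⧸ V.map (QuotientGroup.mk' F) ≃*
        (G ⧸ Cfsg.pPrimeCore 3 G) ⧸ V := QuotientGroup.quotientQuotientEquivQuotient F V hFV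
    refine three_step (G := (G ⧸ Cfsg.pPrimeCore 3 G) ⧸ F) (fun z => ?_)
      (V.map (QuotientGroup.mk' F)) ?_ ?_ ?_ ?_ (hd.trans (Nat.card_congr e.toEquiv).symm.dvd)
    · obtain ⟨g, rfl⟩ := QuotientGroup.mk'_surjective F z
      rw [← map_pow, hbar6 g, map_one]
    · rintro _ ⟨a, ha, rfl⟩ _ ⟨b, hb, rfl⟩
      rw [← commutatorElement_eq_one_iff_mul_comm, ← map_commutatorElement]
      exact (QuotientGroup.eq_one_iff _).2 (hF ▸ ⟨⁅(⟨a, ha⟩ : V), ⟨b, hb⟩⁆,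
        CfsgLib.PGroup.commutator_le_frattini hVp
          (commutator_mem_commutator (mem_top _) (mem_top _)), by simp [commutatorElement_def]⟩)
    · rintro _ ⟨a, ha, rfl⟩
      rw [← map_pow]
      exact (QuotientGroup.eq_one_iff _).2 (hF ▸ ⟨(⟨a, ha⟩ : V) ^ 3,
        CfsgLib.PGroup.pow_mem_frattini hVp _, rfl⟩)
    · intro g hg
      obtain ⟨g', rfl⟩ := QuotientGroup.mk'_surjective F g
      refine ⟨g', ?_, rfl⟩
      rw [SetLike.mem_coe, hV, ← CfsgLib.HallHigmanFrattini82.mem_pCore_of_trivial_on_frattini hps h0,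
        ← hV, ← hF]
      intro a ha
      refine (QuotientGroup.eq_one_iff _).1 ?_
      change QuotientGroup.mk' F _ = 1
      rw [map_mul, map_mul, map_mul, map_inv, map_inv,
        hg _ (mem_map_of_mem _ ha), mul_inv_cancel]
    · have h1 : Cfsg.pCore 3 ((G ⧸ Cfsg.pPrimeCore 3 G) ⧸ V) = ⊥ := by
        subst hV
        exact CfsgLib.PCore.pCore_quotient_pCore
      exact CfsgLib.PCore.pCore_eq_bot_of_equiv e.symm h1

end CfsgLib.ExponentSix82
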