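import Cfsg.Agent.Lib.H82.GraphForms
import Cfsg.Agent.Lib.AutPSp.SympBasis
import Cfsg.Agent.Lib.Sp.Witt

/-!
# Alternating forms and graph automorphisms
-/

set_option autoImplicit false

namespace CfsgLib.GraphForms82

open CfsgLib.AutPSL Matrix

variable {ι : Type} [Fintype ι] [DecidableEq ι] {n m : ℕ} {F : Type*} [Field F]

theorem bil_comp (M P : Matrix ι ι F) (u v : ι → F) :
    (P *ᵥ u) ⬝ᵥ M *ᵥ (P *ᵥ v) = u ⬝ᵥ (Pᵀ * M * P) *ᵥ v := by
  rw [Matrix.mul_assoc, ← mulVec_mulVec, dotProduct_mulVec u Pᵀ, vecMul_transpose, ← mulVec_mulVec]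

theorem bil_single (M : Matrix ι ι F) (i j : ι) : Pi.single i 1 ⬝ᵥ M *ᵥ Pi.single j 1 = M i j := by
  rw [mulVec_single_one, single_one_dotProduct]
  rfl

theorem matrix_eq_of_bil {A B : Matrix ι ι F} (h : ∀ u v, u ⬝ᵥ A *ᵥ v = u ⬝ᵥ B *ᵥ v) : A = B := by
  ext i j
  rw [← bil_single A, ← bil_single B, h]

/-- A congruence from a linear automorphism carrying one form to the other. -/
theorem exists_congr_of_equiv {A B : Matrix ι ι F} (g : (ι → F) ≃ₗ[F] (ι → F))
    (h : ∀ u v, g u ⬝ᵥ A *ᵥ g v = u ⬝ᵥ B *ᵥ v) :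
    ∃ P : GL ι F, (P : Matrix ι ι F)ᵀ * A * (P : Matrix ι ι F) = B := by
  refine ⟨Matrix.GeneralLinearGroup.mkOfDetNeZero (LinearMap.toMatrix' g.toLinearMap)
    (by rw [LinearMap.det_toMatrix']; exact g.isUnit_det'.ne_zero), matrix_eq_of_bil fun u v => ?_⟩
  rw [← bil_comp]
  have e : ∀ x, LinearMap.toMatrix' g.toLinearMap *ᵥ x = g x := fun x => LinearMap.toMatrix'_mulVec _ x
  show (LinearMap.toMatrix' g.toLinearMap *ᵥ u) ⬝ᵥ A *ᵥ (LinearMap.toMatrix' g.toLinearMap *ᵥ v) = _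
  rw [e, e, h]

/-- Congruent forms stay congruent after renaming the index set. -/
theorem congr_reindex (e : ι ≃ Fin n) {A B : Matrix ι ι F} {P : GL ι F}
    (h : (P : Matrix ι ι F)ᵀ * A * (P : Matrix ι ι F) = B) :
    ((glReindex e P : GL (Fin n) F) : Matrix (Fin n) (Fin n) F)ᵀ * Matrix.reindex e e A *
      ((glReindex e P : GL (Fin n) F) : Matrix (Fin n) (Fin n) F) = Matrix.reindex e e B := by
  rw [glReindex_coe, Matrix.transpose_reindex, ← reindex_mul, ← reindex_mul, h]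

theorem sympForm_eq (u v : Fin m ⊕ Fin m → F) :
    Cfsg.sympForm m F u v = u ⬝ᵥ Matrix.J (Fin m) F *ᵥ v := rfl

theorem mem_GSp_iff (k : GL (Fin m ⊕ Fin m) F) :
    k ∈ Cfsg.GSp m F ↔ k ∈ simGroup (Matrix.J (Fin m) F) := by
  show (∃ c : Fˣ, _) ↔ ∃ c : Fˣ, _
  refine exists_congr fun c => ?_
  simp only [sympForm_eq, bil_comp]
  constructor
  · intro h
    exact matrix_eq_of_bil fun u v => by rw [h u v, smul_mulVec, dotProduct_smul, smul_eq_mul]
  · intro h u v
    rw [h, smul_mulVec, dotProduct_smul, smul_eq_mul]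

/-- Non-degenerate alternating forms are congruent to the standard one. -/
theorem exists_congr_alt (e : Fin m ⊕ Fin m ≃ Fin n) {M : GL (Fin n) F}
    (halt : ∀ v, v ⬝ᵥ (M : Matrix (Fin n) (Fin n) F) *ᵥ v = 0) :
    ∃ P : GL (Fin n) F, (P : Matrix (Fin n) (Fin n) F)ᵀ * (M : Matrix (Fin n) (Fin n) F) *
      (P : Matrix (Fin n) (Fin n) F) = Matrix.reindex e e (Matrix.J (Fin m) F) := by
  classical
  have hdet : (M : Matrix (Fin n) (Fin n) F).det ≠ 0 :=
    ((Matrix.isUnit_iff_isUnit_det _).mp M.isUnit).ne_zero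
  have hn : n = m + m := by
    have := Fintype.card_congr e
    simpa using this.symm
  have hA : (Matrix.toBilin' (M : Matrix (Fin n) (Fin n) F)).IsAlt := fun v => by
    rw [Matrix.toBilin'_apply', halt]
  obtain ⟨c, hc⟩ := CfsgLib.AutPSp.exists_symp_cols (m := m) (Matrix.toBilin' (M : Matrix (Fin n) (Fin n) F)) hA
    (LinearMap.BilinForm.nondegenerate_toBilin'_of_det_ne_zero' _ hdet).1 (by simp [hn])
  obtain ⟨P, hP⟩ : ∃ P : Matrix (Fin n) (Fin n) F, P = Matrix.of fun k j => c (e.symm j) k := ⟨_, rfl⟩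
  have key : Pᵀ * (M : Matrix (Fin n) (Fin n) F) * P = Matrix.reindex e e (Matrix.J (Fin m) F) := by
    ext i j
    have := hc (e.symm i) (e.symm j)
    rw [Matrix.toBilin'_apply', sympForm_eq, bil_single] at this
    rw [← bil_single (Pᵀ * _ * P) i j, ← bil_comp, Matrix.reindex_apply, Matrix.submatrix_apply, ← this]
    simp [hP, mulVec_single_one, Matrix.col]
    rfl
  have hPdet : P.det ≠ 0 := fun h0 => by
    have h1 := congrArg Matrix.det key
    rw [Matrix.det_mul, h0, mul_zero, Matrix.det_reindex_self] at h1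
    exact (Matrix.isUnit_det_J (Fin m) F).ne_zero h1.symm
  exact ⟨Matrix.GeneralLinearGroup.mkOfDetNeZero P hPdet, key⟩

/-- The invertible matrix of the standard alternating form, renamed. -/
noncomputable def jMat (e : Fin m ⊕ Fin m ≃ Fin n) : GL (Fin n) F :=
  Matrix.GeneralLinearGroup.mkOfDetNeZero (Matrix.reindex e e (Matrix.J (Fin m) F))
    (by rw [Matrix.det_reindex_self]; exact (Matrix.isUnit_det_J (Fin m) F).ne_zero)

theorem jMat_coe (e : Fin m ⊕ Fin m ≃ Fin n) :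
    (jMat (F := F) e : Matrix (Fin n) (Fin n) F) = Matrix.reindex e e (Matrix.J (Fin m) F) := rfl

theorem jMat_transpose (e : Fin m ⊕ Fin m ≃ Fin n) :
    (jMat (F := F) e : Matrix (Fin n) (Fin n) F)ᵀ = -(jMat (F := F) e : Matrix (Fin n) (Fin n) F) := by
  rw [jMat_coe, Matrix.transpose_reindex, Matrix.J_transpose]
  ext i j
  simp

/-- The centralizer of a symplectic-type graph automorphism. -/
theorem centralizer_jMat (hn : 2 ≤ n) (e : Fin m ⊕ Fin m ≃ Fin n) :
    Nonempty (↥(Cfsg.inndiagPSL n F ⊓ Subgroup.centralizer {gx (jMat (F := F) e)}) ≃* Cfsg.PGSp m F) :=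
  centralizer_equiv_model hn e (jMat_coe e) (Cfsg.GSp m F) mem_GSp_iff

theorem alt_of_skew (h2 : (2 : F) ≠ 0) {M : Matrix ι ι F} (h : Mᵀ = -M) (v : ι → F) :
    v ⬝ᵥ M *ᵥ v = 0 := by
  have e : v ⬝ᵥ M *ᵥ v = -(v ⬝ᵥ M *ᵥ v) := by
    conv_lhs => rw [dotProduct_mulVec, ← mulVec_transpose, h, neg_mulVec, neg_dotProduct, dotProduct_comm]
  exact (mul_eq_zero.mp (show (2 : F) * (v ⬝ᵥ M *ᵥ v) = 0 by linear_combination e)).resolve_left h2

theorem not_skew_of_odd (h2 : (2 : F) ≠ 0) (hn : Odd n) {M : GL (Fin n) F} :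
    (M : Matrix (Fin n) (Fin n) F)ᵀ ≠ -(M : Matrix (Fin n) (Fin n) F) := by
  intro h
  have h1 := congrArg Matrix.det h
  rw [det_transpose, det_neg, Fintype.card_fin, hn.neg_one_pow, neg_one_mul] at h1
  exact ((Matrix.isUnit_iff_isUnit_det _).mp M.isUnit).ne_zero
    ((mul_eq_zero.mp (show (2 : F) * (M : Matrix (Fin n) (Fin n) F).det = 0 by
      linear_combination h1)).resolve_left h2)

end CfsgLib.GraphForms82
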