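import Cfsg.Agent.Lib.H82.GraphAlt
import Cfsg.Agent.Lib.KnownSimple51.OrthFamilies

/-!
# Symmetric forms in odd characteristic and graph automorphisms
-/

set_option autoImplicit false

namespace CfsgLib.GraphForms82

open CfsgLib.AutPSL Matrix CfsgLib.QuadFin CfsgLib.OrthUnipotent CfsgLib.KnownSimple51.OrthTwoRank
  CfsgLib.KnownSimple51.OrthFamilies

variable {ι : Type} [Fintype ι] [DecidableEq ι] {n m : ℕ} {F : Type*} [Field F]

theorem polar_eq_gram (Q : QuadraticForm F (ι → F)) (u v : ι → F) :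
    QuadraticMap.polar Q u v = u ⬝ᵥ gram (⇑Q) *ᵥ v := by
  rw [← Matrix.toBilin'_apply', gram_eq_toMatrix, LinearMap.BilinForm.toMatrix_basisFun,
    Matrix.toBilin'_toMatrix']
  rfl

theorem gram_symm (Q : QuadraticForm F (ι → F)) : (gram (⇑Q))ᵀ = gram (⇑Q) := by
  ext i j
  simp [QuadFin.gram, QuadraticMap.polar_comm]

theorem two_mul_quad (Q : QuadraticForm F (ι → F)) (v : ι → F) :
    2 * Q v = v ⬝ᵥ gram (⇑Q) *ᵥ v := by
  rw [← polar_eq_gram, QuadraticMap.polar_self, nsmul_eq_mul]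
  norm_cast

theorem mem_quadSim_iff (h2 : (2 : F) ≠ 0) (Q : QuadraticForm F (ι → F)) (k : GL ι F) :
    k ∈ Cfsg.Geo.quadSimilarityGroup (⇑Q) ↔ k ∈ simGroup (gram (⇑Q)) := by
  show (∃ c : Fˣ, _) ↔ ∃ c : Fˣ, _
  refine exists_congr fun c => ⟨fun h => matrix_eq_of_bil fun u v => ?_, fun h v => ?_⟩
  · rw [← bil_comp, smul_mulVec, dotProduct_smul, smul_eq_mul, ← polar_eq_gram, ← polar_eq_gram,
      QuadraticMap.polar, QuadraticMap.polar, ← mulVec_add, h, h, h]
    ring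
  · refine mul_left_cancel₀ h2 ?_
    rw [two_mul_quad, bil_comp, h, smul_mulVec, dotProduct_smul, smul_eq_mul, ← two_mul_quad]
    ring

/-- The Gram matrix of a non-degenerate quadratic form, renamed. -/
noncomputable def gramGL (Q : QuadraticForm F (ι → F)) (hQ : Q.polarBilin.Nondegenerate) (e : ι ≃ Fin n) :
    GL (Fin n) F :=
  Matrix.GeneralLinearGroup.mkOfDetNeZero (Matrix.reindex e e (gram (⇑Q)))
    (by rw [Matrix.det_reindex_self]; exact gram_det_ne_zero Q hQ)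

theorem gramGL_coe (Q : QuadraticForm F (ι → F)) (hQ : Q.polarBilin.Nondegenerate) (e : ι ≃ Fin n) :
    (gramGL Q hQ e : Matrix (Fin n) (Fin n) F) = Matrix.reindex e e (gram (⇑Q)) := rfl

theorem gramGL_transpose (Q : QuadraticForm F (ι → F)) (hQ : Q.polarBilin.Nondegenerate) (e : ι ≃ Fin n) :
    (gramGL Q hQ e : Matrix (Fin n) (Fin n) F)ᵀ = gramGL Q hQ e := by
  rw [gramGL_coe, Matrix.transpose_reindex, gram_symm]

theorem gramGL_det (Q : QuadraticForm F (ι → F)) (hQ : Q.polarBilin.Nondegenerate) (e : ι ≃ Fin n) :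
    (gramGL Q hQ e : Matrix (Fin n) (Fin n) F).det = (gram (⇑Q)).det := by
  rw [gramGL_coe, Matrix.det_reindex_self]

theorem centralizer_gramGL (hn : 2 ≤ n) (h2 : (2 : F) ≠ 0) (Q : QuadraticForm F (ι → F))
    (hQ : Q.polarBilin.Nondegenerate) (e : ι ≃ Fin n) :
    Nonempty (↥(Cfsg.inndiagPSL n F ⊓ Subgroup.centralizer {gx (gramGL Q hQ e)}) ≃*
      Cfsg.PGO F (⇑Q)) :=
  centralizer_equiv_model hn e (gramGL_coe Q hQ e) _ (mem_quadSim_iff h2 Q)

/-- Symmetric forms with the same discriminant are congruent. -/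
theorem exists_congr_sym [Fintype F] (h2 : (2 : F) ≠ 0) {M M' : GL ι F}
    (hM : (M : Matrix ι ι F)ᵀ = M) (hM' : (M' : Matrix ι ι F)ᵀ = M')
    (hsq : IsSquare ((M : Matrix ι ι F).det * (M' : Matrix ι ι F).det)) :
    ∃ P : GL ι F, (P : Matrix ι ι F)ᵀ * (M' : Matrix ι ι F) * (P : Matrix ι ι F) = M := by
  have hg : ∀ A : GL ι F, (A : Matrix ι ι F)ᵀ = A →
      gram (⇑(Matrix.toBilin' (A : Matrix ι ι F)).toQuadraticMap) = (2 : F) • (A : Matrix ι ι F) := by
    intro A hA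
    ext i j
    show QuadraticMap.polar _ _ _ = _
    rw [LinearMap.BilinMap.polar_toQuadraticMap, Matrix.toBilin'_apply', Matrix.toBilin'_apply', bil_single,
      bil_single, show (A : Matrix ι ι F) j i = (A : Matrix ι ι F) i j from congrFun (congrFun hA i) j,
      Matrix.smul_apply, smul_eq_mul]
    ring
  have hne : ∀ A : GL ι F, (A : Matrix ι ι F)ᵀ = A →
      (Matrix.toBilin' (A : Matrix ι ι F)).toQuadraticMap.polarBilin.Nondegenerate := by
    intro A hA
    refine (LinearMap.BilinForm.nondegenerate_iff_det_ne_zero (Pi.basisFun F ι)).mpr ?_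
    rw [← gram_eq_toMatrix, hg A hA, det_smul]
    exact mul_ne_zero (pow_ne_zero _ h2) ((Matrix.isUnit_iff_isUnit_det _).mp A.isUnit).ne_zero
  obtain ⟨g, hg'⟩ := exists_isometry h2 _ _ (hne M hM) (hne M' hM') (by
    rw [hg M hM, hg M' hM', det_smul, det_smul]
    obtain ⟨r, hr⟩ := hsq
    exact ⟨2 ^ Fintype.card ι * r, by linear_combination ((2 : F) ^ Fintype.card ι) ^ 2 * hr⟩)
  refine exists_congr_of_equiv g fun u v => mul_left_cancel₀ h2 ?_
  have h : ∀ u v : ι → F, (g u) ⬝ᵥ ((2 : F) • (M' : Matrix ι ι F)) *ᵥ g v =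
      u ⬝ᵥ ((2 : F) • (M : Matrix ι ι F)) *ᵥ v := by
    intro u v
    rw [← hg M hM, ← hg M' hM', ← polar_eq_gram, ← polar_eq_gram, QuadraticMap.polar, QuadraticMap.polar,
      ← map_add, hg', hg', hg']
  have := h u v
  rwa [smul_mulVec, smul_mulVec, dotProduct_smul, dotProduct_smul, smul_eq_mul, smul_eq_mul] at this

theorem sq_trans {a b c : F} (hb : b ≠ 0) (h : IsSquare (a * b)) (h' : IsSquare (b * c)) : IsSquare (a * c) := by
  obtain ⟨r, hr⟩ := h
  obtain ⟨s, hs⟩ := h'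
  refine ⟨r * s / b, ?_⟩
  field_simp
  linear_combination (b * c) * hr + r ^ 2 * hs

theorem isSquare_or [Fintype F] (x : F) {a b : F} (h : ¬ IsSquare (a * b)) :
    IsSquare (x * a) ∨ IsSquare (x * b) := by
  by_contra hc
  push Not at hc
  have ha : x * a ≠ 0 := fun e => hc.1 (e ▸ IsSquare.zero)
  have hb : x * b ≠ 0 := fun e => hc.2 (e ▸ IsSquare.zero)
  classical
  have hx : x ≠ 0 := left_ne_zero_of_mul ha
  have h2 : ringChar F ≠ 2 := fun e => hc.1 (FiniteField.isSquare_of_char_two e _)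
  have h3 : quadraticChar F (x * a) * quadraticChar F (x * b) = 1 := by
    rw [(quadraticChar_neg_one_iff_not_isSquare (F := F)).mpr hc.1,
      (quadraticChar_neg_one_iff_not_isSquare (F := F)).mpr hc.2]
    norm_num
  rw [← map_mul, quadraticChar_one_iff_isSquare (mul_ne_zero ha hb)] at h3
  obtain ⟨r, hr⟩ := h3
  exact h ⟨r / x, by field_simp; linear_combination hr⟩

theorem isSquare_det_of_congr {M M' : GL (Fin n) F} (hn : Even n) {P : GL (Fin n) F} {c : Fˣ}
    (h : (P : Matrix (Fin n) (Fin n) F)ᵀ * (M : Matrix (Fin n) (Fin n) F) * (P : Matrix (Fin n) (Fin n) F) =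
      (c : F) • (M' : Matrix (Fin n) (Fin n) F)) :
    IsSquare ((M : Matrix (Fin n) (Fin n) F).det * (M' : Matrix (Fin n) (Fin n) F).det) := by
  obtain ⟨l, rfl⟩ := hn
  have h1 := congrArg Matrix.det h
  rw [det_mul, det_mul, det_transpose, det_smul, Fintype.card_fin, pow_add] at h1
  have hP : (P : Matrix (Fin (l + l)) (Fin (l + l)) F).det ≠ 0 :=
    ((Matrix.isUnit_iff_isUnit_det _).mp P.isUnit).ne_zero
  refine ⟨(c : F) ^ l * (M' : Matrix (Fin (l + l)) (Fin (l + l)) F).det /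
    (P : Matrix (Fin (l + l)) (Fin (l + l)) F).det, ?_⟩
  field_simp
  linear_combination (M' : Matrix (Fin (l + l)) (Fin (l + l)) F).det * h1

/-- Symmetric graph automorphisms with the same discriminant are conjugate. -/
theorem isConj_of_isSquare [Fintype F] (hn : 2 ≤ n) (h2 : (2 : F) ≠ 0) {M M' : GL (Fin n) F}
    (hM : (M : Matrix (Fin n) (Fin n) F)ᵀ = M) (hM' : (M' : Matrix (Fin n) (Fin n) F)ᵀ = M')
    (hsq : IsSquare ((M' : Matrix (Fin n) (Fin n) F).det * (M : Matrix (Fin n) (Fin n) F).det)) :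
    Cfsg.IsConjUnder (Cfsg.inndiagPSL n F) (gx M) (gx M') := by
  obtain ⟨P, hP⟩ := exists_congr_sym h2 hM' hM hsq
  exact (isConj_gx_iff hn).mpr ⟨P, 1, by rw [hP, Units.val_one, one_smul]⟩

/-- In odd degree all symmetric forms give conjugate automorphisms. -/
theorem isConj_of_odd [Fintype F] (hn : 2 ≤ n) (hodd : Odd n) (h2 : (2 : F) ≠ 0) {M M' : GL (Fin n) F}
    (hM : (M : Matrix (Fin n) (Fin n) F)ᵀ = M) (hM' : (M' : Matrix (Fin n) (Fin n) F)ᵀ = M') :
    Cfsg.IsConjUnder (Cfsg.inndiagPSL n F) (gx M) (gx M') := by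
  obtain ⟨c, hc⟩ : ∃ c : Fˣ, (c : F) = (M' : Matrix (Fin n) (Fin n) F).det *
      (M : Matrix (Fin n) (Fin n) F).det :=
    ⟨Units.mk0 _ (mul_ne_zero ((Matrix.isUnit_iff_isUnit_det _).mp M'.isUnit).ne_zero
      ((Matrix.isUnit_iff_isUnit_det _).mp M.isUnit).ne_zero), rfl⟩
  have he : gx M = gx (Matrix.GeneralLinearGroup.scalar (Fin n) c * M) :=
    (gx_eq_iff hn).mpr ⟨c, scalar_mul_coe c M⟩
  rw [he]
  refine isConj_of_isSquare hn h2 ?_ hM' ?_
  · rw [scalar_mul_coe, transpose_smul, hM]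
  · rw [scalar_mul_coe, det_smul, Fintype.card_fin]
    obtain ⟨l, rfl⟩ := hodd
    exact ⟨(c : F) ^ (l + 1), by rw [mul_left_comm, ← hc]; ring⟩

theorem gram_det_square {Q : QuadraticForm F (ι → F)} {b : Module.Basis ι F (ι → F)} {w : ι → F}
    (h : IsOrthBasis Q b w) {l : ℕ} (hl : Fintype.card ι = l + l) :
    IsSquare ((gram (⇑Q)).det * ∏ i, w i) := by
  have h1 := h.gram_det
  rw [hl, pow_add] at h1
  have hd : LinearMap.det b.equivFun.symm.toLinearMap ≠ 0 := b.equivFun.symm.isUnit_det'.ne_zero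
  refine ⟨2 ^ l * (∏ i, w i) / LinearMap.det b.equivFun.symm.toLinearMap, ?_⟩
  field_simp
  linear_combination (∏ i, w i) * h1

theorem plus_disc_det (h2 : (2 : F) ≠ 0) (m : ℕ) :
    IsSquare ((gram (Cfsg.quadFormPlus m F)).det * (-1) ^ m) := by
  obtain ⟨b, w, hb, hw⟩ := plus_basis (F := F) h2 m
  have := gram_det_square hb (l := m) (by simp)
  rw [hw, qf_coe] at this
  exact this

theorem minus_disc_det (h2 : (2 : F) ≠ 0) (k : ℕ) (a b : F)
    (hab : ∀ x y : F, x ^ 2 + a * x * y + b * y ^ 2 = 0 → x = 0 ∧ y = 0) :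
    IsSquare ((gram (Cfsg.quadFormMinus k F a b)).det * ((-1) ^ k * (b - a ^ 2 / 4))) := by
  obtain ⟨B, w, hB, hw⟩ := minus_basis (F := F) h2 k a b hab
  have := gram_det_square hB (l := k + 1) (by simp; omega)
  rw [hw, qf_coe] at this
  exact this

/-- The plus and minus models have different discriminants. -/
theorem not_isSquare_plus_minus [Fintype F] (h2 : (2 : F) ≠ 0) (k : ℕ) (a b : F)
    (hab : ∀ x y : F, x ^ 2 + a * x * y + b * y ^ 2 = 0 → x = 0 ∧ y = 0) :
    ¬ IsSquare ((gram (Cfsg.quadFormPlus (k + 1) F)).det * (gram (Cfsg.quadFormMinus k F a b)).det) := by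
  intro h
  have hG : (gram (Cfsg.quadFormMinus k F a b)).det ≠ 0 := by
    have := gram_det_ne_zero (qf (minus_nondeg k a b h2 hab)) (qf_nondeg _)
    rwa [qf_coe] at this
  have hP : (gram (Cfsg.quadFormPlus (k + 1) F)).det ≠ 0 := by
    have := gram_det_ne_zero (qf (plus_nondeg (F := F) (k + 1))) (qf_nondeg _)
    rwa [qf_coe] at this
  have h1 := sq_trans hG h (minus_disc_det h2 k a b hab)
  have h3 : IsSquare ((-1 : F) ^ (k + 1) * ((-1) ^ k * (b - a ^ 2 / 4))) :=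
    sq_trans hP (mul_comm _ ((-1 : F) ^ (k + 1)) ▸ plus_disc_det h2 (k + 1)) h1
  have hd := minus_disc h2 k a b hab
  by_cases hs : IsSquare ((-1 : F) ^ (k + 1))
  · refine hd.not.mpr (not_not.mpr hs) ?_
    have := sq_trans (pow_ne_zero _ (neg_ne_zero.mpr one_ne_zero)) (by rwa [one_mul] : IsSquare (1 * (-1 : F) ^ (k + 1))) h3
    rwa [one_mul] at this
  · have h4 := hd.mpr hs
    apply hs
    have h5 : (-1 : F) ^ k * (b - a ^ 2 / 4) ≠ 0 := by
      refine mul_ne_zero (pow_ne_zero _ (neg_ne_zero.mpr one_ne_zero)) fun e => ?_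
      obtain ⟨h6, h7⟩ := hab (-(a / 2)) 1 (by
        have h4' : (4 : F) ≠ 0 := by
          rw [show (4 : F) = 2 * 2 by norm_num]; exact mul_ne_zero h2 h2
        field_simp at e ⊢
        linear_combination e)
      exact one_ne_zero h7
    have := sq_trans h5 h3 (by rwa [mul_one] : IsSquare ((-1 : F) ^ k * (b - a ^ 2 / 4) * 1))
    rwa [mul_one] at this

/-- An anisotropic binary form without middle term. -/
theorem exists_anisotropic [Fintype F] (h2 : (2 : F) ≠ 0) :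
    ∃ a b : F, ∀ z₁ z₂ : F, z₁ ^ 2 + a * z₁ * z₂ + b * z₂ ^ 2 = 0 → z₁ = 0 ∧ z₂ = 0 := by
  obtain ⟨d, hd⟩ := exists_nonsquare (F := F) h2
  refine ⟨0, -d, fun z₁ z₂ h => ?_⟩
  by_cases hz : z₂ = 0
  · subst hz
    exact ⟨(pow_eq_zero_iff two_ne_zero).mp (by linear_combination h), rfl⟩
  · exact absurd ⟨z₁ / z₂, by field_simp; linear_combination -h⟩ hd

end CfsgLib.GraphForms82
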