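import Cfsg.Agent.Lib.H82.GraphAlt
import Cfsg.Agent.Lib.Orth.Lagrangian
import Cfsg.Agent.Lib.Sp.Simple

/-!
# Symmetric forms in characteristic two and graph automorphisms
-/

set_option autoImplicit false

namespace CfsgLib.GraphForms82

open CfsgLib.AutPSL Matrix

variable {ι : Type} [Fintype ι] [DecidableEq ι] {n m : ℕ} {F : Type*} [Field F] [CharP F 2] [Finite F]

/-- Square roots in characteristic two. -/
noncomputable def root (x : F) : F := (frobeniusEquiv F 2).symm x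

theorem root_sq (x : F) : root x ^ 2 = x := frobeniusEquiv_symm_pow_p _ 2 x

omit [Finite F] in
theorem matrix_neg {κ : Type*} (A : Matrix ι κ F) : -A = A := by
  ext i j
  simp [CharTwo.neg_eq]

omit [Finite F] in
theorem J_symm : (Matrix.J (Fin m) F)ᵀ = Matrix.J (Fin m) F := by rw [Matrix.J_transpose, matrix_neg]

/-- The square roots of the diagonal entries. -/
noncomputable def dvec (M : Matrix ι ι F) : ι → F := fun i => root (M i i)

/-- The value of a symmetric form in characteristic two is the square of a linear form. -/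
theorem diag_sq {M : Matrix ι ι F} (hM : Mᵀ = M) (v : ι → F) :
    v ⬝ᵥ M *ᵥ v = (dvec M ⬝ᵥ v) ^ 2 := by
  have hsym : ∀ i j, M i j = M j i := fun i j => (congrFun (congrFun hM i) j).symm
  obtain ⟨h, hh⟩ : ∃ h : ι × ι → F, h = fun p => if p.1 = p.2 then 0 else v p.1 * (M p.1 p.2 * v p.2) :=
    ⟨_, rfl⟩
  have h0 : ∑ p, h p = 0 := by
    refine Finset.sum_involution (fun p _ => p.swap) (fun p _ => ?_) (fun p _ hp => ?_)
      (fun p _ => Finset.mem_univ _) (fun p _ => Prod.swap_swap p)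
    · have e : h p.swap = h p := by
        rw [hh]
        simp only [Prod.fst_swap, Prod.snd_swap, eq_comm (a := p.2), hsym p.2 p.1]
        split <;> ring
      rw [e]
      exact CharTwo.add_self_eq_zero _
    · intro e
      apply hp
      rw [hh]
      have : p.1 = p.2 := (congrArg Prod.fst e).symm
      simp [this]
  calc v ⬝ᵥ M *ᵥ v = ∑ i, ∑ j, v i * (M i j * v j) := by
        simp [dotProduct, Matrix.mulVec, Finset.mul_sum]
    _ = ∑ i, ∑ j, (h (i, j) + if i = j then v i * (M i j * v j) else 0) := by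
        refine Finset.sum_congr rfl fun i _ => Finset.sum_congr rfl fun j _ => ?_
        rw [hh]
        dsimp only
        split <;> simp
    _ = ∑ p, h p + ∑ i, v i * (M i i * v i) := by
        simp only [Finset.sum_add_distrib, Fintype.sum_prod_type]
        simp
    _ = _ := by
        rw [h0, zero_add, dotProduct, CharTwo.sum_sq]
        refine Finset.sum_congr rfl fun i _ => ?_
        rw [mul_pow, dvec, root_sq]
        ring

/-- The alternating part of a symmetric form. -/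
noncomputable def altPart (M : Matrix ι ι F) : Matrix ι ι F := M + vecMulVec (dvec M) (dvec M)

theorem altPart_mulVec (M : Matrix ι ι F) (v : ι → F) :
    altPart M *ᵥ v = M *ᵥ v + (dvec M ⬝ᵥ v) • dvec M := by
  rw [altPart, add_mulVec, vecMulVec_mulVec, op_smul_eq_smul]

theorem altPart_add (M : Matrix ι ι F) : altPart M + vecMulVec (dvec M) (dvec M) = M := by
  rw [altPart, add_assoc]
  ext i j
  simp [CharTwo.add_self_eq_zero]

theorem altPart_transpose {M : Matrix ι ι F} (hM : Mᵀ = M) : (altPart M)ᵀ = altPart M := by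
  rw [altPart, transpose_add, transpose_vecMulVec, hM]

theorem altPart_alt {M : Matrix ι ι F} (hM : Mᵀ = M) (v : ι → F) : v ⬝ᵥ altPart M *ᵥ v = 0 := by
  rw [altPart_mulVec, dotProduct_add, dotProduct_smul, diag_sq hM, smul_eq_mul, dotProduct_comm v, ← pow_two]
  exact CharTwo.add_self_eq_zero _

/-- The kernel of the alternating part of a non-degenerate symmetric form. -/
theorem altPart_ker {M : GL ι F} {r : ι → F} (h : altPart (M : Matrix ι ι F) *ᵥ r = 0)
    (hd : dvec (M : Matrix ι ι F) ⬝ᵥ r = 0) : r = 0 := by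
  rw [altPart_mulVec, hd, zero_smul, add_zero] at h
  exact Matrix.mulVec_injective_iff_isUnit.mpr M.isUnit (h.trans (mulVec_zero _).symm)

theorem ker_dim (M : GL ι F) (hM : (M : Matrix ι ι F)ᵀ = M) :
    Module.finrank F (LinearMap.ker (Matrix.toBilin' (altPart (M : Matrix ι ι F)))) ≤ 1 ∧
      Even (Fintype.card ι - Module.finrank F (LinearMap.ker (Matrix.toBilin' (altPart (M : Matrix ι ι F))))) := by
  have hA : (Matrix.toBilin' (altPart (M : Matrix ι ι F))).IsAlt := fun v => by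
    rw [Matrix.toBilin'_apply', altPart_alt hM]
  refine ⟨?_, by simpa using CfsgLib.Orth.alt_even_corank _ hA⟩
  let L : (ι → F) →ₗ[F] F :=
    { toFun := fun v => dvec (M : Matrix ι ι F) ⬝ᵥ v
      map_add' := fun x y => dotProduct_add _ _ _
      map_smul' := fun c x => dotProduct_smul c _ _ }
  have hinj : Function.Injective
      (L.comp (LinearMap.ker (Matrix.toBilin' (altPart (M : Matrix ι ι F)))).subtype) := by
    refine (injective_iff_map_eq_zero _).mpr fun r hr => Subtype.ext (altPart_ker ?_ hr)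
    funext i
    have := congrArg (fun f : (ι → F) →ₗ[F] F => f (Pi.single i 1)) (LinearMap.mem_ker.mp r.2)
    rw [Matrix.toBilin'_apply', dotProduct_mulVec, dotProduct_single_one, ← mulVec_transpose,
      altPart_transpose hM] at this
    simpa using this
  exact (LinearMap.finrank_le_finrank_of_injective hinj).trans (Module.finrank_self F).le

theorem congr_add_vecMulVec (A P : Matrix ι ι F) (d : ι → F) :
    Pᵀ * (A + vecMulVec d d) * P = Pᵀ * A * P + vecMulVec (Pᵀ *ᵥ d) (Pᵀ *ᵥ d) := by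
  rw [Matrix.mul_add, Matrix.add_mul, Matrix.mul_vecMulVec, Matrix.vecMulVec_mul, mulVec_transpose]

/-- Isometries of the standard alternating form are transitive on non-zero linear forms. -/
theorem exists_isometry_move (e : Fin m ⊕ Fin m ≃ Fin n) {d u : Fin n → F} (hd : d ≠ 0) (hu : u ≠ 0) :
    ∃ S : GL (Fin n) F,
      (S : Matrix (Fin n) (Fin n) F)ᵀ * (jMat (F := F) e : Matrix (Fin n) (Fin n) F) *
        (S : Matrix (Fin n) (Fin n) F) = jMat (F := F) e ∧
      (S : Matrix (Fin n) (Fin n) F)ᵀ *ᵥ d = u := by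
  classical
  obtain ⟨J, hJ⟩ : ∃ J, J = (jMat (F := F) e : Matrix (Fin n) (Fin n) F) := ⟨_, rfl⟩
  have hsym : Jᵀ = J := by rw [hJ, jMat_transpose, matrix_neg]
  have hinv : ∀ x, J *ᵥ (((jMat (F := F) e)⁻¹ : GL (Fin n) F) : Matrix (Fin n) (Fin n) F) *ᵥ x = x := by
    intro x
    rw [hJ, mulVec_mulVec, ← Units.val_mul, mul_inv_cancel, Units.val_one, one_mulVec]
  have hA : (Matrix.toBilin' J).IsAlt := fun x => by
    rw [Matrix.toBilin'_apply', hJ, jMat_coe, reindex_apply, submatrix_mulVec_equiv, dotProduct_comp_equiv_symm]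
    simp [Matrix.J, fromBlocks_mulVec, neg_mulVec, one_mulVec, dotProduct, Fintype.sum_sum_type, mul_comm, CharTwo.neg_eq, CharTwo.add_self_eq_zero]
  have hB : (Matrix.toBilin' J).SeparatingLeft :=
    (LinearMap.BilinForm.nondegenerate_toBilin'_of_det_ne_zero' _
      (by rw [hJ]; exact ((Matrix.isUnit_iff_isUnit_det _).mp (jMat (F := F) e).isUnit).ne_zero)).1
  have hne : ∀ x, x ≠ 0 →
      (((jMat (F := F) e)⁻¹ : GL (Fin n) F) : Matrix (Fin n) (Fin n) F) *ᵥ x ≠ 0 := by
    intro x hx h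
    exact hx (by rw [← hinv x, h, mulVec_zero])
  obtain ⟨g, hg, hgw⟩ := CfsgLib.Sp.transitive_ne_zero hA hB _ _ (hne u hu) (hne d hd)
  have hiso := CfsgLib.Sp.transvGroup_le_isom hg
  have hfun : ∀ x y, x ⬝ᵥ y = Matrix.toBilin' J
      ((((jMat (F := F) e)⁻¹ : GL (Fin n) F) : Matrix (Fin n) (Fin n) F) *ᵥ x) y := by
    intro x y
    rw [Matrix.toBilin'_apply', dotProduct_mulVec, ← mulVec_transpose, hsym, hinv]
  have e1 : ∀ x, LinearMap.toMatrix' g.toLinearMap *ᵥ x = g x := fun x => LinearMap.toMatrix'_mulVec _ x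
  refine ⟨Matrix.GeneralLinearGroup.mkOfDetNeZero (LinearMap.toMatrix' g.toLinearMap)
    (by rw [LinearMap.det_toMatrix']; exact g.isUnit_det'.ne_zero), ?_, ?_⟩
  · refine matrix_eq_of_bil fun x y => ?_
    rw [← bil_comp, ← hJ]
    show (LinearMap.toMatrix' g.toLinearMap *ᵥ x) ⬝ᵥ J *ᵥ (LinearMap.toMatrix' g.toLinearMap *ᵥ y) = _
    rw [e1, e1, ← Matrix.toBilin'_apply', ← Matrix.toBilin'_apply', hiso]
  · funext i
    show ((LinearMap.toMatrix' g.toLinearMap)ᵀ *ᵥ d) i = u i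
    have h1 := hfun d (g (Pi.single i 1))
    rw [← hgw, hiso, ← hfun] at h1
    rw [← single_one_dotProduct i ((LinearMap.toMatrix' g.toLinearMap)ᵀ *ᵥ d), dotProduct_comm,
      mulVec_transpose, ← dotProduct_mulVec, e1, h1, dotProduct_single_one]

/-- The functional of the non-alternating model. -/
def uVec (i₀ : Fin m) : Fin m ⊕ Fin m → F := Pi.single (Sum.inl i₀) 1

/-- The non-alternating model in even dimension. -/
def bEven (i₀ : Fin m) : Matrix (Fin m ⊕ Fin m) (Fin m ⊕ Fin m) F :=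
  Matrix.J (Fin m) F + vecMulVec (uVec i₀) (uVec i₀)

omit [Finite F] in
theorem J_single (i₀ : Fin m) :
    Matrix.J (Fin m) F *ᵥ Pi.single (Sum.inr i₀) 1 = uVec i₀ := by
  rw [mulVec_single_one]
  funext x
  rcases x with j | j <;> simp [Matrix.J, uVec, Matrix.one_apply, Pi.single_apply, CharTwo.neg_eq]

omit [Finite F] in
theorem det_bEven (i₀ : Fin m) : (bEven (F := F) i₀).det ≠ 0 := by
  intro h
  obtain ⟨v, hv, he⟩ := Matrix.exists_mulVec_eq_zero_iff.mpr h
  rw [bEven, add_mulVec, vecMulVec_mulVec, op_smul_eq_smul, add_eq_zero_iff_eq_neg] at he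
  have h2 : Matrix.J (Fin m) F *ᵥ v =
      Matrix.J (Fin m) F *ᵥ ((uVec i₀ ⬝ᵥ v) • Pi.single (Sum.inr i₀) 1) := by
    rw [he, mulVec_smul, J_single]
    funext x
    simp [CharTwo.neg_eq]
  have h3 : v = (uVec i₀ ⬝ᵥ v) • Pi.single (Sum.inr i₀) 1 :=
    Matrix.mulVec_injective_iff_isUnit.mpr
      ((Matrix.isUnit_iff_isUnit_det _).mpr (Matrix.isUnit_det_J (Fin m) F)) h2
  have h4 : uVec i₀ ⬝ᵥ v = 0 := by
    rw [h3, dotProduct_smul, uVec, single_one_dotProduct]
    simp
  exact hv (by rw [h3, h4, zero_smul])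

/-- The non-alternating model as an invertible matrix. -/
noncomputable def bEvenGL (e : Fin m ⊕ Fin m ≃ Fin n) (i₀ : Fin m) : GL (Fin n) F :=
  Matrix.GeneralLinearGroup.mkOfDetNeZero (Matrix.reindex e e (bEven i₀))
    (by rw [Matrix.det_reindex_self]; exact det_bEven i₀)

omit [Finite F] in
theorem bEvenGL_coe (e : Fin m ⊕ Fin m ≃ Fin n) (i₀ : Fin m) :
    (bEvenGL (F := F) e i₀ : Matrix (Fin n) (Fin n) F) = Matrix.reindex e e (bEven i₀) := rfl

omit [Finite F] in
theorem bEvenGL_transpose (e : Fin m ⊕ Fin m ≃ Fin n) (i₀ : Fin m) :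
    (bEvenGL (F := F) e i₀ : Matrix (Fin n) (Fin n) F)ᵀ = bEvenGL (F := F) e i₀ := by
  rw [bEvenGL_coe, Matrix.transpose_reindex, bEven, transpose_add, transpose_vecMulVec, J_symm]

omit [Finite F] in
theorem bEvenGL_not_alt (e : Fin m ⊕ Fin m ≃ Fin n) (i₀ : Fin m) :
    Pi.single (e (Sum.inl i₀)) 1 ⬝ᵥ (bEvenGL (F := F) e i₀ : Matrix (Fin n) (Fin n) F) *ᵥ
      Pi.single (e (Sum.inl i₀)) 1 = 1 := by
  rw [bil_single, bEvenGL_coe, reindex_apply, submatrix_apply, Equiv.symm_apply_apply]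
  simp [bEven, Matrix.J, uVec, vecMulVec_apply]

/-- In even degree and characteristic two there are two classes of symmetric forms. -/
theorem even_classes (e : Fin m ⊕ Fin m ≃ Fin n) (i₀ : Fin m) {M : GL (Fin n) F}
    (hM : (M : Matrix (Fin n) (Fin n) F)ᵀ = M) :
    ∃ P : GL (Fin n) F, (P : Matrix (Fin n) (Fin n) F)ᵀ * (M : Matrix (Fin n) (Fin n) F) *
        (P : Matrix (Fin n) (Fin n) F) = jMat (F := F) e ∨
      (P : Matrix (Fin n) (Fin n) F)ᵀ * (M : Matrix (Fin n) (Fin n) F) *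
        (P : Matrix (Fin n) (Fin n) F) = bEvenGL (F := F) e i₀ := by
  by_cases hd : dvec (M : Matrix (Fin n) (Fin n) F) = 0
  · obtain ⟨P, hP⟩ := exists_congr_alt e (M := M) fun v => by
      rw [diag_sq hM, hd, zero_dotProduct, zero_pow two_ne_zero]
    exact ⟨P, Or.inl hP⟩
  obtain ⟨hk1, hk2⟩ := ker_dim M hM
  have hn : n = m + m := by simpa using (Fintype.card_congr e).symm
  rw [Fintype.card_fin, Nat.even_iff] at hk2
  have hi₀ := i₀.2
  have hk : Module.finrank F (LinearMap.ker (Matrix.toBilin' (altPart (M : Matrix (Fin n) (Fin n) F)))) = 0 := by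
    omega
  rw [Submodule.finrank_eq_zero] at hk
  have hdet : (altPart (M : Matrix (Fin n) (Fin n) F)).det ≠ 0 := by
    intro h
    obtain ⟨r, hr, he⟩ := Matrix.exists_mulVec_eq_zero_iff.mpr h
    apply hr
    have : r ∈ LinearMap.ker (Matrix.toBilin' (altPart (M : Matrix (Fin n) (Fin n) F))) := by
      refine LinearMap.mem_ker.mpr (LinearMap.ext fun v => ?_)
      rw [Matrix.toBilin'_apply', dotProduct_mulVec, ← mulVec_transpose, altPart_transpose hM, he,
        zero_dotProduct]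
      rfl
    rwa [hk, Submodule.mem_bot] at this
  obtain ⟨P, hP⟩ := exists_congr_alt e
    (M := Matrix.GeneralLinearGroup.mkOfDetNeZero _ hdet) (fun v => altPart_alt hM v)
  have hP' : (P : Matrix (Fin n) (Fin n) F)ᵀ * altPart (M : Matrix (Fin n) (Fin n) F) *
      (P : Matrix (Fin n) (Fin n) F) = jMat (F := F) e := hP
  have hd' : (P : Matrix (Fin n) (Fin n) F)ᵀ *ᵥ dvec (M : Matrix (Fin n) (Fin n) F) ≠ 0 := fun h =>
    hd (Matrix.mulVec_injective_iff_isUnit.mpr
      ((Matrix.isUnit_iff_isUnit_det _).mpr (by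
        rw [det_transpose]; exact (Matrix.isUnit_iff_isUnit_det _).mp P.isUnit))
      (h.trans (mulVec_zero _).symm))
  obtain ⟨S, hS, hSd⟩ := exists_isometry_move e hd'
    (u := Pi.single (e (Sum.inl i₀)) 1) (Pi.single_ne_zero_iff.mpr one_ne_zero)
  refine ⟨P * S, Or.inr ?_⟩
  conv_lhs => rw [← altPart_add (M : Matrix (Fin n) (Fin n) F)]
  rw [congr_add_vecMulVec, Units.val_mul, transpose_mul, ← mulVec_mulVec, hSd,
    show (S : Matrix (Fin n) (Fin n) F)ᵀ * (P : Matrix (Fin n) (Fin n) F)ᵀ *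
      altPart (M : Matrix (Fin n) (Fin n) F) * ((P : Matrix (Fin n) (Fin n) F) * (S : Matrix (Fin n) (Fin n) F)) =
      (S : Matrix (Fin n) (Fin n) F)ᵀ * ((P : Matrix (Fin n) (Fin n) F)ᵀ *
        altPart (M : Matrix (Fin n) (Fin n) F) * (P : Matrix (Fin n) (Fin n) F)) * (S : Matrix (Fin n) (Fin n) F)
      by simp only [Matrix.mul_assoc], hP', hS, jMat_coe, bEvenGL_coe]
  ext i j
  simp [bEven, uVec, vecMulVec_apply, Pi.single_apply, Equiv.symm_apply_eq]

/-- The non-alternating model in odd dimension. -/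
def bOdd (m : ℕ) (F : Type*) [Field F] :
    Matrix (Unit ⊕ (Fin m ⊕ Fin m)) (Unit ⊕ (Fin m ⊕ Fin m)) F :=
  fromBlocks 1 0 0 (Matrix.J (Fin m) F)

/-- The odd model as an invertible matrix. -/
noncomputable def bOddGL (e : Unit ⊕ (Fin m ⊕ Fin m) ≃ Fin n) : GL (Fin n) F :=
  Matrix.GeneralLinearGroup.mkOfDetNeZero (Matrix.reindex e e (bOdd m F))
    (by
      rw [Matrix.det_reindex_self, bOdd, det_fromBlocks_zero₂₁, det_one, one_mul]
      exact (Matrix.isUnit_det_J (Fin m) F).ne_zero)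

omit [CharP F 2] [Finite F] in
theorem bOddGL_coe (e : Unit ⊕ (Fin m ⊕ Fin m) ≃ Fin n) :
    (bOddGL (F := F) e : Matrix (Fin n) (Fin n) F) = Matrix.reindex e e (bOdd m F) := rfl

/-- In odd degree and characteristic two there is one class of symmetric forms. -/
theorem odd_class (e : Unit ⊕ (Fin m ⊕ Fin m) ≃ Fin n) {M : GL (Fin n) F}
    (hM : (M : Matrix (Fin n) (Fin n) F)ᵀ = M) :
    ∃ P : GL (Fin n) F, (P : Matrix (Fin n) (Fin n) F)ᵀ * (M : Matrix (Fin n) (Fin n) F) *
        (P : Matrix (Fin n) (Fin n) F) = bOddGL (F := F) e := by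
  obtain ⟨hk1, hk2⟩ := ker_dim M hM
  have hn : n = 1 + (m + m) := by simpa using (Fintype.card_congr e).symm
  rw [Fintype.card_fin, Nat.even_iff] at hk2
  obtain ⟨A, hAdef⟩ : ∃ A, A = altPart (M : Matrix (Fin n) (Fin n) F) := ⟨_, rfl⟩
  have hk : Module.finrank F (LinearMap.ker (Matrix.toBilin' (altPart (M : Matrix (Fin n) (Fin n) F)))) ≠ 0 := by
    omega
  rw [Ne, Submodule.finrank_eq_zero, ← Ne, Submodule.ne_bot_iff] at hk
  obtain ⟨r0, hr0, hr0ne⟩ := hk
  rw [← hAdef] at hr0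
  have hAt : Aᵀ = A := hAdef ▸ altPart_transpose hM
  have hA0 : A *ᵥ r0 = 0 := by
    funext i
    have := congrArg (fun f : (Fin n → F) →ₗ[F] F => f (Pi.single i 1)) (LinearMap.mem_ker.mp hr0)
    rw [Matrix.toBilin'_apply', dotProduct_mulVec, dotProduct_single_one, ← mulVec_transpose, hAt] at this
    simpa using this
  obtain ⟨d, hddef⟩ : ∃ d, d = dvec (M : Matrix (Fin n) (Fin n) F) := ⟨_, rfl⟩
  have hdr0 : d ⬝ᵥ r0 ≠ 0 := fun h => hr0ne (altPart_ker (M := M) (hAdef ▸ hA0) (hddef ▸ h))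
  obtain ⟨r, hrdef⟩ : ∃ r, r = (d ⬝ᵥ r0)⁻¹ • r0 := ⟨_, rfl⟩
  have hAr : A *ᵥ r = 0 := by rw [hrdef, mulVec_smul, hA0, smul_zero]
  have hdr : d ⬝ᵥ r = 1 := by rw [hrdef, dotProduct_smul, smul_eq_mul, inv_mul_cancel₀ hdr0]
  let L : (Fin n → F) →ₗ[F] F :=
    { toFun := fun v => d ⬝ᵥ v
      map_add' := fun x y => dotProduct_add _ _ _
      map_smul' := fun c x => dotProduct_smul c _ _ }
  have hW : Module.finrank F (LinearMap.ker L) = m + m := by
    have h := LinearMap.finrank_range_add_finrank_ker L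
    have hs : LinearMap.range L = ⊤ := LinearMap.range_eq_top.mpr fun x =>
      ⟨x • r, show d ⬝ᵥ (x • r) = x by rw [dotProduct_smul, hdr, smul_eq_mul, mul_one]⟩
    rw [hs, finrank_top, Module.finrank_self, Module.finrank_pi, Fintype.card_fin] at h
    omega
  let β : LinearMap.BilinForm F (LinearMap.ker L) := (Matrix.toBilin' A).restrict (LinearMap.ker L)
  have hβa : ∀ x y : LinearMap.ker L, β x y = (x : Fin n → F) ⬝ᵥ A *ᵥ y := fun x y =>
    Matrix.toBilin'_apply' A _ _
  have hβ : β.IsAlt := fun x => by rw [hβa, hAdef, altPart_alt hM]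
  have hsymA : ∀ x y : Fin n → F, x ⬝ᵥ A *ᵥ y = (A *ᵥ x) ⬝ᵥ y := fun x y => by
    rw [dotProduct_mulVec, ← mulVec_transpose, hAt]
  have hβB : β.SeparatingLeft := by
    intro x hx
    refine Subtype.ext (altPart_ker (M := M) ?_ (hddef ▸ x.2))
    rw [← hAdef]
    funext i
    have h1 := hx ⟨Pi.single i 1 - d i • r, show d ⬝ᵥ _ = 0 by
      rw [dotProduct_sub, dotProduct_smul, hdr, smul_eq_mul, mul_one, dotProduct_single_one, sub_self]⟩
    rw [hβa, mulVec_sub, mulVec_smul, hAr, smul_zero, sub_zero, hsymA, dotProduct_single_one] at h1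
    exact h1
  obtain ⟨c, hc⟩ := CfsgLib.AutPSp.exists_symp_cols (m := m) β hβ hβB hW
  obtain ⟨col, hcol⟩ : ∃ col : Unit ⊕ (Fin m ⊕ Fin m) → (Fin n → F),
      col = Sum.elim (fun _ => r) (fun i => (c i : Fin n → F)) := ⟨_, rfl⟩
  obtain ⟨P, hP⟩ : ∃ P : Matrix (Fin n) (Fin n) F, P = Matrix.of fun k j => col (e.symm j) k := ⟨_, rfl⟩
  have hMA : ∀ x y : Fin n → F, x ⬝ᵥ (M : Matrix (Fin n) (Fin n) F) *ᵥ y =
      x ⬝ᵥ A *ᵥ y + (d ⬝ᵥ x) * (d ⬝ᵥ y) := by
    intro x y
    conv_lhs => rw [← altPart_add (M : Matrix (Fin n) (Fin n) F), ← hAdef, ← hddef]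
    rw [add_mulVec, dotProduct_add, vecMulVec_mulVec, op_smul_eq_smul, dotProduct_smul, smul_eq_mul,
      dotProduct_comm x d, mul_comm (d ⬝ᵥ y)]
  have key : Pᵀ * (M : Matrix (Fin n) (Fin n) F) * P = Matrix.reindex e e (bOdd m F) := by
    ext i j
    rw [← bil_single (Pᵀ * _ * P) i j, ← bil_comp, Matrix.reindex_apply, Matrix.submatrix_apply]
    have hPi : ∀ j, P *ᵥ Pi.single j 1 = col (e.symm j) := fun j => by
      rw [mulVec_single_one, hP]; rfl
    rw [hPi, hPi, hMA, hcol]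
    rcases e.symm i with x | x <;> rcases e.symm j with y | y
    · simp [hAr, hdr, bOdd]
    · have hy : d ⬝ᵥ (c y : Fin n → F) = 0 := (c y).2
      simp [hsymA, hAr, hdr, hy, bOdd]
    · have hx : d ⬝ᵥ (c x : Fin n → F) = 0 := (c x).2
      simp [hAr, hdr, hx, bOdd]
    · have hx : d ⬝ᵥ (c x : Fin n → F) = 0 := (c x).2
      have hy : d ⬝ᵥ (c y : Fin n → F) = 0 := (c y).2
      have := hc x y
      rw [hβa, sympForm_eq, bil_single] at this
      simp [hx, hy, this, bOdd]
  have hdet : P.det ≠ 0 := fun h0 => by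
    have h1 := congrArg Matrix.det key
    rw [Matrix.det_mul, h0, mul_zero, ← bOddGL_coe] at h1
    exact ((Matrix.isUnit_iff_isUnit_det _).mp (bOddGL (F := F) e).isUnit).ne_zero h1.symm
  exact ⟨Matrix.GeneralLinearGroup.mkOfDetNeZero P hdet, key⟩

end CfsgLib.GraphForms82
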