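import Cfsg.Agent.Lib.H82.GraphTwo

/-!
# Centralizers of graph automorphisms in characteristic two
-/

set_option autoImplicit false

namespace CfsgLib.GraphForms82

open CfsgLib.AutPSL Matrix

variable {n m : ℕ} {F : Type*} [Field F] [CharP F 2] [Finite F]

instance scalarsNormal {ι : Type} [Fintype ι] [DecidableEq ι] {F : Type*} [Field F] (Q : Subgroup (GL ι F)) :
    ((Cfsg.Geo.scalars ι F).subgroupOf Q).Normal := by
  refine ⟨fun x hx g => ?_⟩
  rw [Subgroup.mem_subgroupOf, mem_scalars] at hx ⊢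
  obtain ⟨u, hu⟩ := hx
  refine ⟨u, ?_⟩
  have hc : (g : GL ι F) * Matrix.GeneralLinearGroup.scalar ι u =
      Matrix.GeneralLinearGroup.scalar ι u * (g : GL ι F) := by
    apply Units.ext
    rw [scalar_mul_coe, Units.val_mul, scalar_coe, Matrix.mul_smul, Matrix.mul_one]
  rw [Subgroup.coe_mul, Subgroup.coe_mul, Subgroup.coe_inv, hu, hc, mul_inv_cancel_right]

/-- The symplectic group inside the renamed general linear group. -/
noncomputable def spHom (e : Fin m ⊕ Fin m ≃ Fin n) : Matrix.symplecticGroup (Fin m) F →* GL (Fin n) F :=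
  (glReindex e).toMonoidHom.comp ((Cfsg.spGL m F).subtype.comp (CfsgLib.Sp.spEquiv m F).toMonoidHom)

omit [CharP F 2] [Finite F] in
theorem spHom_coe (e : Fin m ⊕ Fin m ≃ Fin n) (A : Matrix.symplecticGroup (Fin m) F) :
    (spHom e A : Matrix (Fin n) (Fin n) F) = Matrix.reindex e e A.1 := rfl

/-- Square matrices indexed as the standard odd form. -/
abbrev OddMat (m : ℕ) (F : Type*) := Matrix (Unit ⊕ (Fin m ⊕ Fin m)) (Unit ⊕ (Fin m ⊕ Fin m)) F

theorem exists_root (c : Fˣ) : ∃ s : Fˣ, (s : F) ^ 2 = (c : F) :=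
  ⟨Units.mk0 (root (c : F)) (fun h => c.ne_zero (by rw [← root_sq (c : F), h, zero_pow two_ne_zero])),
    root_sq _⟩

omit [Finite F] in
theorem spHom_scalar_iff (hm : 1 ≤ m) (e : Fin m ⊕ Fin m ≃ Fin n) (A : Matrix.symplecticGroup (Fin m) F) :
    (∃ u : Fˣ, spHom e A = Matrix.GeneralLinearGroup.scalar (Fin n) u) ↔ A = 1 := by
  constructor
  · rintro ⟨u, hu⟩
    have h1 : A.1 = (u : F) • (1 : Matrix (Fin m ⊕ Fin m) (Fin m ⊕ Fin m) F) := by
      apply (Matrix.reindex e e).injective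
      rw [← spHom_coe, hu, scalar_coe, reindex_smul]
      simp
    have h2 := SymplecticGroup.mem_iff'.mp A.2
    rw [h1, transpose_smul, transpose_one, Matrix.smul_mul, Matrix.one_mul, Matrix.mul_smul, Matrix.mul_one,
      smul_smul] at h2
    have h3 := congrFun (congrFun h2 (Sum.inl ⟨0, hm⟩)) (Sum.inr ⟨0, hm⟩)
    simp [Matrix.J, CharTwo.neg_eq] at h3
    have h4 : (u : F) = 1 := CharTwo.sq_inj.mp (by rw [pow_two, h3, one_pow])
    exact Subtype.ext (by rw [h1, h4, one_smul]; rfl)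
  · rintro rfl
    exact ⟨1, by rw [map_one, map_one]⟩

/-- The centralizer of the alternating class is the symplectic group. -/
theorem centralizer_alt (hn : 2 ≤ n) (hm : 1 ≤ m) (e : Fin m ⊕ Fin m ≃ Fin n) :
    Nonempty (↥(Cfsg.inndiagPSL n F ⊓ Subgroup.centralizer {gx (jMat (F := F) e)}) ≃*
      Matrix.symplecticGroup (Fin m) F) := by
  refine (centralizer_equiv hn (jMat (F := F) e) (spHom e) ⊥ (fun q => ?_) (fun k hk => ?_)
    (fun q => by rw [Subgroup.mem_bot, spHom_scalar_iff hm e])).map fun E => E.trans QuotientGroup.quotientBot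
  · refine ⟨1, ?_⟩
    rw [Units.val_one, one_smul, jMat_coe, spHom_coe, Matrix.transpose_reindex, ← reindex_mul, ← reindex_mul,
      SymplecticGroup.mem_iff'.mp q.2]
  · obtain ⟨k, rfl⟩ := (glReindex e).surjective k
    rw [jMat_coe, glReindex_mem_simGroup] at hk
    obtain ⟨c, hc⟩ := hk
    obtain ⟨s, hs⟩ := exists_root c
    have hsp : (s⁻¹ : F) • (k : Matrix (Fin m ⊕ Fin m) (Fin m ⊕ Fin m) F) ∈
        Matrix.symplecticGroup (Fin m) F := by
      rw [SymplecticGroup.mem_iff', transpose_smul, Matrix.smul_mul, Matrix.smul_mul, Matrix.mul_smul, hc,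
        smul_smul, smul_smul, ← hs]
      rw [show (s : F)⁻¹ * (s : F)⁻¹ * (s : F) ^ 2 = 1 by field_simp, one_smul]
    refine ⟨⟨_, hsp⟩, s⁻¹, Units.ext ?_⟩
    rw [spHom_coe, scalar_mul_coe, glReindex_coe, reindex_smul, Units.val_inv_eq_inv_val]

/-- The transvection with axis given by `uVec`. -/
noncomputable def tMat (i₀ : Fin m) : Matrix.symplecticGroup (Fin m) F :=
  ⟨1 + vecMulVec (Pi.single (Sum.inr i₀) 1) (uVec i₀), by
    have hwJ : Pi.single (Sum.inr i₀) 1 ᵥ* Matrix.J (Fin m) F = uVec i₀ := by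
      rw [← mulVec_transpose, J_symm, J_single]
    have hwu : uVec (F := F) i₀ ⬝ᵥ Pi.single (Sum.inr i₀) 1 = 0 := by
      simp [uVec, single_one_dotProduct]
    rw [SymplecticGroup.mem_iff', transpose_add, transpose_one, transpose_vecMulVec, Matrix.add_mul,
      Matrix.one_mul, vecMulVec_mul, hwJ, Matrix.mul_add, Matrix.mul_one, Matrix.add_mul, Matrix.mul_vecMulVec,
      J_single, vecMulVec_mul_vecMulVec, hwu]
    ext i j
    simp only [Matrix.add_apply, vecMulVec_apply, zero_smul, Pi.zero_apply, mul_zero, Matrix.zero_apply,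
      Pi.smul_apply, smul_eq_mul, zero_mul, add_zero]
    rw [add_assoc, CharTwo.add_self_eq_zero, add_zero]⟩

theorem tMat_isTransvection (i₀ : Fin m) : Cfsg.IsTransvection (tMat (F := F) i₀).1 := by
  have h : (tMat (F := F) i₀).1 - 1 = vecMulVec (Pi.single (Sum.inr i₀) 1) (uVec i₀) := by
    show 1 + vecMulVec _ _ - 1 = _
    rw [add_sub_cancel_left]
  rw [Cfsg.IsTransvection, h]
  refine ⟨le_antisymm (Matrix.rank_vecMulVec_le _ _) ?_, ?_⟩
  · rw [Nat.one_le_iff_ne_zero]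
    intro h0
    rw [Matrix.rank, Submodule.finrank_eq_zero, LinearMap.range_eq_bot] at h0
    have h1 := congrFun (LinearMap.congr_fun h0 (Pi.single (Sum.inl i₀) 1)) (Sum.inr i₀)
    simp [uVec, vecMulVec_apply, mulVec_single_one] at h1
  · rw [vecMulVec_mul_vecMulVec]
    ext i j
    simp [uVec, vecMulVec_apply, single_one_dotProduct]

theorem commute_tMat_iff (i₀ : Fin m) (A : Matrix.symplecticGroup (Fin m) F) :
    A * tMat i₀ = tMat i₀ * A ↔ A.1ᵀ *ᵥ uVec i₀ = uVec i₀ := by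
  obtain ⟨w, hw⟩ : ∃ w : Fin m ⊕ Fin m → F, w = Pi.single (Sum.inr i₀) 1 := ⟨_, rfl⟩
  have hJw : Matrix.J (Fin m) F *ᵥ w = uVec i₀ := hw ▸ J_single i₀
  have hA := SymplecticGroup.mem_iff'.mp A.2
  have hkey : A * tMat i₀ = tMat i₀ * A ↔
      vecMulVec (A.1 *ᵥ w) (uVec i₀) = vecMulVec w (A.1ᵀ *ᵥ uVec i₀) := by
    rw [Subtype.ext_iff, Submonoid.coe_mul, Submonoid.coe_mul]
    show A.1 * (1 + vecMulVec _ _) = (1 + vecMulVec _ _) * A.1 ↔ _
    rw [Matrix.mul_add, Matrix.add_mul, Matrix.mul_one, Matrix.one_mul, add_right_inj, Matrix.mul_vecMulVec,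
      vecMulVec_mul, mulVec_transpose, hw]
  rw [hkey]
  constructor
  · intro h
    obtain ⟨a, hadef⟩ : ∃ a, a = (A.1 *ᵥ w) (Sum.inr i₀) := ⟨_, rfl⟩
    have h1 : A.1ᵀ *ᵥ uVec i₀ = a • uVec i₀ := by
      funext j
      have := congrFun (congrFun h (Sum.inr i₀)) j
      simpa [vecMulVec_apply, hw, hadef] using this.symm
    have h2 : A.1 *ᵥ w = a • w := by
      funext i
      have := congrFun (congrFun h i) (Sum.inl i₀)
      rw [h1] at this
      simp [vecMulVec_apply, uVec] at this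
      rw [Pi.smul_apply, smul_eq_mul, mul_comm, ← this]
    have h3 : (A.1ᵀ * Matrix.J (Fin m) F * A.1) *ᵥ w = Matrix.J (Fin m) F *ᵥ w := by rw [hA]
    rw [← mulVec_mulVec, h2, mulVec_smul, ← mulVec_mulVec, hJw, h1, smul_smul] at h3
    have h4 : a * a = 1 := by
      have := congrFun h3 (Sum.inl i₀)
      simpa [uVec] using this
    rw [h1, CharTwo.sq_inj.mp (show a ^ 2 = 1 ^ 2 by rw [pow_two, h4, one_pow]), one_smul]
  · intro h
    have h2 : A.1 *ᵥ w = w := by
      have h3 : (A.1ᵀ * Matrix.J (Fin m) F * A.1) *ᵥ w = Matrix.J (Fin m) F *ᵥ w := by rw [hA]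
      rw [← mulVec_mulVec, ← mulVec_mulVec, hJw, ← h] at h3
      have hu : IsUnit A.1ᵀ := by
        rw [Matrix.isUnit_iff_isUnit_det, det_transpose]
        exact SymplecticGroup.symplectic_det A.2
      have h5 := Matrix.mulVec_injective_iff_isUnit.mpr hu h3
      exact Matrix.mulVec_injective_iff_isUnit.mpr
        ((Matrix.isUnit_iff_isUnit_det _).mpr (Matrix.isUnit_det_J (Fin m) F)) (h5.trans hJw.symm)
    rw [h2, h]

/-- The centralizer of the non-alternating class is the centralizer of a transvection. -/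
theorem centralizer_bEven (hn : 2 ≤ n) (e : Fin m ⊕ Fin m ≃ Fin n) (i₀ : Fin m) :
    Nonempty (↥(Cfsg.inndiagPSL n F ⊓ Subgroup.centralizer {gx (bEvenGL (F := F) e i₀)}) ≃*
      ↥(Subgroup.centralizer ({tMat i₀} : Set (Matrix.symplecticGroup (Fin m) F)))) := by
  have hm : 1 ≤ m := Nat.lt_of_le_of_lt (Nat.zero_le _) i₀.2
  refine (centralizer_equiv hn (bEvenGL (F := F) e i₀)
    ((spHom e).comp (Subgroup.centralizer ({tMat i₀} : Set (Matrix.symplecticGroup (Fin m) F))).subtype)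
    ⊥ (fun q => ?_) (fun k hk => ?_)
    (fun q => by
      rw [Subgroup.mem_bot, MonoidHom.comp_apply, spHom_scalar_iff hm e]
      exact ⟨fun h => by rw [h]; rfl, fun h => Subtype.ext h⟩)).map fun E => E.trans QuotientGroup.quotientBot
  · refine ⟨1, ?_⟩
    have hq := (commute_tMat_iff i₀ q.1).mp (Subgroup.mem_centralizer_singleton_iff.mp q.2)
    rw [Units.val_one, one_smul, bEvenGL_coe, MonoidHom.comp_apply, spHom_coe, Matrix.transpose_reindex,
      ← reindex_mul, ← reindex_mul, bEven, congr_add_vecMulVec, Subgroup.coe_subtype,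
      SymplecticGroup.mem_iff'.mp q.1.2, hq]
  · obtain ⟨k, rfl⟩ := (glReindex e).surjective k
    rw [bEvenGL_coe, glReindex_mem_simGroup] at hk
    obtain ⟨c, hc⟩ := hk
    obtain ⟨s, hs⟩ := exists_root c
    obtain ⟨k', hk'⟩ : ∃ k', k' = (s⁻¹ : F) • (k : Matrix (Fin m ⊕ Fin m) (Fin m ⊕ Fin m) F) := ⟨_, rfl⟩
    have hiso : k'ᵀ * bEven i₀ * k' = bEven i₀ := by
      rw [hk', transpose_smul, Matrix.smul_mul, Matrix.smul_mul, Matrix.mul_smul, hc,
        smul_smul, smul_smul, ← hs]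
      rw [show (s : F)⁻¹ * (s : F)⁻¹ * (s : F) ^ 2 = 1 by field_simp, one_smul]
    have hquad : ∀ v, v ⬝ᵥ bEven i₀ *ᵥ v = (uVec (F := F) i₀ ⬝ᵥ v) ^ 2 := by
      intro v
      have hJ : v ⬝ᵥ Matrix.J (Fin m) F *ᵥ v = 0 := by
        simp [Matrix.J, fromBlocks_mulVec, neg_mulVec, one_mulVec, dotProduct, Fintype.sum_sum_type,
          mul_comm, CharTwo.neg_eq, CharTwo.add_self_eq_zero]
      rw [bEven, add_mulVec, dotProduct_add, hJ, zero_add, vecMulVec_mulVec, op_smul_eq_smul,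
        dotProduct_smul, smul_eq_mul, dotProduct_comm v, pow_two]
    have hu : k'ᵀ *ᵥ uVec i₀ = uVec i₀ := by
      funext i
      refine CharTwo.sq_inj.mp ?_
      have h1 := hquad (k' *ᵥ Pi.single i 1)
      rw [bil_comp, hiso, hquad] at h1
      rw [dotProduct_mulVec, dotProduct_single_one, dotProduct_single_one] at h1
      rw [h1, mulVec_transpose]
    have hsp : k' ∈ Matrix.symplecticGroup (Fin m) F := by
      rw [SymplecticGroup.mem_iff']
      have := congr_add_vecMulVec (Matrix.J (Fin m) F) k' (uVec i₀)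
      rw [← bEven, hiso, hu, bEven] at this
      exact (add_right_cancel this).symm
    refine ⟨⟨⟨k', hsp⟩, Subgroup.mem_centralizer_singleton_iff.mpr ((commute_tMat_iff i₀ _).mpr hu)⟩,
      s⁻¹, Units.ext ?_⟩
    rw [MonoidHom.comp_apply, spHom_coe, scalar_mul_coe, glReindex_coe, Subgroup.coe_subtype,
      Units.val_inv_eq_inv_val, ← reindex_smul, ← hk']

/-- The hyperbolic form as a matrix. -/
def uMat (m : ℕ) (F : Type*) [Field F] : Matrix (Fin m ⊕ Fin m) (Fin m ⊕ Fin m) F := fromBlocks 0 1 0 0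

omit [Finite F] in
theorem uMat_add : uMat m F + (uMat m F)ᵀ = Matrix.J (Fin m) F := by
  rw [uMat, fromBlocks_transpose, transpose_zero, transpose_one, fromBlocks_add, add_zero, add_zero, zero_add,
    Matrix.J]
  congr 1
  exact (matrix_neg _).symm

omit [CharP F 2] [Finite F] in
theorem quadFormOdd_eq (v : Unit ⊕ (Fin m ⊕ Fin m) → F) :
    Cfsg.quadFormOdd m F v =
      v (Sum.inl ()) ^ 2 + (v ∘ Sum.inr) ⬝ᵥ uMat m F *ᵥ (v ∘ Sum.inr) := by
  simp [Cfsg.quadFormOdd, uMat, fromBlocks_mulVec, dotProduct, Fintype.sum_sum_type]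

omit [Finite F] in
theorem bOdd_quad (v : Unit ⊕ (Fin m ⊕ Fin m) → F) :
    v ⬝ᵥ bOdd m F *ᵥ v = v (Sum.inl ()) ^ 2 := by
  simp [bOdd, Matrix.J, fromBlocks_mulVec, neg_mulVec, one_mulVec, dotProduct, Fintype.sum_sum_type,
    mul_comm, CharTwo.neg_eq, CharTwo.add_self_eq_zero, pow_two]

/-- The similitudes of the odd quadratic form are block triangular. -/
theorem go_blocks {g : GL (Unit ⊕ (Fin m ⊕ Fin m)) F}
    (hg : g ∈ Cfsg.Geo.quadSimilarityGroup (Cfsg.quadFormOdd m F)) :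
    ∃ c : Fˣ, (g : OddMat m F).toBlocks₂₁ = 0 ∧
      (g : OddMat m F).toBlocks₁₁ () () ^ 2 = (c : F) ∧
      (g : OddMat m F).toBlocks₂₂ᵀ * Matrix.J (Fin m) F * (g : OddMat m F).toBlocks₂₂ =
        (c : F) • Matrix.J (Fin m) F ∧
      ∀ v, Cfsg.quadFormOdd m F ((g : OddMat m F) *ᵥ v) = (c : F) * Cfsg.quadFormOdd m F v := by
  obtain ⟨c, hc⟩ := hg
  obtain ⟨K, hK⟩ : ∃ K : Matrix (Unit ⊕ (Fin m ⊕ Fin m)) (Unit ⊕ (Fin m ⊕ Fin m)) F,
      K = fromBlocks 0 0 0 (Matrix.J (Fin m) F) := ⟨_, rfl⟩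
  have hpol : ∀ x y, Cfsg.quadFormOdd m F (x + y) =
      Cfsg.quadFormOdd m F x + Cfsg.quadFormOdd m F y + x ⬝ᵥ K *ᵥ y := by
    intro x y
    have hxy : (x ∘ Sum.inr) ⬝ᵥ Matrix.J (Fin m) F *ᵥ (y ∘ Sum.inr) =
        (x ∘ Sum.inr) ⬝ᵥ uMat m F *ᵥ (y ∘ Sum.inr) + (y ∘ Sum.inr) ⬝ᵥ uMat m F *ᵥ (x ∘ Sum.inr) := by
      rw [← uMat_add, add_mulVec, dotProduct_add, mulVec_transpose, dotProduct_comm _ ((y ∘ Sum.inr) ᵥ* _),
        ← dotProduct_mulVec]
    have hKe : x ⬝ᵥ K *ᵥ y = (x ∘ Sum.inr) ⬝ᵥ Matrix.J (Fin m) F *ᵥ (y ∘ Sum.inr) := by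
      rw [hK, fromBlocks_mulVec]
      simp [dotProduct, Fintype.sum_sum_type]
    have hcomp : (x + y) ∘ Sum.inr = x ∘ Sum.inr + y ∘ Sum.inr := rfl
    rw [quadFormOdd_eq, quadFormOdd_eq, quadFormOdd_eq, hKe, hxy, Pi.add_apply, CharTwo.add_sq, hcomp,
      mulVec_add, dotProduct_add, add_dotProduct, add_dotProduct]
    ring
  obtain ⟨gm, hgm⟩ : ∃ gm, gm = (g : Matrix (Unit ⊕ (Fin m ⊕ Fin m)) (Unit ⊕ (Fin m ⊕ Fin m)) F) := ⟨_, rfl⟩
  rw [← hgm] at hc ⊢
  have hKg : gmᵀ * K * gm = (c : F) • K := by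
    refine matrix_eq_of_bil fun x y => ?_
    rw [← bil_comp, smul_mulVec, dotProduct_smul, smul_eq_mul]
    have h1 := hpol (gm *ᵥ x) (gm *ᵥ y)
    rw [← mulVec_add, hc, hc, hc, hpol x y] at h1
    linear_combination -h1
  have hgb : gm = fromBlocks gm.toBlocks₁₁ gm.toBlocks₁₂ gm.toBlocks₂₁ gm.toBlocks₂₂ :=
    (fromBlocks_toBlocks gm).symm
  have hC : gm.toBlocks₂₁ = 0 := by
    have h1 : K * gm = (c : F) • ((((g⁻¹ : GL (Unit ⊕ (Fin m ⊕ Fin m)) F) : OddMat m F))ᵀ * K) := by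
      rw [← Matrix.mul_smul, ← hKg, ← Matrix.mul_assoc, ← Matrix.mul_assoc, ← transpose_mul, hgm,
        ← Units.val_mul, mul_inv_cancel, Units.val_one, transpose_one, Matrix.one_mul]
    obtain ⟨X, hX⟩ : ∃ X, X = (((g⁻¹ : GL (Unit ⊕ (Fin m ⊕ Fin m)) F) : OddMat m F))ᵀ := ⟨_, rfl⟩
    rw [← hX, ← fromBlocks_toBlocks X] at h1
    conv_lhs at h1 => rw [hK, hgb, fromBlocks_multiply]
    conv_rhs at h1 => rw [hK, fromBlocks_multiply, fromBlocks_smul]
    have h2 := congrArg Matrix.toBlocks₂₁ h1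
    simp only [toBlocks_fromBlocks₂₁, Matrix.mul_zero, Matrix.zero_mul, zero_add, add_zero, smul_zero] at h2
    have hJu : IsUnit (Matrix.J (Fin m) F).det := Matrix.isUnit_det_J (Fin m) F
    calc gm.toBlocks₂₁ = (Matrix.J (Fin m) F)⁻¹ * (Matrix.J (Fin m) F * gm.toBlocks₂₁) := by
          rw [← Matrix.mul_assoc, Matrix.nonsing_inv_mul _ hJu, Matrix.one_mul]
      _ = 0 := by rw [h2, Matrix.mul_zero]
  refine ⟨c, hC, ?_, ?_, hc⟩
  · have h1 := hc (Pi.single (Sum.inl ()) 1)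
    rw [quadFormOdd_eq, quadFormOdd_eq, mulVec_single_one] at h1
    have h2 : (gm.col (Sum.inl ())) ∘ Sum.inr = 0 := by
      funext i
      exact congrFun (congrFun hC i) ()
    rw [h2] at h1
    simpa [Matrix.toBlocks₁₁, Function.comp_def] using h1
  · have h1 := congrArg Matrix.toBlocks₂₂ hKg
    conv_lhs at h1 => rw [hgb, hK, fromBlocks_transpose, fromBlocks_multiply, fromBlocks_multiply]
    conv_rhs at h1 => rw [hK, fromBlocks_smul]
    simpa using h1

/-- The block-diagonal part of a similitude of the odd form. -/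
noncomputable def goHom (m : ℕ) (F : Type*) [Field F] [CharP F 2] [Finite F] :
    ↥(Cfsg.Geo.quadSimilarityGroup (Cfsg.quadFormOdd m F)) →* GL (Unit ⊕ (Fin m ⊕ Fin m)) F :=
  MonoidHom.toHomUnits
    { toFun := fun g => fromBlocks (g.1 : OddMat m F).toBlocks₁₁ 0 0 (g.1 : OddMat m F).toBlocks₂₂
      map_one' := by
        rw [OneMemClass.coe_one, Units.val_one, ← fromBlocks_one, toBlocks_fromBlocks₁₁, toBlocks_fromBlocks₂₂]
      map_mul' := fun g h => by
        obtain ⟨-, hg, -⟩ := go_blocks g.2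
        obtain ⟨-, hh, -⟩ := go_blocks h.2
        have e : ((g * h : ↥(Cfsg.Geo.quadSimilarityGroup (Cfsg.quadFormOdd m F))).1 :
            Matrix (Unit ⊕ (Fin m ⊕ Fin m)) (Unit ⊕ (Fin m ⊕ Fin m)) F) =
            fromBlocks (g.1 : OddMat m F).toBlocks₁₁ (g.1 : OddMat m F).toBlocks₁₂
              0 (g.1 : OddMat m F).toBlocks₂₂ *
            fromBlocks (h.1 : OddMat m F).toBlocks₁₁ (h.1 : OddMat m F).toBlocks₁₂
              0 (h.1 : OddMat m F).toBlocks₂₂ := by
          conv_rhs => rw [← hg]; rw [fromBlocks_toBlocks]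
          conv_rhs => rw [hg, ← hh]; rw [fromBlocks_toBlocks]
          rfl
        rw [e, fromBlocks_multiply, fromBlocks_multiply, toBlocks_fromBlocks₁₁, toBlocks_fromBlocks₂₂]
        simp }

theorem goHom_coe (g : ↥(Cfsg.Geo.quadSimilarityGroup (Cfsg.quadFormOdd m F))) :
    (goHom m F g : Matrix (Unit ⊕ (Fin m ⊕ Fin m)) (Unit ⊕ (Fin m ⊕ Fin m)) F) =
      fromBlocks (g.1 : OddMat m F).toBlocks₁₁ 0 0 (g.1 : OddMat m F).toBlocks₂₂ := rfl

/-- The centralizer of the class in odd degree is the projective conformal orthogonal group. -/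
theorem centralizer_bOdd (hn : 2 ≤ n) (e : Unit ⊕ (Fin m ⊕ Fin m) ≃ Fin n) :
    Nonempty (↥(Cfsg.inndiagPSL n F ⊓ Subgroup.centralizer {gx (bOddGL (F := F) e)}) ≃*
      Cfsg.PGO F (Cfsg.quadFormOdd m F)) := by
  refine centralizer_equiv hn (bOddGL (F := F) e) ((glReindex e).toMonoidHom.comp (goHom m F)) _
    (fun q => ?_) (fun k hk => ?_) fun q => ?_
  · obtain ⟨c, hC, ha, hS, -⟩ := go_blocks q.2
    rw [bOddGL_coe]
    refine (glReindex_mem_simGroup e _ _).mpr ⟨c, ?_⟩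
    rw [goHom_coe, bOdd, fromBlocks_transpose, fromBlocks_multiply, fromBlocks_multiply, fromBlocks_smul]
    simp only [transpose_zero, Matrix.mul_zero, Matrix.zero_mul, add_zero, zero_add, Matrix.mul_one,
      smul_zero, hS]
    congr 1
    ext ⟨⟩ ⟨⟩
    rw [Matrix.mul_apply]
    simpa [pow_two] using ha
  · obtain ⟨k, rfl⟩ := (glReindex e).surjective k
    rw [bOddGL_coe, glReindex_mem_simGroup] at hk
    obtain ⟨c, hc⟩ := hk
    obtain ⟨s, hs⟩ := exists_root c
    obtain ⟨km, hkm⟩ : ∃ km, km = (k : Matrix (Unit ⊕ (Fin m ⊕ Fin m)) (Unit ⊕ (Fin m ⊕ Fin m)) F) :=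
      ⟨_, rfl⟩
    rw [← hkm] at hc
    have hrow : ∀ v, (km *ᵥ v) (Sum.inl ()) = (s : F) * v (Sum.inl ()) := by
      intro v
      refine CharTwo.sq_inj.mp ?_
      rw [mul_pow, hs, ← bOdd_quad, ← bOdd_quad, bil_comp, hc, smul_mulVec, dotProduct_smul, smul_eq_mul]
    have h11 : km.toBlocks₁₁ = (s : F) • (1 : Matrix Unit Unit F) := by
      ext ⟨⟩ ⟨⟩
      have := hrow (Pi.single (Sum.inl ()) 1)
      simpa [mulVec_single_one, Matrix.toBlocks₁₁] using this
    have h12 : km.toBlocks₁₂ = 0 := by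
      ext ⟨⟩ j
      have := hrow (Pi.single (Sum.inr j) 1)
      simpa [mulVec_single_one, Matrix.toBlocks₁₂] using this
    rw [← fromBlocks_toBlocks km, h11, h12, bOdd, fromBlocks_transpose, fromBlocks_multiply,
      fromBlocks_multiply, fromBlocks_smul] at hc
    obtain ⟨-, -, h21, h22⟩ := fromBlocks_inj.mp hc
    simp only [transpose_zero, Matrix.mul_zero, Matrix.zero_mul, add_zero, zero_add, smul_zero,
      Matrix.mul_one] at h21 h22
    obtain ⟨S, hSdef⟩ : ∃ S, S = km.toBlocks₂₂ := ⟨_, rfl⟩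
    rw [← hSdef] at h21 h22
    have hSdet : S.det ≠ 0 := by
      intro h0
      have := congrArg Matrix.det h22
      rw [det_mul, h0, mul_zero, det_smul] at this
      exact mul_ne_zero (pow_ne_zero _ c.ne_zero) (Matrix.isUnit_det_J (Fin m) F).ne_zero this.symm
    have hC : km.toBlocks₂₁ = 0 := by
      have hu : IsUnit (Sᵀ * Matrix.J (Fin m) F).det := by
        rw [det_mul, det_transpose]
        exact (isUnit_iff_ne_zero.mpr hSdet).mul (Matrix.isUnit_det_J (Fin m) F)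
      calc km.toBlocks₂₁ = (Sᵀ * Matrix.J (Fin m) F)⁻¹ * ((Sᵀ * Matrix.J (Fin m) F) * km.toBlocks₂₁) := by
            rw [← Matrix.mul_assoc, Matrix.nonsing_inv_mul _ hu, Matrix.one_mul]
        _ = 0 := by rw [h21, Matrix.mul_zero]
    obtain ⟨N, hN⟩ : ∃ N, N = Sᵀ * uMat m F * S + (c : F) • uMat m F := ⟨_, rfl⟩
    have hNt : Nᵀ = N := by
      have hNN : N + Nᵀ = 0 := by
        rw [hN, transpose_add, transpose_smul, transpose_mul, transpose_mul, transpose_transpose,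
          ← Matrix.mul_assoc,
          show Sᵀ * uMat m F * S + (c : F) • uMat m F + (Sᵀ * (uMat m F)ᵀ * S + (c : F) • (uMat m F)ᵀ) =
            Sᵀ * (uMat m F + (uMat m F)ᵀ) * S + (c : F) • (uMat m F + (uMat m F)ᵀ) by
              rw [Matrix.mul_add, Matrix.add_mul, smul_add]; abel,
          uMat_add, h22]
        ext i j
        simp [CharTwo.add_self_eq_zero]
      rw [← matrix_neg Nᵀ]
      exact (eq_neg_of_add_eq_zero_left hNN).symm
    obtain ⟨gm, hgm⟩ : ∃ gm : Matrix (Unit ⊕ (Fin m ⊕ Fin m)) (Unit ⊕ (Fin m ⊕ Fin m)) F,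
        gm = fromBlocks ((s : F) • 1) (Matrix.replicateRow Unit (dvec N)) 0 S := ⟨_, rfl⟩
    have hgdet : gm.det ≠ 0 := by
      rw [hgm, det_fromBlocks_zero₂₁, det_smul, det_one]
      simp [hSdet]
    have hmem : Matrix.GeneralLinearGroup.mkOfDetNeZero gm hgdet ∈
        Cfsg.Geo.quadSimilarityGroup (Cfsg.quadFormOdd m F) := by
      refine ⟨c, fun v => ?_⟩
      show Cfsg.quadFormOdd m F (gm *ᵥ v) = _
      obtain ⟨x, hx⟩ : ∃ x, x = v ∘ Sum.inr := ⟨_, rfl⟩
      have e1 : (gm *ᵥ v) (Sum.inl ()) = (s : F) * v (Sum.inl ()) + dvec N ⬝ᵥ x := by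
        rw [hgm, hx, fromBlocks_mulVec]
        simp [Matrix.mulVec, dotProduct]
      have e2 : (gm *ᵥ v) ∘ Sum.inr = S *ᵥ x := by
        rw [hgm, hx, fromBlocks_mulVec]
        funext i
        simp
      rw [quadFormOdd_eq, quadFormOdd_eq, e1, e2, ← hx, CharTwo.add_sq, mul_pow, hs, ← diag_sq hNt,
        bil_comp, hN, add_mulVec, dotProduct_add, smul_mulVec, dotProduct_smul, smul_eq_mul]
      have h := CharTwo.add_self_eq_zero (x ⬝ᵥ (Sᵀ * uMat m F * S) *ᵥ x)
      linear_combination h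
    refine ⟨⟨_, hmem⟩, 1, ?_⟩
    rw [map_one, one_mul]
    show glReindex e (goHom m F ⟨_, hmem⟩) = glReindex e k
    refine congrArg _ (Units.ext ?_)
    rw [goHom_coe, ← hkm, ← fromBlocks_toBlocks km, h11, h12, hC]
    show fromBlocks gm.toBlocks₁₁ 0 0 gm.toBlocks₂₂ = _
    rw [hgm, toBlocks_fromBlocks₁₁, toBlocks_fromBlocks₂₂, hSdef]
  · rw [Subgroup.mem_subgroupOf, MonoidHom.comp_apply, MulEquiv.coe_toMonoidHom, ← glReindex_scalar_iff,
      mem_scalars, mem_scalars]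
    refine exists_congr fun u => ⟨fun h => Units.ext ?_, fun h => Units.ext ?_⟩
    · rw [goHom_coe, h, scalar_coe]
      conv_rhs => rw [← fromBlocks_toBlocks ((u : F) • (1 : Matrix (Unit ⊕ (Fin m ⊕ Fin m)) _ F))]
      congr 1 <;> (ext i j; simp [Matrix.toBlocks₁₂, Matrix.toBlocks₂₁])
    · obtain ⟨c, hC, ha, hS, hQ⟩ := go_blocks q.2
      have h' := congrArg Units.val h
      rw [goHom_coe, scalar_coe, ← fromBlocks_one, fromBlocks_smul] at h'
      obtain ⟨h1, -, -, h4⟩ := fromBlocks_inj.mp h'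
      rw [h1] at ha
      simp only [Matrix.smul_apply, Matrix.one_apply_eq, smul_eq_mul, mul_one] at ha
      have h2 : (q.1 : OddMat m F).toBlocks₁₂ = 0 := by
        ext ⟨⟩ j
        obtain ⟨x, hx⟩ : ∃ x : Fin m ⊕ Fin m → F, x = Pi.single j 1 := ⟨_, rfl⟩
        have h3 := hQ (Sum.elim 0 x)
        rw [← fromBlocks_toBlocks (q.1 : OddMat m F), h1, hC, h4, quadFormOdd_eq, quadFormOdd_eq,
          fromBlocks_mulVec] at h3
        simp only [Sum.elim_comp_inl, Sum.elim_comp_inr, Sum.elim_inl, Matrix.mulVec_zero, Pi.add_apply,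
          zero_add, Pi.zero_apply, ne_eq, OfNat.ofNat_ne_zero, not_false_eq_true, zero_pow, smul_mulVec,
          one_mulVec, mulVec_smul, dotProduct_smul, smul_dotProduct, smul_eq_mul, ← ha] at h3
        rw [← mul_assoc, ← pow_two, add_eq_right, sq_eq_zero_iff, hx, mulVec_single_one] at h3
        simpa [Matrix.toBlocks₁₂] using h3
      rw [← fromBlocks_toBlocks (q.1 : OddMat m F), h1, h2, hC, h4, scalar_coe]
      ext (i | i) (j | j) <;> simp [Matrix.one_apply]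

end CfsgLib.GraphForms82
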