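import Mathlib
import Cfsg.Agent.Lib.Hall.Solvable
import Cfsg.Agent.Lib.Solvable.MinNormal
import Cfsg.Agent.Lib.PCore.Basic
import Cfsg.Agent.Lib.Spectrum.Solvable

/-!
# The number of Hall subgroups of a solvable group
-/

set_option autoImplicit false

namespace CfsgLib.HallCount82

open Subgroup CfsgLib.Coprime
open Pointwise

/-- The conditions on one factor. -/
def Factor (G : Type*) [Group G] (m x : ℕ) : Prop :=
  (∃ q e : ℕ, q.Prime ∧ x = q ^ e) ∧
    (∃ K L : Subgroup G, K.Normal ∧ L.Normal ∧ K < L ∧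
      (∀ M : Subgroup G, M.Normal → K ≤ M → M ≤ L → M = K ∨ M = L) ∧ x ∣ K.relIndex L) ∧
    ∃ q : ℕ, q.Prime ∧ q ∣ m ∧ x ≡ 1 [MOD q]

theorem factor_of_surjective {G L : Type*} [Group G] [Group L] (f : G →* L)
    (hf : Function.Surjective f) {m m' x : ℕ} (hm : m' ∣ m) (h : Factor L m' x) : Factor G m x := by
  obtain ⟨h1, ⟨K, M, hK, hM, hlt, hch, hx⟩, q, hq, hqm, hxq⟩ := h
  refine ⟨h1, ⟨K.comap f, M.comap f, hK.comap f, hM.comap f, ?_, fun N hN h2 h3 => ?_, ?_⟩,
    q, hq, hqm.trans hm, hxq⟩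
  · exact (Subgroup.comap_lt_comap_of_surjective hf).2 hlt
  · have hker : f.ker ≤ N := (Subgroup.ker_le_comap f K).trans h2
    have hc : (N.map f).comap f = N := Subgroup.comap_map_eq_self hker
    have h2' : K ≤ N.map f := by
      rw [← Subgroup.comap_le_comap_of_surjective hf, hc]; exact h2
    have h3' : N.map f ≤ M := Subgroup.map_le_iff_le_comap.2 h3
    exact (hch _ (hN.map f hf) h2' h3').imp (fun h => by rw [← hc, h]) (fun h => by rw [← hc, h])
  · rwa [relIndex_comap, map_comap_eq_self_of_surjective hf]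

section Action

variable {G : Type*} [Group G] [Finite G]

theorem mem_centralizer_iff_comm {H : Subgroup G} {a : G} :
    a ∈ centralizer (H : Set G) ↔ ∀ x ∈ H, x * a = a * x :=
  mem_centralizer_iff

theorem centralizer_factors (A : Subgroup G) [A.Normal] {p : ℕ} [hp : Fact p.Prime]
    (hA : IsPGroup p A) : ∀ (n : ℕ) (H : Subgroup G), Nat.card H = n → Group.IsSolvable H →
      (Nat.card H).Coprime p →
      ∃ l : List ℕ, (A ⊓ centralizer (H : Set G)).relIndex A = l.prod ∧
        ∀ x ∈ l, x ∣ Nat.card A ∧ ∃ q : ℕ, q.Prime ∧ q ∣ Nat.card H ∧ x ≡ 1 [MOD q] := by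
  intro n
  induction n using Nat.strong_induction_on with
  | _ n ih =>
  intro H hn hsol hco
  by_cases hbot : H = ⊥
  · refine ⟨[], ?_, by simp⟩
    subst hbot
    rw [List.prod_nil, relIndex_eq_one]
    refine le_inf le_rfl fun a _ => mem_centralizer_iff.2 fun x hx => ?_
    rw [SetLike.mem_coe, mem_bot] at hx
    rw [hx, one_mul, mul_one]
  haveI : Nontrivial H := (nontrivial_iff_ne_bot H).2 hbot
  obtain ⟨M, hMn, hMq⟩ := CfsgLib.Spectrum.exists_normal_prime_index H hsol
  obtain ⟨q, hq⟩ : ∃ q, q = M.index := ⟨_, rfl⟩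
  rw [← hq] at hMq
  haveI := Fact.mk hMq
  obtain ⟨H₁, hH₁⟩ : ∃ H₁, H₁ = M.map H.subtype := ⟨_, rfl⟩
  have hcard₁ : Nat.card H₁ = Nat.card M := by
    rw [hH₁]; exact card_map_of_injective H.subtype_injective
  have hMH : Nat.card M * q = Nat.card H := hq ▸ M.card_mul_index
  have hsol₁ : Group.IsSolvable H₁ := by
    haveI : Group.IsSolvable H := hsol
    exact Group.isSolvable_of_isSolvable_injective
      (f := (M.equivMapOfInjective H.subtype H.subtype_injective).symm.toMonoidHom.comp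
        (MulEquiv.subgroupCongr hH₁).toMonoidHom)
      ((M.equivMapOfInjective H.subtype H.subtype_injective).symm.injective.comp
        (MulEquiv.subgroupCongr hH₁).injective)
  have hlt : Nat.card H₁ < n := by
    rw [hcard₁, ← hn, ← hMH]
    exact lt_mul_of_one_lt_right Nat.card_pos hMq.one_lt
  obtain ⟨l, hl, hlx⟩ := ih _ hlt H₁ rfl hsol₁
    (Nat.Coprime.coprime_dvd_left (by rw [hcard₁, ← hMH]; exact dvd_mul_right _ _) hco)
  obtain ⟨B, hB⟩ : ∃ B, B = A ⊓ centralizer (H₁ : Set G) := ⟨_, rfl⟩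
  obtain ⟨C, hC⟩ : ∃ C, C = A ⊓ centralizer (H : Set G) := ⟨_, rfl⟩
  have hCB : C ≤ B := by
    rw [hB, hC]
    exact inf_le_inf le_rfl (centralizer_le (hH₁ ▸ map_subtype_le M))
  have hBA : B ≤ A := hB ▸ inf_le_left
  rw [← hB] at hl
  rw [← hC]
  refine ⟨C.relIndex B :: l, ?_, ?_⟩
  · rw [List.prod_cons, ← hl, relIndex_mul_relIndex C B A hCB hBA]
  have hxdvd : C.relIndex B ∣ Nat.card A :=
    (Dvd.intro _ (relIndex_mul_relIndex C B A hCB hBA)).trans (relIndex_dvd_card C A)
  refine List.forall_mem_cons.2 ⟨⟨hxdvd, q, hMq, Dvd.intro_left _ hMH, ?_⟩, fun x hx => ?_⟩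
  swap
  · obtain ⟨h1, r, hr, hrd, hrx⟩ := hlx x hx
    exact ⟨h1, r, hr, hrd.trans (by rw [hcard₁, ← hMH]; exact dvd_mul_right _ _), hrx⟩
  -- counting the fixed points of an element outside `M`
  obtain ⟨h, hh⟩ : ∃ h : H, h ∉ M := by
    by_contra hc
    push Not at hc
    exact hMq.ne_one (by rw [hq, (eq_top_iff' M).2 hc, index_top])
  have hMtop : M ⊔ zpowers h = ⊤ := by
    rw [← index_eq_one]
    refine ((hMq.eq_one_or_self_of_dvd _ (hq ▸ index_dvd_of_le le_sup_left)).resolve_right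
      fun he => hh ?_)
    rw [eq_of_le_of_card_ge (le_sup_left : M ≤ M ⊔ zpowers h) ?_]
    · exact mem_sup_right (mem_zpowers h)
    · refine le_of_eq (Nat.eq_of_mul_eq_mul_right hMq.pos ?_)
      rw [hMH]
      conv_lhs => rw [← he]
      rw [card_mul_index]
  have hnormH₁ : ∀ (k : H) (x : G), x ∈ H₁ → (k : G) * x * (k : G)⁻¹ ∈ H₁ := by
    intro k x hx
    rw [hH₁] at hx ⊢
    obtain ⟨y, hy, rfl⟩ := hx
    exact ⟨k * y * k⁻¹, hMn.conj_mem y hy k, rfl⟩
  have hinv : ∀ (k : H), ∀ b ∈ B, (k : G) * b * (k : G)⁻¹ ∈ B := by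
    intro k b hb
    rw [hB] at hb ⊢
    refine ⟨(inferInstance : A.Normal).conj_mem b hb.1 _, mem_centralizer_iff.2 fun x hx => ?_⟩
    have h1 := mem_centralizer_iff.1 hb.2 _ (hnormH₁ k⁻¹ x hx)
    simp only [coe_inv, inv_inv] at h1
    calc x * ((k : G) * b * (k : G)⁻¹) = k * ((k : G)⁻¹ * x * k * b) * (k : G)⁻¹ := by group
      _ = k * (b * ((k : G)⁻¹ * x * k)) * (k : G)⁻¹ := by rw [h1]
      _ = _ := by group
  let σ : Equiv.Perm B :=
    { toFun := fun b => ⟨(h : G) * b * (h : G)⁻¹, hinv h b b.2⟩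
      invFun := fun b => ⟨((h⁻¹ : H) : G) * b * ((h⁻¹ : H) : G)⁻¹, hinv h⁻¹ b b.2⟩
      left_inv := fun b => Subtype.ext (by simp [mul_assoc])
      right_inv := fun b => Subtype.ext (by simp [mul_assoc]) }
  have hσpow : ∀ (i : ℕ) (b : B), (((σ ^ i) b : B) : G) = (h : G) ^ i * b * ((h : G) ^ i)⁻¹ := by
    intro i
    induction i with
    | zero => simp
    | succ i ihi =>
      intro b
      rw [pow_succ' σ, Equiv.Perm.mul_apply]
      show (h : G) * ((σ ^ i) b : B) * (h : G)⁻¹ = _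
      rw [ihi, pow_succ' (h : G)]
      group
  have hσq : σ ^ q = 1 := by
    refine Equiv.ext fun b => Subtype.ext ?_
    rw [hσpow]
    show (h : G) ^ q * b * ((h : G) ^ q)⁻¹ = b
    have h1 : (h : G) ^ q ∈ H₁ := by
      rw [hH₁, hq]
      exact ⟨h ^ M.index, M.pow_index_mem h, by simp⟩
    rw [mem_centralizer_iff.1 (hB ▸ b.2 : (b : G) ∈ A ⊓ centralizer (H₁ : Set G)).2 _ h1,
      mul_inv_cancel_right]
  have hP : IsPGroup q (zpowers σ) := by
    rintro ⟨_, i, rfl⟩
    refine ⟨1, Subtype.ext ?_⟩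
    show (σ ^ i) ^ q ^ 1 = 1
    rw [pow_one, ← zpow_natCast, ← zpow_mul, mul_comm, zpow_mul, zpow_natCast, hσq, one_zpow]
  have hfix : MulAction.fixedPoints (zpowers σ) B = {b : B | (b : G) ∈ C} := by
    ext b
    simp only [MulAction.mem_fixedPoints, Set.mem_ofPred_eq]
    constructor
    · intro hb
      have hb' : (b : G) ∈ A ⊓ centralizer (H₁ : Set G) := hB ▸ b.2
      rw [hC]
      refine ⟨hb'.1, mem_centralizer_iff.2 ?_⟩
      have hbh : (h : G) * b * (h : G)⁻¹ = b := congrArg Subtype.val (hb ⟨σ, mem_zpowers σ⟩)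
      have hle : (⊤ : Subgroup H) ≤ (centralizer ({(b : G)} : Set G)).comap H.subtype := by
        rw [← hMtop, sup_le_iff, zpowers_le]
        refine ⟨fun y hy => ?_, ?_⟩
        · rw [mem_comap, mem_centralizer_singleton_iff]
          exact mem_centralizer_iff.1 hb'.2 _ (hH₁ ▸ mem_map_of_mem _ hy)
        · rw [mem_comap, mem_centralizer_singleton_iff]
          exact mul_inv_eq_iff_eq_mul.1 hbh
      intro x hx
      exact (mem_centralizer_singleton_iff.1 (hle (mem_top ⟨x, hx⟩)))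
    · intro hb
      rw [hC] at hb
      rintro ⟨_, i, rfl⟩
      have h1 : σ b = b := by
        refine Subtype.ext ?_
        show (h : G) * b * (h : G)⁻¹ = b
        rw [mem_centralizer_iff.1 hb.2 _ h.2, mul_inv_cancel_right]
      exact Equiv.Perm.zpow_apply_eq_self_of_apply_eq_self h1 i
  have hmod := hP.card_modEq_card_fixedPoints B
  rw [hfix] at hmod
  have hfixcard : Nat.card {b : B | (b : G) ∈ C} = Nat.card C := Nat.card_congr
    { toFun := fun b => ⟨b.1.1, b.2⟩
      invFun := fun c => ⟨⟨c.1, hCB c.2⟩, c.2⟩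
      left_inv := fun _ => rfl
      right_inv := fun _ => rfl }
  rw [hfixcard, ← relIndex_bot_left (H := B),
    ← relIndex_mul_relIndex ⊥ C B bot_le hCB, relIndex_bot_left] at hmod
  have hcq : Nat.gcd q (Nat.card C) = 1 := by
    obtain ⟨k, hk⟩ := IsPGroup.iff_card.1 (hA.to_le (hCB.trans hBA))
    rw [hk]
    refine Nat.Coprime.pow_right k ((Nat.coprime_primes hMq hp.out).2 fun he => ?_)
    exact hp.out.ne_one (Nat.eq_one_of_dvd_coprimes hco (he ▸ Dvd.intro_left _ hMH) dvd_rfl)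
  have hmod' : Nat.card C * C.relIndex B ≡ Nat.card C * 1 [MOD q] := by
    rwa [mul_one]
  exact Nat.ModEq.cancel_left_of_coprime hcq hmod'

theorem card_conjugates (m : ℕ) (H₀ : Subgroup G) (h0 : Nat.card H₀ = m)
    (hconj : ∀ K : Subgroup G, Nat.card K = m → ∃ g : G, MulAut.conj g • H₀ = K) :
    Nat.card {H : Subgroup G // Nat.card H = m} = (normalizer (H₀ : Set G)).index := by
  have hnorm : ∀ g : G, MulAut.conj g • H₀ = H₀ ↔ g ∈ normalizer (H₀ : Set G) := by
    intro g
    constructor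
    · intro h
      rw [mem_normalizer_iff]
      intro x
      conv_rhs => rw [← h, mem_conj_smul]
      simp [mul_assoc]
    · intro h
      ext x
      rw [mem_conj_smul]
      have h1 := (mem_normalizer_iff.1 h (g⁻¹ * x * g))
      simp only [mul_assoc, mul_inv_cancel, mul_one, mul_inv_cancel_left] at h1
      simpa [mul_assoc] using h1
  rw [index_eq_card]
  refine (Nat.card_congr (Equiv.ofBijective (fun q : G ⧸ normalizer (H₀ : Set G) =>
    (Quotient.liftOn' q (fun g => (⟨MulAut.conj g • H₀, by rw [card_conj_smul, h0]⟩ :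
      {H : Subgroup G // Nat.card H = m})) ?_)) ⟨?_, ?_⟩)).symm
  · intro a b hab
    rw [QuotientGroup.leftRel_apply, ← hnorm, map_mul, mul_smul, map_inv, inv_smul_eq_iff] at hab
    exact Subtype.ext hab.symm
  · intro x y
    induction x using QuotientGroup.induction_on with | H a =>
    induction y using QuotientGroup.induction_on with | H b =>
    intro he
    rw [QuotientGroup.eq, ← hnorm, map_mul, mul_smul, map_inv, inv_smul_eq_iff]
    exact (congrArg Subtype.val he).symm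
  · rintro ⟨K, hK⟩
    obtain ⟨g, hg⟩ := hconj K hK
    exact ⟨QuotientGroup.mk g, Subtype.ext hg⟩

end Action

universe u

theorem count_factors : ∀ (N : ℕ) {G : Type u} [Group G] [Finite G] [Group.IsSolvable G],
    Nat.card G ≤ N → ∀ m n : ℕ, Nat.card G = m * n → m.Coprime n →
      ∃ l : List ℕ, Nat.card {H : Subgroup G // Nat.card H = m} = l.prod ∧
        ∀ x ∈ l, Factor G m x := by
  intro N
  induction N with
  | zero =>
    intro G _ _ _ hc
    exact absurd hc (by have := Nat.card_pos (α := G); omega)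
  | succ N ih =>
  intro G _ _ _ hc m n hG hmn
  obtain ⟨H₀, hH₀⟩ := CfsgLib.Hall.exists_subgroup_card hG hmn
  have hconj : ∀ K : Subgroup G, Nat.card K = m → ∃ g : G, MulAut.conj g • H₀ = K :=
    fun K hK => CfsgLib.Hall.conj_of_card hG hmn hH₀ hK
  by_cases hnt : Nontrivial G
  swap
  · haveI : Subsingleton G := not_nontrivial_iff_subsingleton.1 hnt
    refine ⟨[], ?_, by simp⟩
    rw [card_conjugates m H₀ hH₀ hconj, List.prod_nil, index_eq_one]
    exact Subsingleton.elim _ _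
  obtain ⟨A, hA⟩ := CfsgLib.MinNormal.exists_isMinNormal (G := G)
  haveI : A.Normal := hA.1
  obtain ⟨p, hp, -, hAp, a, ha0, ha⟩ := hA.elementaryAbelian_of_solvable
  haveI := Fact.mk hp
  obtain ⟨f, hf⟩ : ∃ f : G →* G ⧸ A, f = QuotientGroup.mk' A := ⟨_, rfl⟩
  have hfs : Function.Surjective f := hf ▸ QuotientGroup.mk'_surjective A
  have hker : f.ker = A := hf ▸ QuotientGroup.ker_mk' A
  have hqcard : Nat.card (G ⧸ A) * p ^ a = m * n := by
    rw [← hG, ← ha, ← A.index_mul_card]; rfl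
  have hlt : Nat.card (G ⧸ A) ≤ N := by
    have h1 : 2 ≤ p ^ a := le_trans hp.two_le (Nat.le_self_pow (by omega) p)
    have h4 : 0 < Nat.card (G ⧸ A) := Nat.card_pos
    nlinarith
  rcases hp.dvd_mul.1 ((dvd_pow_self p (by omega : a ≠ 0)).trans (Dvd.intro_left _ hqcard)) with hpm | hpn
  · have hco : (p ^ a).Coprime n := Nat.Coprime.pow_left _ (hmn.coprime_dvd_left hpm)
    obtain ⟨m', rfl⟩ : p ^ a ∣ m := hco.dvd_of_dvd_mul_right (Dvd.intro_left _ hqcard)
    have hpos : 0 < p ^ a := pow_pos hp.pos a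
    have hcard : Nat.card (G ⧸ A) = m' * n := by
      refine Nat.eq_of_mul_eq_mul_right hpos ?_
      rw [hqcard]; ring
    obtain ⟨l, hl, hlx⟩ := ih hlt m' n hcard (hmn.coprime_dvd_left (Dvd.intro_left _ rfl))
    refine ⟨l, hl ▸ ?_, fun x hx => factor_of_surjective f hfs (Dvd.intro_left _ rfl) (hlx x hx)⟩
    have hsurj : ∀ H : Subgroup G, Nat.card H = p ^ a * m' → A ≤ H := by
      intro H hH
      have h1 : Nat.card ↥(A ⊔ H) ∣ p ^ a * m' := by
        have h2 : Nat.card ↥(A ⊔ H) ∣ p ^ a * m' * n := hG ▸ card_subgroup_dvd_card _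
        refine Nat.Coprime.dvd_of_dvd_mul_right ?_ h2
        refine Nat.Coprime.coprime_dvd_left (CfsgLib.PCore.card_sup_dvd_mul A H) ?_
        rw [ha, hH]
        exact Nat.Coprime.mul_left hco hmn
      have h3 : H = A ⊔ H := eq_of_le_of_card_ge le_sup_right (by
        rw [hH]; exact Nat.le_of_dvd (hH ▸ Nat.card_pos) h1)
      exact h3 ▸ le_sup_left
    have hcc : ∀ K : Subgroup (G ⧸ A), Nat.card K = m' → Nat.card (K.comap f) = p ^ a * m' :=
      fun K hK => by rw [CfsgLib.Hall.card_comap_of_surjective f hfs, hK, hker, ha, mul_comm]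
    refine (Nat.card_congr (Equiv.ofBijective
      (fun K : {K : Subgroup (G ⧸ A) // Nat.card K = m'} =>
        (⟨K.1.comap f, hcc K.1 K.2⟩ : {H : Subgroup G // Nat.card H = p ^ a * m'}))
      ⟨fun K L h => Subtype.ext (comap_injective hfs (congrArg Subtype.val h)), ?_⟩)).symm
    rintro ⟨H, hH⟩
    have hc : (H.map f).comap f = H := comap_map_eq_self (hker.le.trans (hsurj H hH))
    refine ⟨⟨H.map f, ?_⟩, Subtype.ext hc⟩
    have h1 := CfsgLib.Hall.card_comap_of_surjective f hfs (H.map f)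
    rw [hc, hH, hker, ha, mul_comm (Nat.card (H.map f))] at h1
    exact (Nat.eq_of_mul_eq_mul_left hpos h1).symm
  · have hco : m.Coprime (p ^ a) := Nat.Coprime.pow_right _ (hmn.coprime_dvd_right hpn)
    obtain ⟨n', rfl⟩ : p ^ a ∣ n := hco.symm.dvd_of_dvd_mul_left (Dvd.intro_left _ hqcard)
    have hpos : 0 < p ^ a := pow_pos hp.pos a
    have hcard : Nat.card (G ⧸ A) = m * n' := by
      refine Nat.eq_of_mul_eq_mul_right hpos ?_
      rw [hqcard]; ring
    have hmn' : m.Coprime n' := hmn.coprime_dvd_right (Dvd.intro_left _ rfl)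
    have hdisj : A ⊓ H₀ = ⊥ := inf_eq_bot_of_coprime_dvd (by rw [ha]) (by rw [hH₀]) hco.symm
    have hbar : Nat.card (H₀.map f) = m := by rw [card_map_of_disjoint f (by rwa [hker]), hH₀]
    obtain ⟨l, hl, hlx⟩ := ih hlt m n' hcard hmn'
    obtain ⟨l', hl', hlx'⟩ := centralizer_factors A hAp (Nat.card H₀) H₀ rfl inferInstance
      (by rw [hH₀]; exact (Nat.coprime_pow_right_iff ha0 _ _).1 hco)
    refine ⟨l' ++ l, ?_, ?_⟩
    swap
    · intro x hx
      rcases List.mem_append.1 hx with h | h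
      · obtain ⟨hxA, q, hq, hqH, hxq⟩ := hlx' x h
        refine ⟨?_, ⟨⊥, A, inferInstance, inferInstance, bot_lt_iff_ne_bot.2 hA.2.1,
          fun M hM _ hMA => hA.2.2 M hM hMA, by rwa [relIndex_bot_left]⟩, q, hq, hH₀ ▸ hqH, hxq⟩
        obtain ⟨e, -, he⟩ := (Nat.dvd_prime_pow hp).1 (ha ▸ hxA)
        exact ⟨p, e, hp, he⟩
      · exact factor_of_surjective f hfs dvd_rfl (hlx x h)
    rw [List.prod_append, ← hl, card_conjugates m H₀ hH₀ hconj,
      card_conjugates m (H₀.map f) hbar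
        (fun K hK => CfsgLib.Hall.conj_of_card hcard hmn' hbar hK)]
    obtain ⟨Nz, hNz⟩ : ∃ Nz, Nz = normalizer (H₀ : Set G) := ⟨_, rfl⟩
    have hHN : H₀ ≤ Nz := hNz ▸ le_normalizer
    have hmap : Nz.map f = normalizer (H₀.map f : Set (G ⧸ A)) := by
      refine le_antisymm ?_ fun y hy => ?_
      · rw [hNz]; exact le_normalizer_map f
      obtain ⟨g, rfl⟩ := hfs y
      obtain ⟨M, hM⟩ : ∃ M, M = H₀ ⊔ A := ⟨_, rfl⟩
      have hnA : H₀ ≤ normalizer (A : Set G) := normalizer_eq_top A ▸ le_top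
      have hMcard : Nat.card M = m * p ^ a := by
        rw [hM, card_sup_of_disjoint hnA hdisj, hH₀, ha]
      have hH₀M : H₀ ≤ M := hM ▸ le_sup_left
      have hKM : MulAut.conj g • H₀ ≤ M := by
        refine conj_smul_le.2 fun x hx => ?_
        have h1 : f (g * x * g⁻¹) ∈ H₀.map f := by
          rw [map_mul, map_mul, map_inv]
          exact (mem_normalizer_iff.1 hy _).1 (mem_map_of_mem f hx)
        obtain ⟨x', hx', he⟩ := h1
        have h2 : x'⁻¹ * (g * x * g⁻¹) ∈ A := by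
          rw [← hker, MonoidHom.mem_ker, map_mul, map_inv, he, inv_mul_cancel]
        rw [hM, show g * x * g⁻¹ = x' * (x'⁻¹ * (g * x * g⁻¹)) by group]
        exact mul_mem_sup hx' h2
      obtain ⟨c, hc'⟩ := CfsgLib.Hall.conj_of_card (G := M) hMcard hco
        (H := (MulAut.conj g • H₀).subgroupOf M) (K := H₀.subgroupOf M)
        (by rw [card_subgroupOf hKM, card_conj_smul, hH₀]) (by rw [card_subgroupOf hH₀M, hH₀])
      have hcg : (c : G) * g ∈ Nz := by
        rw [hNz, mem_normalizer_iff]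
        have key : MulAut.conj ((c : G) * g) • H₀ = H₀ := by
          refine conj_smul_eq_of_le (conj_smul_le.2 fun x hx => ?_) le_rfl
          have hx1 : g * x * g⁻¹ ∈ MulAut.conj g • H₀ := conj_smul_le.1 le_rfl x hx
          have h3 := conj_smul_le.1 hc'.le ⟨g * x * g⁻¹, hKM hx1⟩ (mem_subgroupOf.2 hx1)
          have h4 := mem_subgroupOf.1 h3
          simpa [mul_assoc] using h4
        intro x
        conv_rhs => rw [← key, mem_conj_smul]
        simp [mul_assoc]
      have hcN : f c ∈ Nz.map f := by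
        have hcM : f c ∈ M.map f := mem_map_of_mem f c.2
        have hmapM : M.map f = H₀.map f := by
          rw [hM, Subgroup.map_sup, show A.map f = ⊥ by rw [Subgroup.map_eq_bot_iff, hker], sup_bot_eq]
        exact map_mono hHN (hmapM ▸ hcM)
      have h5 := mul_mem (inv_mem hcN) (mem_map_of_mem f hcg)
      rwa [map_mul, inv_mul_cancel_left] at h5
    rw [← hmap, index_map, MonoidHom.range_eq_top.2 hfs, index_top, mul_one, hker, ← hNz]
    have hAN : A ⊓ centralizer (H₀ : Set G) = A ⊓ Nz := by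
      rw [hNz]
      refine le_antisymm (inf_le_inf_left _ (centralizer_le_normalizer _)) ?_
      rintro b ⟨hbA, hbN⟩
      refine ⟨hbA, mem_centralizer_iff.2 fun x hx => ?_⟩
      have h1 : b * x * b⁻¹ * x⁻¹ ∈ A ⊓ H₀ := by
        refine ⟨?_, H₀.mul_mem ((mem_normalizer_iff.1 hbN x).1 hx) (H₀.inv_mem hx)⟩
        rw [show b * x * b⁻¹ * x⁻¹ = b * (x * b⁻¹ * x⁻¹) by group]
        exact A.mul_mem hbA ((inferInstance : A.Normal).conj_mem _ (A.inv_mem hbA) x)
      rw [hdisj, mem_bot, mul_inv_eq_one] at h1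
      exact (mul_inv_eq_iff_eq_mul.1 h1).symm
    rw [← hl', hAN, inf_relIndex_left]
    have e1 := relIndex_mul_relIndex (A ⊓ Nz) Nz (Nz ⊔ A) inf_le_right le_sup_left
    have e2 := relIndex_mul_relIndex (A ⊓ Nz) A (Nz ⊔ A) inf_le_left le_sup_right
    rw [relIndex_sup_right, inf_relIndex_left, mul_comm] at e2
    rw [inf_relIndex_right] at e1
    have e3 : Nz.relIndex (Nz ⊔ A) = Nz.relIndex A :=
      Nat.eq_of_mul_eq_mul_left (Nat.pos_of_ne_zero (by unfold relIndex; exact index_ne_zero_of_finite)) (e1.trans e2.symm)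
    rw [← e3, relIndex_mul_index le_sup_left]

end CfsgLib.HallCount82
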