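import Mathlib

/-!
# Transfer as a product over fixed cosets

If the long cycles of `u` on the cosets contribute nothing, the transfer of `u` is the product of the
contributions of the cosets fixed by `u`.
-/

namespace CfsgLib.TransferFix82

open Subgroup MulAction

variable {G : Type*} [Group G] {H : Subgroup G} {A : Type*} [CommGroup A]

theorem conj_mem_of_smul_eq {u g : G} (h : u • (g : G ⧸ H) = g) : g⁻¹ * u * g ∈ H := by
  rw [mul_assoc]
  exact QuotientGroup.eq.1 h.symm

theorem smul_eq_of_conj_mem {u g : G} (h : g⁻¹ * u * g ∈ H) : u • (g : G ⧸ H) = g := by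
  rw [mul_assoc] at h
  exact (QuotientGroup.eq.2 h).symm

open Classical in
/-- The contribution of a coset fixed by `u` to the transfer of `u`. -/
noncomputable def fixVal (φ : H →* A) (u : G) (q : G ⧸ H) : A :=
  if h : q.out⁻¹ * u * q.out ∈ H then φ ⟨_, h⟩ else 1

theorem fixVal_mk (φ : H →* A) (u g : G) (h : g⁻¹ * u * g ∈ H) :
    fixVal φ u (g : G ⧸ H) = φ ⟨_, h⟩ := by
  obtain ⟨k, hk⟩ := QuotientGroup.mk_out_eq_mul H g
  have hm : ((g : G ⧸ H).out)⁻¹ * u * (g : G ⧸ H).out ∈ H :=
    conj_mem_of_smul_eq (by rw [QuotientGroup.out_eq']; exact smul_eq_of_conj_mem h)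
  rw [fixVal, dif_pos hm]
  have e : (⟨_, hm⟩ : H) = k⁻¹ * ⟨_, h⟩ * k := Subtype.ext (by
    simp only [hk, Subgroup.coe_mul, Subgroup.coe_inv, mul_inv_rev, mul_assoc])
  rw [e, map_mul, map_mul, map_inv, mul_comm, mul_inv_cancel_left]

theorem fixVal_of_not_fixed (φ : H →* A) {u : G} {q : G ⧸ H} (h : u • q ≠ q) :
    fixVal φ u q = 1 := by
  rw [fixVal, dif_neg]
  intro hm
  have h1 := smul_eq_of_conj_mem hm
  rw [QuotientGroup.out_eq'] at h1
  exact h h1

theorem fixVal_smul (φ : H →* A) (z u : G) (q : G ⧸ H) :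
    fixVal φ u (z • q) = fixVal φ (z⁻¹ * u * z) q := by
  induction q using QuotientGroup.induction_on with
  | H g =>
    change fixVal φ u ((z * g : G) : G ⧸ H) = _
    by_cases h : (z * g)⁻¹ * u * (z * g) ∈ H
    · have h' : g⁻¹ * (z⁻¹ * u * z) * g ∈ H := by simpa [mul_assoc] using h
      rw [fixVal_mk φ u _ h, fixVal_mk φ _ g h']
      exact congrArg φ (Subtype.ext (by simp [mul_assoc]))
    · rw [fixVal_of_not_fixed φ (fun e => h (conj_mem_of_smul_eq e)),
        fixVal_of_not_fixed φ (fun e => h (by simpa [mul_assoc] using conj_mem_of_smul_eq e))]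

/-- The transfer of `u` when every cycle of length greater than one contributes trivially. -/
theorem transfer_eq_prod_fixVal [Finite G] [Fintype (G ⧸ H)] (φ : H →* A) (u : G)
    (hlong : ∀ (r : ℕ) (g : G) (h : g⁻¹ * u ^ r * g ∈ H), 1 < r → r ∣ orderOf u →
      φ ⟨_, h⟩ = 1) :
    MonoidHom.transfer φ u = ∏ q : G ⧸ H, fixVal φ u q := by
  classical
  haveI := Fintype.ofFinite (Quotient (orbitRel (zpowers u) (G ⧸ H)))
  rw [MonoidHom.transfer_eq_prod_quotient_orbitRel_zpowers_quot,
    ← Finset.prod_fiberwise (Finset.univ : Finset (G ⧸ H))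
      (fun x : G ⧸ H => (Quotient.mk'' x : Quotient (orbitRel (zpowers u) (G ⧸ H))))
      (fun q => fixVal φ u q)]
  refine Finset.prod_congr rfl fun o _ => ?_
  by_cases hfix : u • o.out = o.out
  · have hper : Function.minimalPeriod (u • ·) o.out = 1 := by
      rw [Function.minimalPeriod_eq_one_iff_isFixedPt]
      exact hfix
    have hfib : ∀ x : G ⧸ H, (Quotient.mk'' x : Quotient (orbitRel (zpowers u) (G ⧸ H))) = o ↔
        x = o.out := by
      intro x
      constructor
      · intro hx
        have h1 : (Quotient.mk'' x : Quotient (orbitRel (zpowers u) (G ⧸ H))) = Quotient.mk'' o.out :=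
          hx.trans (Quotient.out_eq' o).symm
        obtain ⟨⟨z, hz⟩, hzx⟩ := Quotient.exact' h1
        obtain ⟨k, rfl⟩ := hz
        rw [← hzx]
        change u ^ k • o.out = o.out
        exact MulAction.mem_stabilizer_iff.1
          (zpow_mem (show u ∈ MulAction.stabilizer G o.out from hfix) k)
      · rintro rfl
        exact Quotient.out_eq' o
    rw [Finset.prod_eq_single o.out]
    · have hm : o.out.out⁻¹ * u * o.out.out ∈ H :=
        conj_mem_of_smul_eq (by rw [QuotientGroup.out_eq']; exact hfix)
      rw [fixVal, dif_pos hm]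
      exact congrArg φ (Subtype.ext (by simp only [hper, pow_one]))
    · intro x hx hne
      exact absurd ((hfib x).1 (Finset.mem_filter.1 hx).2) hne
    · intro h
      exact (h (Finset.mem_filter.2 ⟨Finset.mem_univ _, (hfib o.out).2 rfl⟩)).elim
  · have hpos : 0 < Function.minimalPeriod (u • ·) o.out := by
      have h1 : Function.IsPeriodicPt (u • ·) (orderOf u) o.out := by
        change (u • ·)^[orderOf u] o.out = o.out
        rw [smul_iterate, pow_orderOf_eq_one]
        exact one_smul G o.out
      exact h1.minimalPeriod_pos (orderOf_pos u)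
    have hne : Function.minimalPeriod (u • ·) o.out ≠ 1 := by
      rw [Ne, Function.minimalPeriod_eq_one_iff_isFixedPt]
      exact hfix
    rw [hlong _ _ _ (by omega) ?_, Finset.prod_eq_one]
    · intro x hx
      refine fixVal_of_not_fixed φ fun hx' => hfix ?_
      have h1 : (Quotient.mk'' o.out : Quotient (orbitRel (zpowers u) (G ⧸ H))) = Quotient.mk'' x :=
        (Quotient.out_eq' o).trans (Finset.mem_filter.1 hx).2.symm
      obtain ⟨⟨z, hz⟩, hzx⟩ := Quotient.exact' h1
      obtain ⟨k, rfl⟩ := hz
      have h2 : u ^ k • x = x :=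
        MulAction.mem_stabilizer_iff.1 (zpow_mem (show u ∈ MulAction.stabilizer G x from hx') k)
      rw [show o.out = x from hzx.symm.trans h2]
      exact hx'
    · refine Function.IsPeriodicPt.minimalPeriod_dvd ?_
      change (u • ·)^[orderOf u] o.out = o.out
      rw [smul_iterate, pow_orderOf_eq_one]
      exact one_smul G o.out

theorem transfer_mul (φ ψ : H →* A) [H.FiniteIndex] (g : G) :
    MonoidHom.transfer (φ * ψ) g = MonoidHom.transfer φ g * MonoidHom.transfer ψ g :=
  Finset.prod_mul_distrib

end CfsgLib.TransferFix82
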