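import Mathlib
import Cfsg.Prelude.Def_Transfer
import Cfsg.Agent.Lib.Transfer.Basic
import Cfsg.Agent.Lib.Transfer.Tate
import Cfsg.Agent.Lib.PGroup.Frattini
import Cfsg.Agent.Lib.H82.TransferFix

/-!
# The Hall–Wielandt theorem

If `Q` is weakly closed in the Sylow subgroup `P` and `[u, z, …, z] = 1` (`p - 1` entries `z`) for
`u ∈ P`, `z ∈ Q`, then the normalizer of `Q` controls `p`-transfer.
-/

namespace CfsgLib.HallWielandt82

open Subgroup CfsgLib.TransferFix82

/-- In an abelian group of exponent `p`, the product of `p` consecutive values of a sequence is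
its `(p - 1)`-st iterated difference. -/
theorem prod_range_eq_iterate {A : Type*} [CommGroup A] {p : ℕ} [hp : Fact p.Prime]
    (hA : ∀ a : A, a ^ p = 1) (a : ℕ → ℕ → A)
    (ha : ∀ m i, a (m + 1) i = a m (i + 1) / a m i) :
    ∏ i ∈ Finset.range p, a 0 i = a (p - 1) 0 := by
  let f : ℕ → Additive A := fun i => Additive.ofMul (a 0 i)
  have h1 : ∀ m i, Additive.ofMul (a m i) = (fwdDiff (1 : ℕ))^[m] f i := by
    intro m
    induction m with
    | zero => intro i; rfl
    | succ m ih =>
      intro i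
      rw [Function.iterate_succ_apply', fwdDiff, ha, ofMul_div, ih, ih]
  have hsum : Additive.ofMul (a (p - 1) 0) = ∑ i ∈ Finset.range p, f i := by
    rw [h1, fwdDiff_iter_eq_sum_shift, Nat.sub_add_cancel hp.out.one_le]
    refine Finset.sum_congr rfl fun k hk => ?_
    rw [zero_add, smul_eq_mul, mul_one]
    have hc : ∀ j, j ≤ p - 1 → (((p - 1).choose j : ℕ) : ZMod p) = (-1) ^ j := by
      intro j
      induction j with
      | zero => simp
      | succ j ih =>
        intro hj
        have h2 : p.choose (j + 1) = (p - 1).choose j + (p - 1).choose (j + 1) := by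
          conv_lhs => rw [show p = (p - 1) + 1 by omega]
          exact Nat.choose_succ_succ' _ _
        have h3 : ((p.choose (j + 1) : ℕ) : ZMod p) = 0 :=
          (ZMod.natCast_eq_zero_iff _ _).2 (hp.out.dvd_choose_self (by omega) (by omega))
        rw [h2, Nat.cast_add, ih (by omega)] at h3
        rw [pow_succ, mul_neg_one]
        linear_combination h3
    have hkp : k ≤ p - 1 := by have := Finset.mem_range.1 hk; omega
    have hneg : ((-1 : ℤ) ^ (p - 1 - k) * ((p - 1).choose k : ℤ) : ZMod p) = 1 := by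
      push_cast
      rw [hc k hkp, ← pow_add, Nat.sub_add_cancel hkp]
      exact ZMod.pow_card_sub_one_eq_one (neg_ne_zero.2 one_ne_zero)
    obtain ⟨c, hc'⟩ : (p : ℤ) ∣ ((-1 : ℤ) ^ (p - 1 - k) * ((p - 1).choose k : ℤ)) - 1 :=
      (ZMod.intCast_zmod_eq_zero_iff_dvd _ p).1 (by push_cast at hneg ⊢; rw [hneg, sub_self])
    rw [eq_add_of_sub_eq hc', add_zsmul, one_zsmul, mul_comm, mul_zsmul, natCast_zsmul]
    rw [show p • f k = 0 from congrArg Additive.ofMul (hA _)]
    simp
  apply Additive.ofMul.injective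
  rw [hsum, ofMul_prod]

variable {G : Type*} [Group G] [Finite G] {p : ℕ} [hp : Fact p.Prime]

/-- The key fact: transfer from `N_G(Q)` to a group of exponent `p` loses nothing. -/
theorem transfer_restrict_ne_one (P : Sylow p G) (Q : Subgroup G)
    (hQ : Cfsg.IsWeaklyClosed Q (P : Subgroup G))
    (hEngel : ∀ u ∈ (P : Subgroup G), ∀ z ∈ Q,
      (fun y : G => y⁻¹ * z⁻¹ * y * z)^[p - 1] u = 1)
    {A : Type*} [CommGroup A] (hA : ∀ a : A, a ^ p = 1)
    (φ : Subgroup.normalizer (Q : Set G) →* A)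
    (h : (MonoidHom.transfer φ).comp (Subgroup.normalizer (Q : Set G)).subtype = 1) : φ = 1 := by
  classical
  obtain ⟨H, hH⟩ : ∃ H : Subgroup G, H = Subgroup.normalizer (Q : Set G) := ⟨_, rfl⟩
  revert φ
  rw [← hH]
  intro φ h
  have hPH : (P : Subgroup G) ≤ H :=
    (CfsgLib.Transfer.IsWeaklyClosed.normal hQ).trans (le_of_eq hH.symm)
  have hQP : Q ≤ (P : Subgroup G) := hQ.1
  have hApg : IsPGroup p A := fun a => ⟨1, by rw [pow_one]; exact hA a⟩
  -- it suffices to treat elements of `P`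
  suffices hP1 : ∀ u, ∀ hu : u ∈ (P : Subgroup G), φ ⟨u, hPH hu⟩ = 1 by
    rw [← MonoidHom.ker_eq_top_iff, eq_top_iff,
      ← CfsgLib.Transfer.sylow_sup_pResidual (P.subtype hPH)]
    exact sup_le (fun x hx => hP1 _ hx) (CfsgLib.Transfer.pResidual_le_ker hApg φ)
  by_contra hcon
  have hex : ∃ m, ∃ u, ∃ hu : u ∈ (P : Subgroup G), φ ⟨u, hPH hu⟩ ≠ 1 ∧ orderOf u = m := by
    push Not at hcon
    obtain ⟨u, hu, hu'⟩ := hcon
    exact ⟨_, u, hu, hu', rfl⟩
  obtain ⟨u, huP, huφ, hum⟩ := Nat.find_spec hex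
  obtain ⟨e, he⟩ := IsPGroup.iff_orderOf.1 P.isPGroup' (⟨u, huP⟩ : (P : Subgroup G))
  rw [Subgroup.orderOf_mk] at he
  have hsmall : ∀ y, ∀ hy : y ∈ H, orderOf y ∣ orderOf u → orderOf y < orderOf u →
      φ ⟨y, hy⟩ = 1 := by
    intro y hy hdvd hlt
    obtain ⟨j, -, hj⟩ := (Nat.dvd_prime_pow hp.out).1 (he ▸ hdvd)
    have hyH : IsPGroup p (Subgroup.zpowers (⟨y, hy⟩ : H)) :=
      IsPGroup.of_card (n := j) (by rw [Nat.card_zpowers, Subgroup.orderOf_mk, hj])
    obtain ⟨R, hR⟩ := hyH.exists_le_sylow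
    obtain ⟨g, hg⟩ := MulAction.exists_smul_eq H R (P.subtype hPH)
    have h1 : g * ⟨y, hy⟩ * g⁻¹ ∈ ((g • R : Sylow p H) : Subgroup H) := by
      rw [Sylow.coe_subgroup_smul]
      exact ⟨_, hR (Subgroup.mem_zpowers _), rfl⟩
    rw [hg] at h1
    by_contra hne
    refine Nat.find_min hex (hum ▸ hlt) ⟨(g : G) * y * (g : G)⁻¹, h1, ?_, ?_⟩
    · change φ (g * ⟨y, hy⟩ * g⁻¹) ≠ 1
      rwa [map_mul, map_mul, map_inv, mul_inv_cancel_comm]
    · exact orderOf_injective (MulAut.conj (g : G)).toMonoidHom (MulAut.conj (g : G)).injective y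
  have hlong : ∀ w : G, orderOf w = orderOf u → ∀ (r : ℕ) (g : G) (hm : g⁻¹ * w ^ r * g ∈ H),
      1 < r → r ∣ orderOf w → φ ⟨_, hm⟩ = 1 := by
    intro w hw r g hm hr hdvd
    have h1 : orderOf (g⁻¹ * w ^ r * g) = orderOf (w ^ r) :=
      orderOf_injective (MulAut.conj g⁻¹).toMonoidHom (MulAut.conj g⁻¹).injective (w ^ r) ▸ by simp
    rw [orderOf_pow_of_dvd (by omega) hdvd, hw] at h1
    exact hsmall _ hm (h1 ▸ Nat.div_dvd_of_dvd (hw ▸ hdvd))
      (h1 ▸ Nat.div_lt_self (orderOf_pos u) hr)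
  haveI := Fintype.ofFinite (G ⧸ H)
  have hV : MonoidHom.transfer φ u = 1 := by
    have h1 := DFunLike.congr_fun h ⟨u, hPH huP⟩
    simpa using h1
  rw [transfer_eq_prod_fixVal φ u (hlong u rfl)] at hV
  -- the coset `H` itself
  have hfixQ : ∀ q : G ⧸ H, q ∈ MulAction.fixedPoints Q (G ⧸ H) → q = ((1 : G) : G ⧸ H) := by
    intro q hq
    induction q using QuotientGroup.induction_on with
    | H x =>
      have hle : Q.map (MulAut.conj x⁻¹).toMonoidHom ≤ H := by
        rintro _ ⟨w, hw, rfl⟩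
        simpa [MulAut.conj_apply] using conj_mem_of_smul_eq (hq ⟨w, hw⟩)
      have hpg : IsPGroup p ((Q.map (MulAut.conj x⁻¹).toMonoidHom).subgroupOf H) :=
        ((P.isPGroup'.to_le hQP).map _).of_equiv (Subgroup.subgroupOfEquivOfLe hle).symm
      obtain ⟨R, hR⟩ := hpg.exists_le_sylow
      obtain ⟨g, hg⟩ := MulAction.exists_smul_eq H R (P.subtype hPH)
      have h1 : Q.map (MulAut.conj ((g : G) * x⁻¹)).toMonoidHom ≤ (P : Subgroup G) := by
        rintro _ ⟨w, hw, rfl⟩
        have hm : x⁻¹ * w * x ∈ H := conj_mem_of_smul_eq (hq ⟨w, hw⟩)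
        have h2 : g * ⟨_, hm⟩ * g⁻¹ ∈ ((g • R : Sylow p H) : Subgroup H) := by
          rw [Sylow.coe_subgroup_smul]
          exact ⟨_, hR (Subgroup.mem_subgroupOf.2 ⟨w, hw, by simp [MulAut.conj_apply]⟩), rfl⟩
        rw [hg] at h2
        have h3 : ((g * ⟨_, hm⟩ * g⁻¹ : H) : G) ∈ (P : Subgroup G) := h2
        simpa [MulAut.conj_apply, mul_assoc] using h3
      have h4 : (g : G) * x⁻¹ ∈ H :=
        hH.symm.le (CfsgLib.Transfer.mem_normalizer_of_map_conj_eq (hQ.2 _ h1))
      refine QuotientGroup.eq.2 ?_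
      rw [mul_one]
      simpa using H.mul_mem (H.inv_mem g.2) h4
  haveI := Fintype.ofFinite (Quotient (MulAction.orbitRel Q (G ⧸ H)))
  rw [← Finset.prod_fiberwise (Finset.univ : Finset (G ⧸ H))
    (fun x => (Quotient.mk'' x : Quotient (MulAction.orbitRel Q (G ⧸ H))))
    (fun q => fixVal φ u q)] at hV
  have hone : ∀ x : G ⧸ H, (Quotient.mk'' x : Quotient (MulAction.orbitRel Q (G ⧸ H))) =
      Quotient.mk'' ((1 : G) : G ⧸ H) → x = ((1 : G) : G ⧸ H) := by
    intro x hx
    obtain ⟨a, ha⟩ := Quotient.exact' hx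
    rw [← ha]
    change (((a : G) * 1 : G) : G ⧸ H) = _
    refine QuotientGroup.eq.2 ?_
    rw [mul_one, mul_one]
    exact H.inv_mem (hPH (hQP a.2))
  rw [Finset.prod_eq_single (Quotient.mk'' ((1 : G) : G ⧸ H))] at hV
  rotate_left
  · -- a nontrivial orbit of `Q`
    intro o _ ho
    obtain ⟨S, hS⟩ : ∃ S : Finset (G ⧸ H), S = Finset.univ.filter
      (fun x => (Quotient.mk'' x : Quotient (MulAction.orbitRel Q (G ⧸ H))) = o) := ⟨_, rfl⟩
    rw [← hS]
    by_cases hnone : ∀ q ∈ S, u • q ≠ q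
    · exact Finset.prod_eq_one fun q hq => fixVal_of_not_fixed φ (hnone q hq)
    push Not at hnone
    obtain ⟨q0, hq0, hq0u⟩ := hnone
    have hmemS : ∀ q, q ∈ S ↔ ∃ a ∈ Q, a • q0 = q := by
      intro q
      rw [hS] at hq0
      rw [hS, Finset.mem_filter]
      have hq0' := (Finset.mem_filter.1 hq0).2
      constructor
      · intro hq
        obtain ⟨a, ha⟩ := Quotient.exact' (hq.2.trans hq0'.symm)
        exact ⟨a, a.2, ha⟩
      · rintro ⟨a, ha, rfl⟩
        exact ⟨Finset.mem_univ _, (Quotient.sound'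
          (show (a • q0) ∈ MulAction.orbit Q q0 from ⟨⟨a, ha⟩, rfl⟩)).trans hq0'⟩
    have hmove : ∃ a ∈ Q, a • q0 ≠ q0 := by
      by_contra hno
      push Not at hno
      apply ho
      rw [hS] at hq0
      rw [← (Finset.mem_filter.1 hq0).2, hfixQ q0 fun a => hno a a.2]
    obtain ⟨M, hM⟩ : ∃ M : Subgroup G,
        M = Q ⊔ ((P : Subgroup G) ⊓ MulAction.stabilizer G q0) := ⟨_, rfl⟩
    have hMP : M ≤ (P : Subgroup G) := hM ▸ sup_le hQP inf_le_left
    have hQM : Q ≤ M := hM ▸ le_sup_left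
    have hMorb : ∀ m ∈ M, ∃ a ∈ Q, a • q0 = m • q0 := by
      intro m hm
      rw [hM, ← SetLike.mem_coe,
        Subgroup.coe_mul_of_right_le_normalizer_left Q _ (inf_le_left.trans (hPH.trans (le_of_eq hH)))] at hm
      obtain ⟨a, ha, b, hb, rfl⟩ := hm
      exact ⟨a, ha, by rw [mul_smul, MulAction.mem_stabilizer_iff.1 hb.2]⟩
    have hne : MulAction.stabilizer M q0 ≠ ⊤ := by
      intro e
      obtain ⟨a, ha, ha'⟩ := hmove
      have h1 : (⟨a, hQM ha⟩ : M) ∈ MulAction.stabilizer M q0 := by rw [e]; trivial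
      exact ha' (MulAction.mem_stabilizer_iff.1 h1)
    obtain ⟨M0, hM0, hle0⟩ :=
      (eq_top_or_exists_le_coatom (MulAction.stabilizer M q0)).resolve_left hne
    have hMpg : IsPGroup p M := P.isPGroup'.to_le hMP
    haveI hM0n := CfsgLib.PGroup.normal_of_isCoatom hMpg hM0
    obtain ⟨z, hzQ, hz⟩ : ∃ z : M, (z : G) ∈ Q ∧ z ∉ M0 := by
      by_contra hno
      push Not at hno
      apply hM0.1
      have h1 : M ≤ M0.map M.subtype := by
        conv_lhs => rw [hM]
        refine sup_le (fun a ha => ⟨⟨a, hQM ha⟩, hno _ ha, rfl⟩)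
          (fun b hb => ⟨⟨b, hM ▸ Subgroup.mem_sup_right hb⟩, hle0 ?_, rfl⟩)
        exact MulAction.mem_stabilizer_iff.2 (MulAction.mem_stabilizer_iff.1 hb.2 :)
      rw [eq_top_iff]
      intro m _
      obtain ⟨m', hm', e⟩ := h1 m.2
      exact (Subtype.ext e : m' = m) ▸ hm'
    have hu0 : u ∈ M := hM ▸ Subgroup.mem_sup_right ⟨huP, MulAction.mem_stabilizer_iff.2 hq0u⟩
    have huM0 : (⟨u, hu0⟩ : M) ∈ M0 := hle0 (MulAction.mem_stabilizer_iff.2 hq0u)
    -- transfer from the stabilizer of `q0` in `M0`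
    have hconj : ∀ k ∈ MulAction.stabilizer M0 q0,
        q0.out⁻¹ * ((k : M) : G) * q0.out ∈ H := fun k hk =>
      conj_mem_of_smul_eq (by
        rw [QuotientGroup.out_eq']; exact (MulAction.mem_stabilizer_iff.1 hk :))
    let μ : MulAction.stabilizer M0 q0 →* A :=
      MonoidHom.mk' (fun k => φ ⟨_, hconj k.1 k.2⟩) fun a b => by
        rw [← map_mul]
        exact congrArg φ (Subtype.ext (by simp [mul_assoc]))
    haveI := Fintype.ofFinite (M0 ⧸ MulAction.stabilizer M0 q0)
    let pt : M0 ⧸ MulAction.stabilizer M0 q0 → G ⧸ H := fun c =>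
      ((MulAction.orbitEquivQuotientStabilizer M0 q0).symm c : G ⧸ H)
    have hpt : ∀ k : M0, pt (k : M0 ⧸ MulAction.stabilizer M0 q0) = ((k : M) : G) • q0 :=
      fun k => rfl
    have hW : ∀ w : M0, orderOf ((w : M) : G) = orderOf u →
        MonoidHom.transfer μ w = ∏ c, fixVal φ ((w : M) : G) (pt c) := by
      intro w hw
      rw [transfer_eq_prod_fixVal μ w]
      · refine Finset.prod_congr rfl fun c _ => ?_
        induction c using QuotientGroup.induction_on with
        | H k =>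
          rw [hpt]
          by_cases hk : k⁻¹ * w * k ∈ MulAction.stabilizer M0 q0
          · have hm := hconj _ hk
            rw [fixVal_mk μ w k hk]
            have e : ((k : M) : G) • q0 = ((((k : M) : G) * q0.out : G) : G ⧸ H) := by
              conv_lhs => rw [← QuotientGroup.out_eq' q0]
              rfl
            rw [e, fixVal_mk φ _ _ (by simpa [mul_assoc] using hm)]
            exact congrArg φ (Subtype.ext (by simp [mul_assoc]))
          · rw [fixVal_of_not_fixed μ (fun e => hk (conj_mem_of_smul_eq e)),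
              fixVal_of_not_fixed φ fun e => hk (MulAction.mem_stabilizer_iff.2 ?_)]
            change (((k⁻¹ * w * k : M0) : M) : G) • q0 = q0
            simp only [Subgroup.coe_mul, Subgroup.coe_inv]
            rw [mul_smul, mul_smul, e, inv_smul_smul]
      · intro r k hk hr hdvd
        have hm := hconj _ hk
        change φ ⟨_, hm⟩ = 1
        have hm' : (((k : M) : G) * q0.out)⁻¹ * ((w : M) : G) ^ r * (((k : M) : G) * q0.out) ∈ H := by
          simpa [mul_assoc] using hm
        have h1 := hlong _ hw r _ hm' hr (by simpa using hdvd)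
        rw [← h1]
        exact congrArg φ (Subtype.ext (by simp [mul_assoc]))
    -- the orbit is a union of `p` translates
    have hpz : orderOf (QuotientGroup.mk' M0 z) = p := by
      refine orderOf_eq_prime ?_ fun e => hz ((QuotientGroup.eq_one_iff z).1 e)
      rw [← map_pow]
      exact (QuotientGroup.eq_one_iff _).2 (CfsgLib.PGroup.pow_mem_of_isCoatom hMpg hM0 z)
    let β : Fin p × (M0 ⧸ MulAction.stabilizer M0 q0) → G ⧸ H := fun ic =>
      ((z : M) : G) ^ (ic.1 : ℕ) • pt ic.2
    have hβmem : ∀ ic, β ic ∈ S := by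
      rintro ⟨i, c⟩
      induction c using QuotientGroup.induction_on with
      | H k =>
        obtain ⟨a, ha, he'⟩ := hMorb _ (M.mul_mem (M.pow_mem z.2 i) (k : M).2)
        refine (hmemS _).2 ⟨a, ha, he'.trans ?_⟩
        change _ = ((z : M) : G) ^ (i : ℕ) • pt k
        rw [hpt, mul_smul]
    have hβinj : Function.Injective β := by
      rintro ⟨i, c⟩ ⟨j, d⟩ hcd
      induction c using QuotientGroup.induction_on with
      | H k =>
        induction d using QuotientGroup.induction_on with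
        | H l =>
          change ((z : M) : G) ^ (i : ℕ) • pt k = ((z : M) : G) ^ (j : ℕ) • pt l at hcd
          rw [hpt, hpt] at hcd
          have h1 : (z ^ (j : ℕ) * (l : M))⁻¹ * (z ^ (i : ℕ) * (k : M)) ∈
              MulAction.stabilizer M q0 := by
            rw [MulAction.mem_stabilizer_iff]
            change ((((z ^ (j : ℕ) * (l : M))⁻¹ * (z ^ (i : ℕ) * (k : M)) : M) : M) : G) • q0 = q0
            simp only [Subgroup.coe_mul, Subgroup.coe_inv, Subgroup.coe_pow]
            rw [mul_smul, inv_smul_eq_iff, mul_smul, mul_smul, hcd]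
          have h2 := (QuotientGroup.eq_one_iff _).2 (hle0 h1)
          change QuotientGroup.mk' M0 _ = 1 at h2
          rw [map_mul, map_inv, map_mul, map_mul, map_pow, map_pow] at h2
          have hk1 : QuotientGroup.mk' M0 (k : M) = 1 := (QuotientGroup.eq_one_iff _).2 k.2
          have hl1 : QuotientGroup.mk' M0 (l : M) = 1 := (QuotientGroup.eq_one_iff _).2 l.2
          rw [hk1, hl1, mul_one, mul_one, inv_mul_eq_one, eq_comm, pow_inj_mod, hpz,
            Nat.mod_eq_of_lt i.isLt, Nat.mod_eq_of_lt j.isLt] at h2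
          obtain rfl : i = j := Fin.ext h2
          have h3 : pt (k : M0 ⧸ MulAction.stabilizer M0 q0) = pt l := by
            rw [hpt, hpt]; exact MulAction.injective _ hcd
          have h4 := (MulAction.orbitEquivQuotientStabilizer M0 q0).symm.injective (Subtype.ext h3)
          rw [h4]
    have himg : (Finset.univ : Finset (Fin p × (M0 ⧸ MulAction.stabilizer M0 q0))).image β = S := by
      refine Finset.ext fun q => ⟨fun hq => ?_, fun hq => ?_⟩
      · obtain ⟨ic, _, rfl⟩ := Finset.mem_image.1 hq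
        exact hβmem ic
      · obtain ⟨a, ha, rfl⟩ := (hmemS q).1 hq
        have hidx : Nat.card (M ⧸ M0) = p := CfsgLib.PGroup.index_of_isCoatom hMpg hM0
        obtain ⟨i, hip, hi⟩ : ∃ i, i < p ∧
            QuotientGroup.mk' M0 z ^ i = QuotientGroup.mk' M0 ⟨a, hQM ha⟩ := by
          have h1 : Subgroup.zpowers (QuotientGroup.mk' M0 z) = ⊤ :=
            Subgroup.eq_top_of_card_eq _ (by rw [Nat.card_zpowers, hpz, hidx])
          obtain ⟨i, hi, hi'⟩ := ((isOfFinOrder_of_finite _).mem_zpowers_iff_mem_range_orderOf).1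
            (h1 ▸ Subgroup.mem_top (QuotientGroup.mk' M0 ⟨a, hQM ha⟩)) |> Finset.mem_image.1
          exact ⟨i, hpz ▸ Finset.mem_range.1 hi, hi'⟩
        rw [← map_pow, QuotientGroup.mk'_apply, QuotientGroup.mk'_apply, QuotientGroup.eq] at hi
        refine Finset.mem_image.2 ⟨(⟨i, hip⟩, ((⟨_, hi⟩ : M0) : M0 ⧸ MulAction.stabilizer M0 q0)),
          Finset.mem_univ _, ?_⟩
        change ((z : M) : G) ^ i • pt _ = a • q0
        rw [hpt, ← mul_smul]
        congr 1
        simp
    rw [← himg, Finset.prod_image fun x _ y _ hxy => hβinj hxy, Fintype.prod_prod_type]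
    -- the translates of `u`
    let σ : ℕ → M0 := fun i => ⟨(z ^ i)⁻¹ * ⟨u, hu0⟩ * z ^ i, by
      simpa using hM0n.conj_mem _ huM0 (z ^ i)⁻¹⟩
    have hσ : ∀ i, orderOf ((σ i : M) : G) = orderOf u := fun i => by
      rw [show ((σ i : M) : G) = (MulAut.conj (((z : M) : G) ^ i)⁻¹).toMonoidHom u by
        simp only [σ, Subgroup.coe_mul, Subgroup.coe_inv, Subgroup.coe_pow,
          MulEquiv.toMonoidHom_eq_coe, MonoidHom.coe_coe, MulAut.conj_apply, inv_inv]]
      exact orderOf_injective _ (MulAut.conj (((z : M) : G) ^ i)⁻¹).injective u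
    have hterm : ∀ i : Fin p, ∏ c, fixVal φ u (β (i, c)) = MonoidHom.transfer μ (σ i) := by
      intro i
      rw [hW _ (hσ i)]
      exact Finset.prod_congr rfl fun c _ => by simp [β, σ, fixVal_smul]
    rw [Finset.prod_congr rfl fun i _ => hterm i,
      Fin.prod_univ_eq_prod_range (fun i => MonoidHom.transfer μ (σ i)) p]
    -- iterated commutators
    let θ : M0 →* M0 := MonoidHom.mk'
      (fun v => ⟨z⁻¹ * (v : M) * z, by simpa using hM0n.conj_mem _ v.2 z⁻¹⟩)
      (fun a b => Subtype.ext (by simp [mul_assoc]))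
    let E : M0 → M0 := fun v => v⁻¹ * θ v
    have hσθ : ∀ i, σ (i + 1) = θ (σ i) := fun i => Subtype.ext (by
      simp [σ, θ, pow_succ, mul_assoc])
    have hcom : ∀ v, θ (E v) = E (θ v) := fun v => by simp [E, map_mul, map_inv]
    have hcom' : ∀ m v, θ (E^[m] v) = E^[m] (θ v) := by
      intro m
      induction m with
      | zero => simp
      | succ m ih => intro v; rw [Function.iterate_succ_apply', hcom, ih, Function.iterate_succ_apply']
    have key := prod_range_eq_iterate hA (fun m i => MonoidHom.transfer μ (E^[m] (σ i))) (by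
      intro m i
      rw [Function.iterate_succ_apply', hσθ, ← hcom', div_eq_mul_inv]
      change MonoidHom.transfer μ ((E^[m] (σ i))⁻¹ * θ (E^[m] (σ i))) = _
      rw [map_mul, map_inv, mul_comm])
    simp only [Function.iterate_zero, id_eq] at key
    rw [key]
    have hzero : E^[p - 1] (σ 0) = 1 := by
      have h1 : ∀ m, (((E^[m] (σ 0) : M0) : M) : G) =
          (fun y : G => y⁻¹ * ((z : M) : G)⁻¹ * y * ((z : M) : G))^[m] u := by
        intro m
        induction m with
        | zero => simp [σ]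
        | succ m ih =>
          rw [Function.iterate_succ_apply', Function.iterate_succ_apply', ← ih]
          simp [E, θ, mul_assoc]
      apply Subtype.ext
      apply Subtype.ext
      rw [h1, hEngel u huP _ hzQ]
      rfl
    rw [hzero, map_one]
  · intro hn
    exact absurd (Finset.mem_univ _) hn
  rw [Finset.prod_eq_single ((1 : G) : G ⧸ H)
    (fun x hx hne' => absurd (hone x (Finset.mem_filter.1 hx).2) hne')
    (fun hn => (hn (Finset.mem_filter.2 ⟨Finset.mem_univ ((1 : G) : G ⧸ H), rfl⟩)).elim),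
    fixVal_mk φ u 1 (by simpa using hPH huP)] at hV
  exact huφ (Eq.trans (congrArg φ (Subtype.ext (by simp))) hV)

/-- Hall–Wielandt. -/
theorem pResidual_normalizer_eq (P : Sylow p G) (Q : Subgroup G)
    (hQ : Cfsg.IsWeaklyClosed Q (P : Subgroup G))
    (hEngel : ∀ u ∈ (P : Subgroup G), ∀ z ∈ Q,
      (fun y : G => y⁻¹ * z⁻¹ * y * z)^[p - 1] u = 1) :
    (Cfsg.pResidual p G).subgroupOf (Subgroup.normalizer (Q : Set G)) =
      Cfsg.pResidual p (Subgroup.normalizer (Q : Set G)) := by
  classical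
  obtain ⟨H, hH⟩ : ∃ H : Subgroup G, H = Subgroup.normalizer (Q : Set G) := ⟨_, rfl⟩
  rw [← hH]
  haveI := CfsgLib.Transfer.pResidual_normal (G := H) (p := p)
  have hPH : (P : Subgroup G) ≤ H := hH ▸ CfsgLib.Transfer.IsWeaklyClosed.normal hQ
  have hi : ¬ p ∣ H.index := fun hd => P.not_dvd_index (hd.trans (index_dvd_of_le hPH))
  have hUL : Cfsg.pResidual p H ≤ (Cfsg.pResidual p G).subgroupOf H := by
    rw [subgroupOf, ← map_le_iff_le_comap]
    exact CfsgLib.Transfer.map_pResidual_le H.subtype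
  -- every homomorphism to a group of exponent `p` extends to `G`
  have hext : ∀ χ : H →* Multiplicative (ZMod p),
      ∃ ψ : G →* Multiplicative (ZMod p), ψ.comp H.subtype = χ := by
    have hA : ∀ a : Multiplicative (ZMod p), a ^ p = 1 := fun a => by
      apply Multiplicative.toAdd.injective
      simp
    haveI : Finite (H →* Multiplicative (ZMod p)) :=
      Finite.of_injective _ DFunLike.coe_injective
    let T : (H →* Multiplicative (ZMod p)) → (H →* Multiplicative (ZMod p)) :=
      fun χ => (MonoidHom.transfer χ).comp H.subtype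
    have hT : Function.Injective T := by
      intro a b hab
      have hmul : ∀ x : H, T (b * (b⁻¹ * a)) x = T b x * T (b⁻¹ * a) x := fun x =>
        transfer_mul b (b⁻¹ * a) (x : G)
      have h1 : T (b⁻¹ * a) = 1 := by
        refine MonoidHom.ext fun x => ?_
        have := hmul x
        rw [mul_inv_cancel_left, hab] at this
        exact mul_left_cancel (this.symm.trans (mul_one _).symm)
      subst hH
      exact (inv_mul_eq_one.1 (transfer_restrict_ne_one P Q hQ hEngel hA _ h1)).symm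
    intro χ
    obtain ⟨a, ha⟩ := (Finite.injective_iff_surjective.1 hT) χ
    exact ⟨_, ha⟩
  refine le_antisymm ?_ hUL
  refine CfsgLib.Transfer.tate_iterate H hi _
    (CfsgLib.Transfer.isPGroup_quotient_of_pResidual_le _ le_rfl) hUL ?_
  intro M hMn hUM _ _ S hS
  have hpg : IsPGroup p (H ⧸ M) := CfsgLib.Transfer.isPGroup_quotient_of_pResidual_le M hUM
  refine frattini_nongenerating ?_
  rw [eq_top_iff, ← hS]
  refine sup_le_sup_left ?_ S
  simp only [frattini, Order.radical, le_iInf_iff]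
  intro C hC
  haveI := CfsgLib.PGroup.normal_of_isCoatom hpg hC
  have hcard : Nat.card ((H ⧸ M) ⧸ C) = p := CfsgLib.PGroup.index_of_isCoatom hpg hC
  let e : (H ⧸ M) ⧸ C ≃* Multiplicative (ZMod p) :=
    mulEquivOfPrimeCardEq hcard (by rw [Nat.card_congr Multiplicative.toAdd, Nat.card_zmod])
  obtain ⟨ψ, hψ⟩ := hext ((e.toMonoidHom.comp (QuotientGroup.mk' C)).comp (QuotientGroup.mk' M))
  rintro _ ⟨l, hl, rfl⟩
  have hker := CfsgLib.Transfer.pResidual_le_ker (p := p) (IsPGroup.of_card (n := 1)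
    (by rw [Nat.card_congr Multiplicative.toAdd, Nat.card_zmod, pow_one])) ψ
  have h1 : e ((QuotientGroup.mk' C) (QuotientGroup.mk' M l)) = 1 :=
    (DFunLike.congr_fun hψ l).symm.trans (hker (Subgroup.mem_subgroupOf.1 hl))
  rw [MulEquiv.map_eq_one_iff] at h1
  exact (QuotientGroup.eq_one_iff _).1 h1

end CfsgLib.HallWielandt82
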