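import Mathlib

/-!
# Krull–Remak–Schmidt for finite groups
-/

set_option autoImplicit false

namespace CfsgLib.KrullSchmidt82

open Subgroup

/-- No nontrivial decomposition as a direct product of normal subgroups. -/
def Indecomposable (A : Type*) [Group A] : Prop :=
  Nontrivial A ∧ ∀ H K : Subgroup A, H.Normal → K.Normal → H ⊓ K = ⊥ → H ⊔ K = ⊤ → H = ⊥ ∨ K = ⊥

section Fitting

variable {A : Type*} [Group A] [Finite A]

theorem exists_idempotent_iterate (f : A → A) :
    ∃ n, 0 < n ∧ ∀ x, f^[n] (f^[n] x) = f^[n] x := by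
  obtain ⟨a, b, hab, h⟩ := Finite.exists_ne_map_eq_of_infinite (fun n : ℕ => f^[n])
  wlog hlt : a < b generalizing a b
  · exact this b a (Ne.symm hab) h.symm (by omega)
  replace h : f^[a] = f^[b] := h
  have hd : ∀ k m, a ≤ m → f^[m + k * (b - a)] = f^[m] := by
    intro k
    induction k with
    | zero => simp
    | succ k ih =>
      intro m hm
      rw [Nat.succ_mul, ← add_assoc, show m + k * (b - a) + (b - a) = (m - a + k * (b - a)) + b by omega,
        Function.iterate_add, ← h, ← Function.iterate_add,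
        show m - a + k * (b - a) + a = m + k * (b - a) by omega, ih m hm]
  refine ⟨(a + 1) * (b - a), Nat.mul_pos (Nat.succ_pos a) (by omega), fun x => ?_⟩
  rw [← Function.iterate_add_apply, hd]
  calc a ≤ a + 1 := Nat.le_succ a
    _ = (a + 1) * 1 := (mul_one _).symm
    _ ≤ (a + 1) * (b - a) := Nat.mul_le_mul_left _ (by omega)

theorem injective_or_nilpotent (hA : Indecomposable A) (f : A →* A)
    (hf : ∀ g x : A, f (g * x * g⁻¹) = g * f x * g⁻¹) :
    Function.Injective f ∨ ∃ n, ∀ x, f^[n] x = 1 := by
  obtain ⟨n, hn, hid⟩ := exists_idempotent_iterate f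
  let F : A →* A :=
    { toFun := f^[n]
      map_one' := iterate_map_one f n
      map_mul' := iterate_map_mul f n }
  have hFn : ∀ g x, F (g * x * g⁻¹) = g * F x * g⁻¹ := by
    intro g x
    show f^[n] _ = g * f^[n] x * g⁻¹
    clear hn hid F
    induction n with
    | zero => rfl
    | succ n ih => rw [Function.iterate_succ_apply', Function.iterate_succ_apply', ih, hf]
  have hrn : F.range.Normal := ⟨by rintro _ ⟨x, rfl⟩ g; exact ⟨g * x * g⁻¹, hFn g x⟩⟩
  have hinf : F.ker ⊓ F.range = ⊥ := by
    rw [eq_bot_iff]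
    rintro _ ⟨hx, ⟨y, rfl⟩⟩
    replace hx : F (F y) = 1 := hx
    exact mem_bot.2 ((hid y).symm.trans hx)
  have hsup : F.ker ⊔ F.range = ⊤ := by
    rw [eq_top_iff]
    intro x _
    haveI := hrn
    rw [show x = x * (F x)⁻¹ * F x by group]
    refine mul_mem_sup ?_ ⟨x, rfl⟩
    rw [MonoidHom.mem_ker, map_mul, map_inv, show F (F x) = F x from hid x, mul_inv_cancel]
  rcases hA.2 F.ker F.range inferInstance hrn hinf hsup with h | h
  · refine Or.inl fun x y hxy => ?_
    have hk : F x = F y := by
      show f^[n] x = f^[n] y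
      obtain ⟨n', rfl⟩ : ∃ n', n = n' + 1 := ⟨n - 1, by omega⟩
      rw [Function.iterate_succ_apply, Function.iterate_succ_apply, hxy]
    exact (MonoidHom.ker_eq_bot_iff F).1 h hk
  · exact Or.inr ⟨n, fun x => mem_bot.1 (h ▸ (⟨x, rfl⟩ : F x ∈ F.range))⟩

/-- If a product of two normal endomorphisms is bijective, so is one of them. -/
theorem bijective_or_bijective (hA : Indecomposable A) (f g : A →* A)
    (hf : ∀ a x : A, f (a * x * a⁻¹) = a * f x * a⁻¹) (hg : ∀ a x : A, g (a * x * a⁻¹) = a * g x * a⁻¹)
    (h : Function.Bijective fun x => f x * g x) (hom : ∀ x y, f (x * y) * g (x * y) = f x * g x * (f y * g y)) :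
    Function.Bijective f ∨ Function.Bijective g := by
  haveI := hA.1
  let σ : A ≃* A := MulEquiv.ofBijective (MonoidHom.mk' (fun x => f x * g x) hom) h
  have hσ : ∀ a x, σ.symm (a * x * a⁻¹) = a * σ.symm x * a⁻¹ := by
    intro a x
    rw [MulEquiv.symm_apply_eq]
    show _ = f (a * σ.symm x * a⁻¹) * g (a * σ.symm x * a⁻¹)
    rw [hf, hg, show a * f (σ.symm x) * a⁻¹ * (a * g (σ.symm x) * a⁻¹) =
      a * (f (σ.symm x) * g (σ.symm x)) * a⁻¹ by group]
    exact congrArg (fun z => a * z * a⁻¹) (σ.apply_symm_apply x).symm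
  let f' : A →* A := σ.symm.toMonoidHom.comp f
  let g' : A →* A := σ.symm.toMonoidHom.comp g
  have hf' : ∀ a x, f' (a * x * a⁻¹) = a * f' x * a⁻¹ := fun a x => by
    show σ.symm (f _) = a * σ.symm (f x) * a⁻¹
    rw [hf, hσ]
  have hg' : ∀ a x, g' (a * x * a⁻¹) = a * g' x * a⁻¹ := fun a x => by
    show σ.symm (g _) = a * σ.symm (g x) * a⁻¹
    rw [hg, hσ]
  have hsum : ∀ x, f' x * g' x = x := fun x => by
    show σ.symm (f x) * σ.symm (g x) = x
    rw [← map_mul]
    exact σ.symm_apply_apply x
  by_cases hfi : Function.Injective f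
  · exact Or.inl (Finite.injective_iff_bijective.1 hfi)
  refine Or.inr (Finite.injective_iff_bijective.1 ?_)
  rcases injective_or_nilpotent hA g' hg' with h1 | ⟨n, hn⟩
  · exact (show Function.Injective (σ.symm ∘ g) from h1).of_comp
  exfalso
  obtain ⟨x, hx, hx1⟩ : ∃ x, f x = 1 ∧ x ≠ 1 := by
    rw [injective_iff_map_eq_one] at hfi
    push Not at hfi
    exact hfi
  have h2 : g' x = x := by
    have := hsum x
    rwa [show f' x = 1 by show σ.symm (f x) = 1; rw [hx, map_one], one_mul] at this
  exact hx1 ((Function.iterate_fixed h2 n).symm.trans (hn x))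

end Fitting

section Main

variable {m n : ℕ}

/-- Projection of a product onto the coordinates in `s`. -/
def restrict {ι : Type*} [DecidableEq ι] {B : ι → Type*} [∀ j, Group (B j)] (s : Finset ι) :
    ((j : ι) → B j) →* ((j : ι) → B j) where
  toFun z := fun k => if k ∈ s then z k else 1
  map_one' := funext fun k => by simp
  map_mul' z w := funext fun k => by
    by_cases h : k ∈ s <;> simp [h]

theorem exists_match {ι : Type*} [DecidableEq ι] [Finite ι] {A : ι → Type*} [∀ i, Group (A i)]
    [∀ i, Finite (A i)] {κ : Type*} [DecidableEq κ] [Finite κ] {B : κ → Type*} [∀ j, Group (B j)]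
    [∀ j, Finite (B j)] (i : ι) (hA : Indecomposable (A i)) (hB : ∀ j, Indecomposable (B j))
    (e : ((i : ι) → A i) ≃* ((j : κ) → B j)) :
    ∃ j : κ, Function.Bijective (fun a : A i => e (Pi.mulSingle i a) j) ∧
      Function.Bijective (fun b : B j => e.symm (Pi.mulSingle j b) i) := by
  have := Fintype.ofFinite κ
  let Φ : Finset κ → (A i →* A i) := fun s =>
    ((Pi.evalMonoidHom A i).comp e.symm.toMonoidHom).comp
      ((restrict s).comp (e.toMonoidHom.comp (MonoidHom.mulSingle A i)))
  have hΦn : ∀ s a x, Φ s (a * x * a⁻¹) = a * Φ s x * a⁻¹ := by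
    intro s a x
    show e.symm (restrict s (e (Pi.mulSingle i (a * x * a⁻¹)))) i =
      a * e.symm (restrict s (e (Pi.mulSingle i x))) i * a⁻¹
    rw [show e (Pi.mulSingle i (a * x * a⁻¹)) =
      e (Pi.mulSingle i a) * e (Pi.mulSingle i x) * (e (Pi.mulSingle i a))⁻¹ by
        simp [Pi.mulSingle_mul, Pi.mulSingle_inv]]
    have h1 : ∀ h z : (j : κ) → B j, restrict s (h * z * h⁻¹) = h * restrict s z * h⁻¹ := by
      intro h z
      funext k
      by_cases hk : k ∈ s <;> simp [restrict, hk]
    rw [h1, map_mul, map_mul, map_inv, MulEquiv.symm_apply_apply]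
    simp
  have hempty : ¬ Function.Bijective (Φ ∅) := by
    intro h
    obtain ⟨x, hx⟩ := @exists_ne _ hA.1 (1 : A i)
    refine hx (h.1 ?_)
    show e.symm (restrict ∅ (e (Pi.mulSingle i x))) i = e.symm (restrict ∅ (e (Pi.mulSingle i 1))) i
    refine congrFun (congrArg e.symm (funext fun k => ?_)) i
    simp [restrict]
  have huniv : Function.Bijective (Φ Finset.univ) := by
    have : ∀ x, Φ Finset.univ x = x := by
      intro x
      show e.symm (restrict Finset.univ (e (Pi.mulSingle i x))) i = x
      rw [show restrict Finset.univ (e (Pi.mulSingle i x)) = e (Pi.mulSingle i x) from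
        funext fun k => by simp [restrict], MulEquiv.symm_apply_apply, Pi.mulSingle_eq_same]
    rw [show ⇑(Φ Finset.univ) = id from funext this]
    exact Function.bijective_id
  have hins : ∀ (a : κ) (s : Finset κ), a ∉ s → ∀ x, Φ (insert a s) x = Φ {a} x * Φ s x := by
    intro a s ha x
    show e.symm _ i = e.symm _ i * e.symm _ i
    rw [← Pi.mul_apply, ← map_mul]
    refine congrFun (congrArg e.symm (funext fun k => ?_)) i
    by_cases hk : k = a
    · subst hk; simp [restrict, ha]
    · simp [restrict, hk]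
  obtain ⟨j, hj⟩ : ∃ j, Function.Bijective (Φ {j}) := by
    suffices ∀ s : Finset κ, Function.Bijective (Φ s) → ∃ j, Function.Bijective (Φ {j}) from
      this _ huniv
    intro s
    induction s using Finset.induction_on with
    | empty => exact fun h => absurd h hempty
    | @insert a s ha ih =>
      intro h
      have h' : Function.Bijective fun x => Φ {a} x * Φ s x := by
        rwa [show (fun x => Φ {a} x * Φ s x) = ⇑(Φ (insert a s)) from
          funext fun x => (hins a s ha x).symm]
      rcases bijective_or_bijective hA (Φ {a}) (Φ s) (hΦn _) (hΦn _) h'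
        (fun x y => by rw [← hins a s ha, ← hins a s ha, ← hins a s ha, map_mul]) with h1 | h1
      · exact ⟨a, h1⟩
      · exact ih h1
  let α : A i →* B j := ((Pi.evalMonoidHom B j).comp e.toMonoidHom).comp (MonoidHom.mulSingle A i)
  let β : B j →* A i := ((Pi.evalMonoidHom A i).comp e.symm.toMonoidHom).comp (MonoidHom.mulSingle B j)
  have hcomp : ∀ x, β (α x) = Φ {j} x := by
    intro x
    show e.symm _ i = e.symm _ i
    refine congrFun (congrArg e.symm (funext fun k => ?_)) i
    by_cases hk : k = j
    · subst hk; simp [restrict, α]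
    · simp [restrict, hk]
  have hβs : Function.Surjective β := fun y => by
    obtain ⟨x, rfl⟩ := hj.2 y
    exact ⟨α x, hcomp x⟩
  have hαi : Function.Injective α := fun x y h => hj.1 (by rw [← hcomp, ← hcomp, h])
  have hαn : α.range.Normal := ⟨by
    rintro _ ⟨x, rfl⟩ g
    refine ⟨(e.symm (Pi.mulSingle j g) i) * x * (e.symm (Pi.mulSingle j g) i)⁻¹, ?_⟩
    show e (Pi.mulSingle i _) j = g * e (Pi.mulSingle i x) j * g⁻¹
    have h1 : (Pi.mulSingle i ((e.symm (Pi.mulSingle j g) i) * x * (e.symm (Pi.mulSingle j g) i)⁻¹) :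
        (k : ι) → A k) =
        e.symm (Pi.mulSingle j g) * Pi.mulSingle i x * (e.symm (Pi.mulSingle j g))⁻¹ := by
      funext k
      by_cases hk : k = i
      · subst hk; simp
      · simp [hk]
    rw [h1, map_mul, map_mul, map_inv, MulEquiv.apply_symm_apply]
    simp⟩
  have hkerbot : β.ker = ⊥ := by
    have hinf : α.range ⊓ β.ker = ⊥ := by
      rw [eq_bot_iff]
      rintro _ ⟨⟨x, rfl⟩, hx⟩
      replace hx : β (α x) = 1 := hx
      rw [hcomp] at hx
      rw [mem_bot, hj.1 (hx.trans (map_one (Φ {j})).symm), map_one]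
    have hsup : α.range ⊔ β.ker = ⊤ := by
      rw [eq_top_iff]
      intro b _
      obtain ⟨x, hx⟩ := hj.2 (β b)
      rw [show b = α x * ((α x)⁻¹ * b) by group]
      refine mul_mem_sup ⟨x, rfl⟩ ?_
      rw [MonoidHom.mem_ker, map_mul, map_inv, hcomp, hx, inv_mul_cancel]
    rcases (hB j).2 α.range β.ker hαn inferInstance hinf hsup with h | h
    · exfalso
      obtain ⟨x, hx⟩ := @exists_ne _ hA.1 (1 : A i)
      refine hx (hαi ?_)
      rw [map_one]
      exact mem_bot.1 (h ▸ (⟨x, rfl⟩ : α x ∈ α.range))
    · exact h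
  have hβ : Function.Bijective β := ⟨(MonoidHom.ker_eq_bot_iff β).1 hkerbot, hβs⟩
  have hα : Function.Bijective α := by
    refine ⟨hαi, fun b => ?_⟩
    obtain ⟨x, hx⟩ := hj.2 (β b)
    exact ⟨x, hβ.1 ((hcomp x).trans hx)⟩
  exact ⟨j, hα, hβ⟩

universe u v

theorem krull_schmidt : ∀ {m n : ℕ} {A : Fin m → Type u} {B : Fin n → Type v} [∀ i, Group (A i)]
    [∀ j, Group (B j)] [∀ i, Finite (A i)] [∀ j, Finite (B j)],
    (∀ i, Indecomposable (A i)) → (∀ j, Indecomposable (B j)) →
    (((i : Fin m) → A i) ≃* ((j : Fin n) → B j)) →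
    ∃ σ : Fin m ≃ Fin n, ∀ i, Nonempty (A i ≃* B (σ i)) := by
  intro m
  induction m with
  | zero =>
    intro n A B _ _ _ _ _ hB e
    cases n with
    | zero => exact ⟨Equiv.refl _, fun i => i.elim0⟩
    | succ n =>
      exfalso
      obtain ⟨b, hb⟩ := @exists_ne _ (hB 0).1 (1 : B 0)
      have h1 : e.symm (Pi.mulSingle 0 b) = e.symm 1 := funext fun i => i.elim0
      have h2 := congrFun (e.symm.injective h1) 0
      simp at h2
      exact hb h2
  | succ m ih =>
    intro n A B _ _ _ _ hA hB e
    cases n with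
    | zero =>
      exfalso
      obtain ⟨a, ha⟩ := @exists_ne _ (hA 0).1 (1 : A 0)
      have h1 : e (Pi.mulSingle 0 a) = e 1 := funext fun i => i.elim0
      have h2 := congrFun (e.injective h1) 0
      simp at h2
      exact ha h2
    | succ n =>
    obtain ⟨j, hα, hβ⟩ := exists_match 0 (hA 0) hB e
    let e0 : A 0 ≃* B j := MulEquiv.ofBijective
      (((Pi.evalMonoidHom B j).comp e.toMonoidHom).comp (MonoidHom.mulSingle A 0)) hα
    let f : ((i : Fin m) → A i.succ) →* ((k : Fin n) → B (j.succAbove k)) :=
      { toFun := fun x k => e (Fin.cons 1 x) (j.succAbove k)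
        map_one' := funext fun k => by
          rw [show (Fin.cons 1 (1 : (i : Fin m) → A i.succ) : (i : Fin (m + 1)) → A i) = 1 from
            funext fun i => by
              refine Fin.cases ?_ ?_ i
              · simp
              · intro l; simp, map_one]
          rfl
        map_mul' := fun x y => funext fun k => by
          rw [show (Fin.cons 1 (x * y) : (i : Fin (m + 1)) → A i) = Fin.cons 1 x * Fin.cons 1 y from
            funext fun i => by
              refine Fin.cases ?_ ?_ i
              · simp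
              · intro l; simp, map_mul]
          rfl }
    have hfi : Function.Injective f := by
      rw [injective_iff_map_eq_one]
      intro x hx
      obtain ⟨z, hz⟩ : ∃ z, z = e (Fin.cons 1 x) := ⟨_, rfl⟩
      have h1 : z = Pi.mulSingle j (z j) := by
        funext k
        by_cases hk : k = j
        · subst hk; simp
        · obtain ⟨l, rfl⟩ := Fin.exists_succAbove_eq hk
          rw [Pi.mulSingle_eq_of_ne hk, hz]
          exact congrFun hx l
      have h2 : e.symm (Pi.mulSingle j (z j)) = Fin.cons 1 x := by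
        rw [← h1, hz, MulEquiv.symm_apply_apply]
      have h3 : z j = 1 := hβ.1 (by
        show e.symm (Pi.mulSingle j (z j)) 0 = e.symm (Pi.mulSingle j 1) 0
        rw [h2, Pi.mulSingle_one, map_one]
        simp)
      rw [h3, Pi.mulSingle_one, map_one] at h2
      funext l
      have h4 := congrFun h2 l.succ
      rw [Fin.cons_succ] at h4
      exact h4.symm
    have hcard : Nat.card ((i : Fin m) → A i.succ) = Nat.card ((k : Fin n) → B (j.succAbove k)) := by
      have h1 := Nat.card_congr e.toEquiv
      rw [Nat.card_congr (Fin.consEquiv A).symm, Nat.card_prod,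
        Nat.card_congr (Fin.insertNthEquiv B j).symm, Nat.card_prod,
        Nat.card_congr e0.toEquiv] at h1
      exact Nat.eq_of_mul_eq_mul_left Nat.card_pos h1
    obtain ⟨σ, hσ⟩ := ih (fun i => hA i.succ) (fun k => hB (j.succAbove k))
      (MulEquiv.ofBijective f ((Nat.bijective_iff_injective_and_card f).2 ⟨hfi, hcard⟩))
    refine ⟨(finSuccEquiv' 0).trans ((Equiv.optionCongr σ).trans (finSuccEquiv' j).symm), fun i => ?_⟩
    refine Fin.cases ?_ (fun l => ?_) i
    · simp only [Equiv.trans_apply, finSuccEquiv'_at, Equiv.optionCongr_apply, Option.map_none,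
        finSuccEquiv'_symm_none]
      exact ⟨e0⟩
    · have : finSuccEquiv' (0 : Fin (m + 1)) l.succ = some l := by
        rw [← Fin.succAbove_zero]; exact finSuccEquiv'_succAbove 0 l
      simp only [Equiv.trans_apply, this, Equiv.optionCongr_apply, Option.map_some,
        finSuccEquiv'_symm_some]
      exact hσ l

end Main

end CfsgLib.KrullSchmidt82
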