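import Mathlib
import Cfsg.Agent.Lib.PGroup.Frattini
import Cfsg.Agent.S4219

/-!
# Manning's transitivity bound: the Sylow subgroup of a point stabiliser
-/

set_option autoImplicit false

namespace CfsgLib.Manning82

open MulAction Subgroup

variable {α : Type*} [Fintype α] [DecidableEq α] {G : Subgroup (Equiv.Perm α)} {r p k : ℕ}

/-- A subgroup fixing exactly the points `x i`, all other orbits having length `p`, whose
normaliser induces the symmetric group on the points `x i`. -/
structure Ctx (G : Subgroup (Equiv.Perm α)) (x : Fin r ↪ α) (p : ℕ) (P : Subgroup G) : Prop where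
  pgroup : IsPGroup p P
  fix : ∀ z, (∀ u ∈ P, u • z = z) ↔ z ∈ Set.range x
  orbit : ∀ z, z ∉ Set.range x → (MulAction.orbit P z).ncard = p
  induce : ∀ σ : Equiv.Perm (Fin r),
    ∃ y ∈ normalizer (P : Set G), ∀ i, y • x i = x (σ i)

theorem exists_ctx [hp : Fact p.Prime] (hn : Fintype.card α = k * p + r) (hk : 1 ≤ k) (hpk : k < p)
    (hG : IsMultiplyPretransitive G α (r + 1)) (x : Fin r ↪ α) :
    ∃ P : Subgroup G, Ctx G x p P := by
  obtain ⟨P0⟩ := (inferInstance : Nonempty (Sylow p (stabilizer G x)))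
  obtain ⟨P, hP⟩ : ∃ P, P = (P0 : Subgroup (stabilizer G x)).map (stabilizer G x).subtype :=
    ⟨_, rfl⟩
  have hstab : ∀ u ∈ stabilizer G x, ∀ i, u • x i = x i := fun u hu i =>
    congrArg (fun e : Fin r ↪ α => e i) hu
  have hfix1 : ∀ z ∈ Set.range x, ∀ u ∈ P, u • z = z := by
    rintro _ ⟨i, rfl⟩ u hu
    obtain ⟨v, -, rfl⟩ := hP ▸ hu
    exact hstab _ v.2 i
  have horbH : ∀ z, z ∉ Set.range x → MulAction.orbit (stabilizer G x) z = (Set.range x)ᶜ := by
    intro z hz
    ext w
    constructor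
    · rintro ⟨h, rfl⟩ ⟨i, hi⟩
      refine hz ⟨i, ?_⟩
      have h1 : (h : G) • x i = (h : G) • z := (hstab _ h.2 i).trans hi
      exact smul_left_cancel (h : G) h1
    · intro hw
      let e1 : Fin (r + 1) ↪ α := ⟨Fin.cons z x, Fin.cons_injective_iff.2 ⟨hz, x.injective⟩⟩
      let e2 : Fin (r + 1) ↪ α := ⟨Fin.cons w x, Fin.cons_injective_iff.2 ⟨hw, x.injective⟩⟩
      obtain ⟨g, hg⟩ := exists_smul_eq G e1 e2
      have hg' : ∀ i, g • e1 i = e2 i := fun i => congrArg (fun e : Fin (r + 1) ↪ α => e i) hg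
      refine ⟨⟨g, ?_⟩, ?_⟩
      · refine mem_stabilizer_iff.2 (Function.Embedding.ext fun i => ?_)
        have h1 := hg' i.succ
        simp [e1, e2] at h1
        exact h1
      · have h1 := hg' 0
        simpa [e1, e2] using h1
  have hrange : (Set.range x).ncard = r := by
    rw [Set.ncard_range_of_injective x.injective, Nat.card_eq_fintype_card, Fintype.card_fin]
  have hcompl : ((Set.range x)ᶜ).ncard = k * p := by
    have h1 := Set.ncard_add_ncard_compl (Set.range x)
    rw [hrange, Nat.card_eq_fintype_card, hn] at h1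
    omega
  have hPp : IsPGroup p P := hP ▸ P0.isPGroup'.map _
  have hmoved : ∀ z, z ∉ Set.range x → ¬ ∀ u ∈ P, u • z = z := by
    intro z hz hall
    have hle : (P0 : Subgroup (stabilizer G x)) ≤ MulAction.stabilizer (stabilizer G x) z :=
      fun v hv => hall _ (hP ▸ mem_map_of_mem _ hv)
    have h1 := index_dvd_of_le hle
    rw [MulAction.index_stabilizer, horbH z hz, hcompl] at h1
    exact P0.not_dvd_index ((dvd_mul_left p k).trans h1)
  refine ⟨P, hPp, fun z => ⟨fun h => ?_, fun hz u hu => hfix1 z hz u hu⟩, fun z hz => ?_, fun σ => ?_⟩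
  · by_contra hz
    exact hmoved z hz h
  · obtain ⟨e, he⟩ := hPp.index (MulAction.stabilizer P z)
    rw [MulAction.index_stabilizer] at he
    have hsub : MulAction.orbit P z ⊆ (Set.range x)ᶜ := by
      rintro _ ⟨u, rfl⟩ hu
      apply hz
      have h1 : ((u : G)⁻¹) • ((u : G) • z) = (u : G) • z := hfix1 _ hu _ (P.inv_mem u.2)
      rw [inv_smul_smul] at h1
      rw [h1]
      exact hu
    have hle := Set.ncard_le_ncard hsub (Set.toFinite _)
    rw [he, hcompl] at hle
    have he1 : e ≤ 1 := by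
      by_contra hc
      have h2 : p ^ 2 ≤ p ^ e := Nat.pow_le_pow_right hp.out.pos (by omega)
      have h3 : k * p < p ^ 2 := by rw [pow_two]; exact Nat.mul_lt_mul_of_pos_right hpk hp.out.pos
      omega
    rcases Nat.le_one_iff_eq_zero_or_eq_one.1 he1 with rfl | rfl
    · exfalso
      rw [pow_zero, Set.ncard_eq_one] at he
      obtain ⟨w, hw⟩ := he
      refine hmoved z hz fun u hu => ?_
      have h1 : u • z ∈ MulAction.orbit P z := ⟨⟨u, hu⟩, rfl⟩
      have h2 : z ∈ MulAction.orbit P z := MulAction.mem_orbit_self z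
      rw [hw, Set.mem_singleton_iff] at h1 h2
      rw [h1, ← h2]
    · rw [he, pow_one]
  · have hG' : IsMultiplyPretransitive G α r := by
      haveI := hG
      refine isMultiplyPretransitive_of_le' (n := r + 1) (Nat.le_succ r) ?_
      simp only [ENat.card_eq_coe_fintype_card, hn]
      have : 1 ≤ k * p := Nat.mul_pos hk hp.out.pos
      exact_mod_cast (by omega : r + 1 ≤ k * p + r)
    obtain ⟨y, hy, hyx⟩ := Cfsg.Agent.S4219.result hG' x P0 x (σ.toEmbedding.trans x)
      (fun i v => hfix1 _ ⟨i, rfl⟩ _ (hP ▸ v.2)) (fun i v => hfix1 _ ⟨σ i, rfl⟩ _ (hP ▸ v.2))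
    exact ⟨y, hP ▸ hy, fun i => congrArg (fun e : Fin r ↪ α => e i) hyx⟩

variable {x : Fin r ↪ α} {P : Subgroup G}

theorem ext_smul {g h : G} (H : ∀ z : α, g • z = h • z) : g = h :=
  Subtype.ext (Equiv.ext H)

theorem Ctx.coatom [hp : Fact p.Prime] (C : Ctx G x p P) {z : α} (hz : z ∉ Set.range x) :
    IsCoatom (MulAction.stabilizer P z) := by
  have hi : (MulAction.stabilizer P z).index = p := by rw [MulAction.index_stabilizer, C.orbit z hz]
  refine ⟨fun h => ?_, fun M hM => ?_⟩
  · rw [h, index_top] at hi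
    exact hp.out.ne_one hi.symm
  · rw [← index_eq_one]
    refine (hp.out.eq_one_or_self_of_dvd _ (hi ▸ index_dvd_of_le hM.le)).resolve_right fun h => ?_
    have h1 := relIndex_mul_index hM.le
    rw [hi, h] at h1
    have h2 : (MulAction.stabilizer P z).relIndex M = 1 :=
      Nat.eq_of_mul_eq_mul_right hp.out.pos (h1.trans (one_mul p).symm)
    exact hM.not_ge (relIndex_eq_one.1 h2)

theorem Ctx.pow_eq_one [hp : Fact p.Prime] (C : Ctx G x p P) {u : G} (hu : u ∈ P) : u ^ p = 1 := by
  refine ext_smul fun z => ?_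
  rw [one_smul]
  by_cases hz : z ∈ Set.range x
  · exact (C.fix z).2 hz _ (P.pow_mem hu p)
  · exact mem_stabilizer_iff.1 (CfsgLib.PGroup.pow_mem_of_isCoatom C.pgroup (C.coatom hz) ⟨u, hu⟩)

theorem Ctx.comm [hp : Fact p.Prime] (C : Ctx G x p P) {u v : G} (hu : u ∈ P) (hv : v ∈ P) :
    u * v = v * u := by
  rw [← commutatorElement_eq_one_iff_mul_comm]
  refine ext_smul fun z => ?_
  rw [one_smul]
  by_cases hz : z ∈ Set.range x
  · refine (C.fix z).2 hz _ ?_
    rw [commutatorElement_def]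
    exact P.mul_mem (P.mul_mem (P.mul_mem hu hv) (P.inv_mem hu)) (P.inv_mem hv)
  · exact mem_stabilizer_iff.1 (CfsgLib.PGroup.commutator_le_of_isCoatom C.pgroup (C.coatom hz)
      (commutator_mem_commutator (mem_top (⟨u, hu⟩ : P)) (mem_top ⟨v, hv⟩)))

/-- On one orbit every element of `P` agrees with a power of a moving one. -/
theorem Ctx.agree [hp : Fact p.Prime] (C : Ctx G x p P) {z : α} {u v : G} (hu : u ∈ P)
    (hv : v ∈ P) (huz : u • z ≠ z) :
    ∃ j : ℤ, ∀ w ∈ MulAction.orbit P z, v • w = u ^ j • w := by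
  have hz : z ∉ Set.range x := fun hz => huz ((C.fix z).2 hz u hu)
  haveI : (MulAction.stabilizer P z).Normal :=
    CfsgLib.PGroup.normal_of_isCoatom C.pgroup (C.coatom hz)
  have htop : MulAction.stabilizer P z ⊔ zpowers (⟨u, hu⟩ : P) = ⊤ := by
    refine (C.coatom hz).2 _ (lt_of_le_of_ne le_sup_left fun h => huz ?_)
    have h1 : (⟨u, hu⟩ : P) ∈ MulAction.stabilizer P z := by
      rw [h]; exact mem_sup_right (mem_zpowers _)
    exact mem_stabilizer_iff.1 h1
  obtain ⟨q, hq, w', hw', hqw⟩ :=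
    mem_sup_of_normal_left.1 (htop ▸ mem_top (⟨v, hv⟩ : P) :
      (⟨v, hv⟩ : P) ∈ MulAction.stabilizer P z ⊔ zpowers (⟨u, hu⟩ : P))
  obtain ⟨j, rfl⟩ := hw'
  refine ⟨j, ?_⟩
  rintro _ ⟨s, rfl⟩
  have hv' : v = (q : G) * u ^ j := (congrArg Subtype.val hqw).symm
  show v • ((s : G) • z) = u ^ j • ((s : G) • z)
  rw [hv', ← mul_smul, mul_assoc, C.comm q.2 (P.mul_mem (P.zpow_mem hu j) s.2), mul_smul,
    show (q : G) • z = z from mem_stabilizer_iff.1 hq, mul_smul]

section Normalizer

variable (C : Ctx G x p P) {y : G} (hy : y ∈ normalizer (P : Set G))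
include hy

omit [Fintype α] [DecidableEq α] in
theorem conj_mem {u : G} (hu : u ∈ P) : y * u * y⁻¹ ∈ P := (mem_normalizer_iff.1 hy u).1 hu

omit [Fintype α] [DecidableEq α] in
theorem conj_mem' {u : G} (hu : u ∈ P) : y⁻¹ * u * y ∈ P := by
  simpa using (mem_normalizer_iff.1 (inv_mem hy) u).1 hu

omit [Fintype α] [DecidableEq α] in
theorem smul_mem_orbit {z w : α} (hw : w ∈ MulAction.orbit P z) :
    y • w ∈ MulAction.orbit P (y • z) := by
  obtain ⟨s, rfl⟩ := hw
  refine ⟨⟨_, conj_mem hy s.2⟩, ?_⟩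
  show (y * (s : G) * y⁻¹) • (y • z) = y • ((s : G) • z)
  rw [← mul_smul, ← mul_smul, inv_mul_cancel_right]

include C in
theorem smul_mem_range {z : α} (hz : z ∈ Set.range x) : y • z ∈ Set.range x := by
  rw [← C.fix] at hz ⊢
  intro u hu
  have h1 := hz _ (conj_mem' hy hu)
  rw [mul_smul, mul_smul, inv_smul_eq_iff] at h1
  exact h1

include C in
theorem smul_notMem_range {z : α} (hz : z ∉ Set.range x) : y • z ∉ Set.range x := fun h => hz (by
  simpa using smul_mem_range C (inv_mem hy) h)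

end Normalizer

/-- The action of the normaliser on the fixed points. -/
theorem Ctx.exists_rho (C : Ctx G x p P) :
    ∃ ρ : normalizer (P : Set G) →* Equiv.Perm (Fin r), Function.Surjective ρ ∧
      ∀ y i, x (ρ y i) = (y : G) • x i := by
  have h : ∀ (y : normalizer (P : Set G)) (i : Fin r), ∃ j, x j = (y : G) • x i := fun y i =>
    smul_mem_range C y.2 ⟨i, rfl⟩
  choose f hf using h
  have hmul : ∀ y y' i, f (y * y') i = f y (f y' i) := fun y y' i => x.injective (by
    rw [hf, hf, hf, Subgroup.coe_mul, mul_smul])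
  have hone : ∀ i, f 1 i = i := fun i => x.injective (by rw [hf, Subgroup.coe_one, one_smul])
  let ρ : normalizer (P : Set G) →* Equiv.Perm (Fin r) :=
    { toFun := fun y => ⟨f y, f y⁻¹, fun i => by rw [← hmul, inv_mul_cancel, hone],
        fun i => by rw [← hmul, mul_inv_cancel, hone]⟩
      map_one' := Equiv.ext hone
      map_mul' := fun y y' => Equiv.ext (hmul y y') }
  refine ⟨ρ, fun σ => ?_, hf⟩
  obtain ⟨y, hy, hyx⟩ := C.induce σ
  exact ⟨⟨y, hy⟩, Equiv.ext fun i => x.injective ((hf _ i).trans (hyx i))⟩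

/-- The orbits of length `p`. -/
abbrev Orb (x : Fin r ↪ α) (P : Subgroup G) : Type _ :=
  {S : Set α // ∃ z, z ∉ Set.range x ∧ S = MulAction.orbit P z}

theorem Ctx.card_orb [hp : Fact p.Prime] (C : Ctx G x p P) (hn : Fintype.card α = k * p + r) :
    Nat.card (Orb x P) = k := by
  classical
  haveI := Fintype.ofFinite (Orb x P)
  let f : {z : α // z ∉ Set.range x} → Orb x P := fun z => ⟨MulAction.orbit P z.1, z.1, z.2, rfl⟩
  have h1 : Nat.card {z : α // z ∉ Set.range x} = Nat.card (Orb x P) * p := by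
    rw [Nat.card_congr (Equiv.sigmaFiberEquiv f).symm, Nat.card_sigma]
    have h2 : ∀ S, Nat.card {z // f z = S} = p := by
      rintro ⟨S, z, hz, rfl⟩
      rw [← C.orbit z hz, ← Nat.card_coe_set_eq]
      refine Nat.card_congr
        { toFun := fun w => ⟨w.1.1, MulAction.orbit_eq_iff.1 (congrArg Subtype.val w.2)⟩
          invFun := fun w => ⟨⟨w.1, ?_⟩, Subtype.ext (MulAction.orbit_eq_iff.2 w.2)⟩
          left_inv := fun _ => rfl
          right_inv := fun _ => rfl }
      obtain ⟨s, hs⟩ := w.2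
      rintro hw
      apply hz
      have h3 := (C.fix _).2 hw _ (P.inv_mem s.2)
      have h4 : ((s : G)⁻¹) • w.1 = z := by rw [← hs]; exact inv_smul_smul (s : G) z
      rw [← h4, h3]
      exact hw
    simp only [h2, Finset.sum_const, Finset.card_univ, smul_eq_mul, Nat.card_eq_fintype_card]
  have h2 : ((Set.range x)ᶜ).ncard = k * p := by
    have h3 := Set.ncard_add_ncard_compl (Set.range x)
    rw [Set.ncard_range_of_injective x.injective, Nat.card_eq_fintype_card, Nat.card_eq_fintype_card,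
      Fintype.card_fin, hn] at h3
    omega
  rw [← Nat.card_coe_set_eq] at h2
  have h4 : Nat.card {z : α // z ∉ Set.range x} = k * p := h2
  exact Nat.eq_of_mul_eq_mul_right hp.out.pos (h1.symm.trans h4)

theorem Ctx.exists_psi (C : Ctx G x p P) :
    ∃ ψ : normalizer (P : Set G) →* Equiv.Perm (Orb x P),
      ∀ (y : normalizer (P : Set G)) (S : Orb x P) (w : α), w ∈ S.1 → (y : G) • w ∈ (ψ y S).1 := by
  have hmap : ∀ (y : normalizer (P : Set G)) (S : Orb x P),
      ∃ z, z ∉ Set.range x ∧ (fun w => (y : G) • w) '' S.1 = MulAction.orbit P z := by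
    rintro y ⟨S, z, hz, rfl⟩
    refine ⟨(y : G) • z, smul_notMem_range C y.2 hz, Set.Subset.antisymm ?_ ?_⟩
    · rintro _ ⟨w, hw, rfl⟩
      exact smul_mem_orbit y.2 hw
    · intro w hw
      refine ⟨((y : G))⁻¹ • w, ?_, smul_inv_smul _ _⟩
      have h1 := smul_mem_orbit (inv_mem y.2) hw
      rwa [inv_smul_smul] at h1
  let f : normalizer (P : Set G) → Orb x P → Orb x P := fun y S => ⟨_, hmap y S⟩
  have hmul : ∀ y y' S, f (y * y') S = f y (f y' S) := fun y y' S => Subtype.ext (by
    show (fun w => ((y * y' : normalizer (P : Set G)) : G) • w) '' S.1 =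
      (fun w => (y : G) • w) '' ((fun w => (y' : G) • w) '' S.1)
    rw [Set.image_image]
    simp only [Subgroup.coe_mul, mul_smul])
  have hone : ∀ S, f 1 S = S := fun S => Subtype.ext (by
    show (fun w => ((1 : normalizer (P : Set G)) : G) • w) '' S.1 = S.1
    simp)
  exact ⟨{ toFun := fun y => ⟨f y, f y⁻¹, fun i => by rw [← hmul, inv_mul_cancel, hone],
            fun i => by rw [← hmul, mul_inv_cancel, hone]⟩
           map_one' := Equiv.ext hone
           map_mul' := fun y y' => Equiv.ext (hmul y y') }, fun y S w hw => ⟨w, hw, rfl⟩⟩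

end CfsgLib.Manning82
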