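import Mathlib
import Cfsg.Agent.S0713

/-!
# Elements of small support in multiply transitive groups
-/

set_option autoImplicit false

namespace CfsgLib.SmallSupport82

open Equiv MulAction

/-- A subset of the symmetric group containing some three-cycle, in explicit form. -/
def Has3 {β : Type*} [DecidableEq β] (W : Set (Perm β)) : Prop :=
  ∃ a b c : β, a ≠ b ∧ a ≠ c ∧ b ≠ c ∧ swap a b * swap a c ∈ W

/-- A subset of the symmetric group containing some double transposition, in explicit form. -/
def HasD {β : Type*} [DecidableEq β] (W : Set (Perm β)) : Prop :=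
  ∃ a b c d : β, a ≠ b ∧ a ≠ c ∧ a ≠ d ∧ b ≠ c ∧ b ≠ d ∧ c ≠ d ∧ swap a b * swap c d ∈ W

section Sym

variable {β : Type*} [DecidableEq β] (W : Subgroup (Perm β)) [W.Normal]

theorem comm_swap_mem {t : Perm β} (ht : t ∈ W) (i l : β) :
    swap (t i) (t l) * swap i l ∈ W := by
  rw [swap_apply_apply, show t * swap i l * t⁻¹ * swap i l =
    t * (swap i l * t⁻¹ * (swap i l)⁻¹) by rw [swap_inv]; simp [mul_assoc]]
  exact W.mul_mem ht (Subgroup.Normal.conj_mem inferInstance _ (W.inv_mem ht) _)

theorem has3_of_long {t : Perm β} (ht : t ∈ W) {i : β} (h1 : t i ≠ i) (h2 : t (t i) ≠ i) :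
    Has3 (W : Set (Perm β)) := by
  refine ⟨t i, t (t i), i, fun h => h1 (t.injective h.symm), h1, h2, ?_⟩
  have h := comm_swap_mem W ht i (t i)
  rwa [swap_comm i (t i)] at h

theorem has3_or_derangeInvolution {t : Perm β} (ht : t ∈ W) (ht1 : t ≠ 1) :
    Has3 (W : Set (Perm β)) ∨ ∀ i, t i ≠ i ∧ t (t i) = i := by
  by_contra hc
  push Not at hc
  obtain ⟨hc1, l, hl⟩ := hc
  obtain ⟨i, hi⟩ : ∃ i, t i ≠ i := by
    by_contra hf
    push Not at hf
    exact ht1 (Equiv.ext hf)
  by_cases hlf : t l = l
  · by_cases hii : t (t i) = i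
    · refine hc1 ⟨l, t i, i, fun h => hi ?_, fun h => hi (h ▸ hlf), hi, ?_⟩
      · have h3 : t l = t (t i) := congrArg t h
        rw [hii, hlf] at h3
        rw [← h3]; exact hlf.trans h3 ▸ hlf
      · have h := comm_swap_mem W ht i l
        rw [hlf, swap_comm (t i) l, swap_comm i l] at h
        exact h
    · exact hc1 (has3_of_long W ht hi hii)
  · exact hc1 (has3_of_long W ht hlf (hl hlf))

theorem has3_or_hasD {t : Perm β} (ht : t ∈ W) (ht1 : t ≠ 1) {i : β} (l : β) (hl : l ≠ i)
    (hl' : l ≠ t i) : Has3 (W : Set (Perm β)) ∨ HasD (W : Set (Perm β)) := by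
  rcases has3_or_derangeInvolution W ht ht1 with h | h
  · exact Or.inl h
  refine Or.inr ⟨t i, t l, i, l, fun e => hl (t.injective e).symm, (h i).1, fun e => hl' e.symm,
    fun e => hl' ?_, (h l).1, hl.symm, comm_swap_mem W ht i l⟩
  rw [← e]
  exact (h l).2.symm

theorem has3_of_five [Fintype β] (h5 : 5 ≤ Fintype.card β) (h : HasD (W : Set (Perm β))) :
    Has3 (W : Set (Perm β)) := by
  obtain ⟨a, b, c, d, hab, hac, had, hbc, hbd, hcd, hm⟩ := h
  obtain ⟨e, he⟩ := Finset.exists_mem_notMem_of_card_lt_card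
    (s := ({a, b, c, d} : Finset β)) (t := Finset.univ) (by
      refine lt_of_le_of_lt Finset.card_le_four ?_
      rw [Finset.card_univ]; omega)
  simp only [Finset.mem_insert, Finset.mem_singleton, not_or] at he
  obtain ⟨-, hea, heb, hec, hed⟩ := he
  have h1 : swap d e * (swap a b * swap c d) * (swap d e)⁻¹ = swap a b * swap c e := by
    rw [show swap d e * (swap a b * swap c d) * (swap d e)⁻¹ =
      (swap d e * swap a b * (swap d e)⁻¹) * (swap d e * swap c d * (swap d e)⁻¹) by
        simp [mul_assoc], ← swap_apply_apply, ← swap_apply_apply,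
      swap_apply_of_ne_of_ne had (Ne.symm hea), swap_apply_of_ne_of_ne hbd (Ne.symm heb),
      swap_apply_of_ne_of_ne hcd (Ne.symm hec), swap_apply_left]
  refine ⟨c, d, e, hcd, (Ne.symm hec), (Ne.symm hed), ?_⟩
  have h2 := W.mul_mem (W.inv_mem hm) (Subgroup.Normal.conj_mem inferInstance _ hm (swap d e))
  rw [h1] at h2
  simpa [mul_assoc] using h2

end Sym

/-- Facts about the symmetric group on three letters. -/
theorem perm_three :
    (∀ t : Perm (Fin 3), t * t = 1 → t ≠ 1 →
      (t * (finRotate 3 * t * (finRotate 3)⁻¹) * t⁻¹ * (finRotate 3 * t * (finRotate 3)⁻¹)⁻¹) ≠ 1 ∧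
      (t * (finRotate 3 * t * (finRotate 3)⁻¹) * t⁻¹ * (finRotate 3 * t * (finRotate 3)⁻¹)⁻¹) ^ 3 = 1) ∧
    (∀ t : Perm (Fin 3), (t * t = 1 → t = 1) →
      t ∈ ({1, finRotate 3, finRotate 3 * finRotate 3} : Finset (Perm (Fin 3)))) ∧
    ∀ t : Perm (Fin 3), (t * t = 1 → t = 1) → t ≠ 1 →
      (swap 0 1 * t * (swap 0 1)⁻¹ * t⁻¹) ≠ 1 ∧ (swap 0 1 * t * (swap 0 1)⁻¹ * t⁻¹) ^ 3 = 1 := by
  exact ⟨by decide +kernel, by decide +kernel, by decide +kernel⟩

/-- Facts about the symmetric group on four letters. -/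
theorem perm_four :
    (∀ t : Perm (Fin 4), (∀ i, t i ≠ i ∧ t (t i) = i) →
      t ∈ ({swap 0 1 * swap 2 3, swap 0 2 * swap 1 3, swap 0 3 * swap 1 2} : Finset (Perm (Fin 4)))) ∧
    (∀ t ∈ ({swap 0 1 * swap 2 3, swap 0 2 * swap 1 3, swap 0 3 * swap 1 2} : Finset (Perm (Fin 4))),
      ∃ s ∈ ({swap 0 1, swap 0 2} : Finset (Perm (Fin 4))),
        s * t * s⁻¹ * t⁻¹ ≠ 1 ∧ (s * t * s⁻¹ * t⁻¹) * (s * t * s⁻¹ * t⁻¹) = 1) ∧
    ∀ a b : Perm (Fin 4), a = swap 0 1 * swap 0 2 → b = swap 2 3 * a * (swap 2 3)⁻¹ →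
      a * b * a⁻¹ * b⁻¹ ≠ 1 ∧ (a * b * a⁻¹ * b⁻¹) * (a * b * a⁻¹ * b⁻¹) = 1 := by
  refine ⟨by decide +kernel, by decide +kernel, ?_⟩
  rintro a b rfl rfl
  decide +kernel

theorem viaEmbedding_swap {γ β : Type*} [DecidableEq γ] [DecidableEq β] (e : γ ↪ β) (a b : γ) :
    Perm.viaEmbedding (swap a b) e = swap (e a) (e b) := by
  refine Equiv.ext fun z => ?_
  by_cases hz : z ∈ Set.range e
  · obtain ⟨i, rfl⟩ := hz
    rw [Perm.viaEmbedding_apply, e.injective.swap_apply]
  · rw [Perm.viaEmbedding_apply_of_notMem _ _ _ hz, swap_apply_of_ne_of_ne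
      (fun h => hz ⟨a, h.symm⟩) (fun h => hz ⟨b, h.symm⟩)]

section Group

variable {α : Type*} [Fintype α] [DecidableEq α] (G : Subgroup (Perm α))

theorem alt_le_of_has3 (h2 : IsMultiplyPretransitive G α 2) (h : Has3 (G : Set (Perm α))) :
    alternatingGroup α ≤ G := by
  obtain ⟨a, b, c, hab, hac, hbc, hm⟩ := h
  exact Perm.alternatingGroup_le_of_isPreprimitive_of_isThreeCycle_mem
    (isPreprimitive_of_is_two_pretransitive h2)
    (Perm.isThreeCycle_swap_mul_swap_same hab hac hbc) hm

theorem alt_le_of_hasD (h4 : IsMultiplyPretransitive G α 4) (hn : 5 ≤ Fintype.card α)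
    (h : HasD (G : Set (Perm α))) : alternatingGroup α ≤ G := by
  have hle : ∀ m ≤ 4, IsMultiplyPretransitive G α m := fun m hm => by
    refine isMultiplyPretransitive_of_le' (n := 4) hm ?_
    simp; omega
  obtain ⟨a, b, c, d, hab, hac, had, hbc, hbd, hcd, hm⟩ := h
  obtain ⟨e, he⟩ := Finset.exists_mem_notMem_of_card_lt_card
    (s := ({a, b, c, d} : Finset α)) (t := Finset.univ) (by
      refine lt_of_le_of_lt Finset.card_le_four ?_
      rw [Finset.card_univ]; omega)
  simp only [Finset.mem_insert, Finset.mem_singleton, not_or] at he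
  obtain ⟨-, hea, heb, hec, hed⟩ := he
  have := hab.symm; have := hac.symm; have := had.symm; have := hbc.symm; have := hbd.symm
  have := hcd.symm; have := Ne.symm hea; have := Ne.symm heb; have := Ne.symm hec
  let x : Fin 4 ↪ α := ⟨![a, b, c, d], by
    intro i j hij
    fin_cases i <;> fin_cases j <;> simp_all⟩
  let y : Fin 4 ↪ α := ⟨![a, b, c, e], by
    intro i j hij
    fin_cases i <;> fin_cases j <;> simp_all⟩
  obtain ⟨g, hg⟩ := exists_smul_eq G x y
  have hg' : ∀ i, (g : Perm α) (x i) = y i := fun i => congrArg (fun z : Fin 4 ↪ α => z i) hg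
  have ga : (g : Perm α) a = a := hg' 0
  have gb : (g : Perm α) b = b := hg' 1
  have gc : (g : Perm α) c = c := hg' 2
  have gd : (g : Perm α) d = e := hg' 3
  have h1 : (g : Perm α) * (swap a b * swap c d) * (g : Perm α)⁻¹ = swap a b * swap c e := by
    rw [show (g : Perm α) * (swap a b * swap c d) * (g : Perm α)⁻¹ =
      ((g : Perm α) * swap a b * (g : Perm α)⁻¹) * ((g : Perm α) * swap c d * (g : Perm α)⁻¹) by
        simp [mul_assoc], ← swap_apply_apply, ← swap_apply_apply, ga, gb, gc, gd]
  refine alt_le_of_has3 G (hle 2 (by omega)) ⟨c, d, e, hcd, (Ne.symm hec), (Ne.symm hed), ?_⟩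
  have h2 := G.mul_mem (G.inv_mem hm) (G.mul_mem (G.mul_mem g.2 hm) (G.inv_mem g.2))
  rw [h1] at h2
  simpa [mul_assoc] using h2

theorem alt_le_of_five (h4 : IsMultiplyPretransitive G α 4) (hn : 6 ≤ Fintype.card α)
    {g : Perm α} (hg : g ∈ G) (hg1 : g ≠ 1) (hs : g.support.card ≤ 5)
    (h58 : g.support.card = 5 → 8 ≤ Fintype.card α) : alternatingGroup α ≤ G := by
  have h2 : IsMultiplyPretransitive G α 2 := by
    refine isMultiplyPretransitive_of_le' (n := 4) (by norm_num) ?_
    simp; omega
  obtain ⟨q, hq, hqd⟩ := Nat.exists_prime_and_dvd (n := orderOf g)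
    (fun h => hg1 (orderOf_eq_one_iff.1 h))
  haveI := Fact.mk hq
  obtain ⟨g', hg', hord⟩ : ∃ g', g' ∈ Subgroup.zpowers g ∧ orderOf g' = q :=
    ⟨g ^ (orderOf g / q), Subgroup.npow_mem_zpowers g _, orderOf_pow_orderOf_div (orderOf_pos g).ne' hqd⟩
  have hgG : g' ∈ G := (Subgroup.zpowers_le.2 hg) hg'
  have hle : g'.support.card ≤ g.support.card := by
    refine Finset.card_le_card ?_
    obtain ⟨k, rfl⟩ := hg'
    exact Perm.support_zpow_le g k
  have h5 : g'.support.card ≤ 5 := hle.trans hs
  have hg'1 : g' ≠ 1 := fun h => hq.ne_one (by rw [← hord, h, orderOf_one])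
  have h0 : g'.support.card ≠ 0 := fun h => hg'1 (Perm.card_support_eq_zero.1 h)
  have h1 : g'.support.card ≠ 1 := Perm.card_support_ne_one g'
  by_cases hlt : g'.support.card < 2 * q
  · have hc : g'.IsCycle := Perm.isCycle_of_prime_order (by rwa [hord]) (by rwa [hord])
    have hcard : g'.support.card = q := by rw [← hord, hc.orderOf]
    refine Cfsg.Agent.S0713.result G (isPreprimitive_of_is_two_pretransitive h2) hq (by omega) ?_
      hc hcard hgG
    rcases Nat.lt_or_ge g'.support.card 4 with h | h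
    · omega
    · rcases Nat.lt_or_ge g'.support.card 5 with h' | h'
      · exfalso
        have : q = 4 := by omega
        rw [this] at hq
        norm_num at hq
      · have := h58 (by omega)
        omega
  · have hq2 : q = 2 := by
      have := hq.two_le
      omega
    have hcard : g'.support.card = 4 ∨ g'.support.card = 5 := by omega
    have hsq : g' * g' = 1 := by rw [← pow_two, ← hq2, ← hord, pow_orderOf_eq_one]
    have hinv : ∀ z, g' (g' z) = z := fun z => by
      rw [← Perm.mul_apply, hsq]; rfl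
    obtain ⟨a, ha⟩ := Finset.card_pos.1 (Nat.pos_of_ne_zero h0)
    obtain ⟨c, hc⟩ := Finset.exists_mem_notMem_of_card_lt_card
      (s := ({a, g' a} : Finset α)) (t := g'.support)
      (lt_of_le_of_lt Finset.card_le_two (by omega))
    simp only [Finset.mem_insert, Finset.mem_singleton, not_or] at hc
    obtain ⟨hc, hca, hcb⟩ := hc
    have hab : g' a ≠ a := Perm.mem_support.1 ha
    have hcd : g' c ≠ c := Perm.mem_support.1 hc
    have hsupp : g'.support = {a, g' a, c, g' c} := by
      refine (Finset.eq_of_subset_of_card_le ?_ ?_).symm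
      · intro z hz
        simp only [Finset.mem_insert, Finset.mem_singleton] at hz
        rcases hz with rfl | rfl | rfl | rfl
        · exact ha
        · exact Perm.apply_mem_support.2 ha
        · exact hc
        · exact Perm.apply_mem_support.2 hc
      · have h4c : ({a, g' a, c, g' c} : Finset α).card = 4 := by
          have n1 : a ≠ g' c := fun h => hcb (by rw [h, hinv])
          have n2 : g' a ≠ g' c := fun h => hca (g'.injective h).symm
          rw [Finset.card_insert_of_notMem (by simp [hab.symm, Ne.symm hca, n1]),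
            Finset.card_insert_of_notMem (by simp [Ne.symm hcb, n2]), Finset.card_pair hcd.symm]
        rcases hcard with h | h
        · rw [h, h4c]
        · exfalso
          have hev : Even g'.support.card := by
            rw [← Perm.sum_cycleType]
            have hrep : g'.cycleType = Multiset.replicate (Multiset.card g'.cycleType) 2 :=
              Multiset.eq_replicate.2 ⟨rfl, fun m hm => by
                have h2m := Perm.two_le_of_mem_cycleType hm
                have hdv : m ∣ 2 := hq2 ▸ hord ▸ Perm.dvd_of_mem_cycleType hm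
                have := Nat.le_of_dvd two_pos hdv
                omega⟩
            rw [hrep, Multiset.sum_replicate]
            exact ⟨Multiset.card g'.cycleType, by simp; ring⟩
          rw [h] at hev
          exact absurd hev (by decide)
    refine alt_le_of_hasD G h4 (by omega) ⟨a, g' a, c, g' c, hab.symm, Ne.symm hca,
      fun h => hcb (by rw [h, hinv]), Ne.symm hcb, fun h => hca (g'.injective h).symm, hcd.symm, ?_⟩
    have heq : swap a (g' a) * swap c (g' c) = g' := by
      refine Equiv.ext fun z => ?_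
      rw [Perm.mul_apply]
      by_cases hz : z ∈ g'.support
      · rw [hsupp] at hz
        simp only [Finset.mem_insert, Finset.mem_singleton] at hz
        have n1 : a ≠ g' c := fun h => hcb (by rw [h, hinv])
        have n2 : g' a ≠ g' c := fun h => hca (g'.injective h).symm
        rcases hz with rfl | rfl | rfl | rfl
        · rw [swap_apply_of_ne_of_ne (Ne.symm hca) n1, swap_apply_left]
        · rw [swap_apply_of_ne_of_ne (Ne.symm hcb) n2, swap_apply_right, hinv]
        · rw [swap_apply_left, swap_apply_of_ne_of_ne n1.symm n2.symm]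
        · rw [swap_apply_right, swap_apply_of_ne_of_ne hca hcb, hinv]
      · have hz' := Perm.notMem_support.1 hz
        rw [hsupp] at hz
        simp only [Finset.mem_insert, Finset.mem_singleton, not_or] at hz
        rw [swap_apply_of_ne_of_ne hz.2.2.1 hz.2.2.2, swap_apply_of_ne_of_ne hz.1 hz.2.1, hz']
    show swap a (g' a) * swap c (g' c) ∈ G
    rw [heq]
    exact hgG

end Group

end CfsgLib.SmallSupport82
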