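import Mathlib
import Cfsg.Agent.Lib.H82.SmallSupport
import Cfsg.Agent.Lib.H82.ManningSetup
import Cfsg.Agent.S0415

/-!
# Manning's bound on the transitivity of groups of degree `kp + r`
-/

set_option autoImplicit false

namespace CfsgLib.Manning82

open MulAction Subgroup Equiv
open CfsgLib.SmallSupport82

variable {α : Type*} [Fintype α] [DecidableEq α] {G : Subgroup (Equiv.Perm α)} {r p k : ℕ}
  {x : Fin r ↪ α} {P : Subgroup G}

/-- `a` acts on `P`, restricted to the orbit of `z`, as the power `m`. -/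
def Mult (P : Subgroup G) (a : G) (z : α) (m : ℤ) : Prop :=
  ∀ u ∈ P, ∀ w ∈ MulAction.orbit P z, (a * u * a⁻¹) • w = u ^ m • w

/-- `a` maps every orbit outside the fixed points onto itself. -/
def Keeps (x : Fin r ↪ α) (P : Subgroup G) (a : G) : Prop :=
  ∀ z, z ∉ Set.range x → a • z ∈ MulAction.orbit P z ∧ a⁻¹ • z ∈ MulAction.orbit P z

variable [hp : Fact p.Prime]

omit hp in
theorem orbit_notMem (C : Ctx G x p P) {z w : α} (hz : z ∉ Set.range x)
    (hw : w ∈ MulAction.orbit P z) : w ∉ Set.range x := by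
  intro h
  obtain ⟨s, hs⟩ := hw
  apply hz
  have h1 := (C.fix w).2 h _ (P.inv_mem s.2)
  rw [← hs] at h1
  have h2 : ((s : G))⁻¹ • ((s : G) • z) = (s : G) • z := h1
  rw [inv_smul_smul] at h2
  rw [h2]
  exact (show (s : G) • z = w from hs) ▸ h

omit [Fintype α] [DecidableEq α] hp in
theorem smul_mem_orbit_self {z w : α} (hw : w ∈ MulAction.orbit P z) {u : G} (hu : u ∈ P) :
    u • w ∈ MulAction.orbit P z := by
  obtain ⟨s, rfl⟩ := hw
  exact ⟨⟨u, hu⟩ * s, mul_smul _ _ _⟩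

theorem zpow_congr (C : Ctx G x p P) {w : α} {g h : G} (hg : g ∈ P) (hh : h ∈ P)
    (he : g • w = h • w) (n : ℤ) : g ^ n • w = h ^ n • w := by
  have h1 : g⁻¹ * h ∈ MulAction.stabilizer G w := by
    rw [mem_stabilizer_iff, mul_smul, ← he, inv_smul_smul]
  have h2 := mem_stabilizer_iff.1 ((MulAction.stabilizer G w).zpow_mem h1 n)
  have h3 : h ^ n = g ^ n * (g⁻¹ * h) ^ n := by
    rw [← (show Commute g (g⁻¹ * h) from C.comm hg (P.mul_mem (P.inv_mem hg) hh)).mul_zpow,
      mul_inv_cancel_left]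
  rw [h3, mul_smul, h2]

theorem mult_of (C : Ctx G x p P) {a : G} (ha : a ∈ normalizer (P : Set G)) (hk : Keeps x P a)
    {z : α} {u0 : G} (hu0 : u0 ∈ P) (hz : u0 • z ≠ z) (m : ℤ)
    (hm : ∀ w ∈ MulAction.orbit P z, (a * u0 * a⁻¹) • w = u0 ^ m • w) : Mult P a z m := by
  have hzr : z ∉ Set.range x := fun h => hz ((C.fix z).2 h u0 hu0)
  intro u hu w hw
  obtain ⟨j, hj⟩ := C.agree hu0 hu hz
  have hw' : a⁻¹ • w ∈ MulAction.orbit P z := by
    have h1 := (hk w (orbit_notMem C hzr hw)).2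
    rwa [MulAction.orbit_eq_iff.2 hw] at h1
  calc (a * u * a⁻¹) • w = a • u • a⁻¹ • w := by rw [mul_smul, mul_smul]
    _ = a • u0 ^ j • a⁻¹ • w := by rw [hj _ hw']
    _ = (a * u0 * a⁻¹) ^ j • w := by rw [conj_zpow, mul_smul, mul_smul]
    _ = (u0 ^ m) ^ j • w := zpow_congr C (conj_mem ha hu0) (P.zpow_mem hu0 m) (hm w hw) j
    _ = (u0 ^ j) ^ m • w := by rw [← zpow_mul, ← zpow_mul, mul_comm]
    _ = u ^ m • w := (zpow_congr C hu (P.zpow_mem hu0 j) (hj w hw) m).symm

theorem exists_mult (C : Ctx G x p P) {a : G} (ha : a ∈ normalizer (P : Set G))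
    (hk : Keeps x P a) {z : α} (hz : z ∉ Set.range x) : ∃ m, Mult P a z m := by
  obtain ⟨u0, hu0, hmov⟩ : ∃ u ∈ P, u • z ≠ z := by
    have h : ¬ ∀ u ∈ P, u • z = z := fun h => hz ((C.fix z).1 h)
    push Not at h
    exact h
  obtain ⟨m, hm⟩ := C.agree hu0 (conj_mem ha hu0) hmov
  exact ⟨m, mult_of C ha hk hu0 hmov m hm⟩

omit hp in
/-- A commutator with equal multipliers on the two orbits involved is a translation. -/
theorem comm_translation (C : Ctx G x p P) {s a : G} (hs : s ∈ normalizer (P : Set G))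
    (ha : a ∈ normalizer (P : Set G)) (hka : Keeps x P (s * a * s⁻¹ * a⁻¹))
    {z : α} (hz : z ∉ Set.range x) {m : ℤ} (h1 : Mult P a z m) (h2 : Mult P a (s⁻¹ • z) m)
    (hpow : ∀ u ∈ P, u ^ p = 1) : (s * a * s⁻¹ * a⁻¹) ^ p • z = z := by
  obtain ⟨t, ht⟩ : ∃ t, t = s * a * s⁻¹ * a⁻¹ := ⟨_, rfl⟩
  rw [← ht] at hka ⊢
  have hc : ∀ u ∈ P, ∀ w ∈ MulAction.orbit P z, (t * u * t⁻¹) • w = u • w := by
    intro u hu w hw
    obtain ⟨u', hu'⟩ : ∃ u', u' = a⁻¹ * u * a := ⟨_, rfl⟩
    have hu'P : u' ∈ P := hu' ▸ conj_mem' ha hu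
    obtain ⟨u'', hu''⟩ : ∃ u'', u'' = s⁻¹ * u' * s := ⟨_, rfl⟩
    have hu''P : u'' ∈ P := hu'' ▸ conj_mem' hs hu'P
    have e1 := h1 u' hu'P w hw
    rw [show a * u' * a⁻¹ = u by rw [hu']; group] at e1
    have e2 := h2 u'' hu''P (s⁻¹ • w) (smul_mem_orbit (inv_mem hs) hw)
    rw [e1, show t * u * t⁻¹ = s * (a * u'' * a⁻¹) * s⁻¹ by rw [ht, hu'', hu']; group,
      mul_smul, mul_smul, e2, ← mul_smul, ← mul_smul]
    congr 1
    rw [hu'', show s⁻¹ * u' * s = s⁻¹ * u' * (s⁻¹)⁻¹ by rw [inv_inv], conj_zpow]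
    group
  obtain ⟨v, hv⟩ := (hka z hz).1
  have hv' : t • z = (v : G) • z := hv.symm
  have hi : ∀ i : ℕ, t ^ i • z = (v : G) ^ i • z := by
    intro i
    induction i with
    | zero => simp
    | succ i ih =>
      have hvi : (v : G) ^ i ∈ P := P.pow_mem v.2 i
      have h3 := hc _ hvi (t • z) (hka z hz).1
      rw [mul_smul, inv_smul_smul, mul_smul] at h3
      rw [pow_succ', mul_smul, ih, h3, hv', ← mul_smul, ← pow_succ]
  rw [hi, hpow _ v.2, one_smul]

omit hp in
theorem exists_keeps (C : Ctx G x p P)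
    {ψ : normalizer (P : Set G) →* Equiv.Perm (Orb x P)}
    (hψ : ∀ (y : normalizer (P : Set G)) (S : Orb x P) (w : α), w ∈ S.1 → (y : G) • w ∈ (ψ y S).1)
    {a : normalizer (P : Set G)} (ha : a ∈ ψ.ker) : Keeps x P (a : G) := by
  intro z hz
  have key : ∀ b ∈ ψ.ker, (b : G) • z ∈ MulAction.orbit P z := by
    intro b hb
    have h1 := hψ b ⟨_, z, hz, rfl⟩ z (MulAction.mem_orbit_self z)
    rw [MonoidHom.mem_ker.1 hb] at h1
    exact h1
  exact ⟨key a ha, by simpa using key a⁻¹ (inv_mem ha)⟩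

/-- No element of `P` is supported on a single orbit. -/
def NoCycle (P : Subgroup G) : Prop :=
  ∀ u ∈ P, u ≠ 1 → ∀ z : α, ∃ w, u • w ≠ w ∧ w ∉ MulAction.orbit P z

theorem alt_le_of_not_noCycle (C : Ctx G x p P) (h2 : IsMultiplyPretransitive G α 2)
    (hn : p + 3 ≤ Fintype.card α) (h : ¬ NoCycle P) : alternatingGroup α ≤ G := by
  simp only [NoCycle, not_forall, not_exists, not_and, not_not] at h
  obtain ⟨u, hu, hu1, z, hz⟩ := h
  have hord : orderOf (u : Equiv.Perm α) = p := by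
    rw [Subgroup.orderOf_coe]
    exact orderOf_eq_prime (C.pow_eq_one hu) hu1
  have hzr : z ∉ Set.range x := by
    intro h
    obtain ⟨w, hw⟩ : ∃ w, u • w ≠ w := by
      by_contra hc
      push Not at hc
      exact hu1 (ext_smul fun w => by rw [hc, one_smul])
    obtain ⟨s, hs⟩ := hz w hw
    have h3 : (s : G) • z = z := (C.fix z).2 h _ s.2
    exact hw (by rw [← hs]; show u • ((s : G) • z) = (s : G) • z; rw [h3]; exact (C.fix z).2 h u hu)
  have hle : (u : Equiv.Perm α).support.card ≤ p := by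
    rw [← Set.ncard_coe_finset, ← C.orbit z hzr]
    exact Set.ncard_le_ncard (fun w hw => hz w (Equiv.Perm.mem_support.1 hw)) (Set.toFinite _)
  have hp2 := hp.out.two_le
  have hc : (u : Equiv.Perm α).IsCycle :=
    Equiv.Perm.isCycle_of_prime_order (by rw [hord]; exact hp.out) (by rw [hord]; omega)
  exact Cfsg.Agent.S0713.result G (isPreprimitive_of_is_two_pretransitive h2) hp.out (by omega) hn
    hc (by rw [← hc.orderOf, hord]) u.2

/-- With at most three orbits and no cycle in `P`, multipliers are the same on all orbits. -/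
theorem exists_scalar (C : Ctx G x p P) (hn : Fintype.card α = k * p + r) (hk : 1 ≤ k) (hk3 : k ≤ 3)
    (hno : NoCycle P) {ψ : normalizer (P : Set G) →* Equiv.Perm (Orb x P)}
    (hψ : ∀ (y : normalizer (P : Set G)) (S : Orb x P) (w : α), w ∈ S.1 → (y : G) • w ∈ (ψ y S).1)
    (hsurj : Function.Surjective ψ) {a : normalizer (P : Set G)} (ha : a ∈ ψ.ker) :
    ∃ m : ℤ, ∀ z, z ∉ Set.range x → Mult P (a : G) z m := by
  classical
  have hka := exists_keeps C hψ ha
  let M : G → Set α := fun u => {z | u • z ≠ z}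
  obtain ⟨z₀, hz₀⟩ : ∃ z, z ∉ Set.range x := by
    by_contra hc
    push Not at hc
    have h1 : Set.range x = Set.univ := Set.eq_univ_of_forall hc
    have h2 := Set.ncard_range_of_injective x.injective
    rw [h1, Set.ncard_univ, Nat.card_eq_fintype_card, Nat.card_eq_fintype_card, Fintype.card_fin] at h2
    have : 1 ≤ k * p := Nat.mul_pos hk hp.out.pos
    omega
  obtain ⟨w₀, hw₀P, hw₀⟩ : ∃ u ∈ P, u • z₀ ≠ z₀ := by
    have h : ¬ ∀ u ∈ P, u • z₀ = z₀ := fun h => hz₀ ((C.fix _).1 h)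
    push Not at h
    exact h
  obtain ⟨u₀, ⟨hu₀P, hu₀1⟩, hmin⟩ := Set.exists_min_image {u : G | u ∈ P ∧ u ≠ 1}
    (fun u => (M u).ncard) (Set.toFinite _) ⟨w₀, hw₀P, fun h => hw₀ (by rw [h, one_smul])⟩
  have hclosed : ∀ u ∈ P, ∀ z ∈ M u, ∀ w ∈ MulAction.orbit P z, w ∈ M u := by
    rintro u hu z hz _ ⟨s, rfl⟩ h
    apply hz
    have h1 : (u * (s : G)) • z = (s : G) • z := by rw [mul_smul]; exact h
    rw [C.comm hu s.2, mul_smul] at h1
    exact smul_left_cancel _ h1
  have hpow : ∀ u ∈ P, u ≠ 1 → (∀ v ∈ P, v ≠ 1 → (M u).ncard ≤ (M v).ncard) →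
      ∃ m : ℤ, (a : G) * u * (a : G)⁻¹ = u ^ m := by
    intro u hu hu1 hm
    obtain ⟨z, hz⟩ : ∃ z, u • z ≠ z := by
      by_contra hc
      push Not at hc
      exact hu1 (ext_smul fun w => by rw [hc, one_smul])
    have hv : (a : G) * u * (a : G)⁻¹ ∈ P := conj_mem a.2 hu
    obtain ⟨j, hj⟩ := C.agree hu hv hz
    refine ⟨j, ?_⟩
    by_contra hne
    have hd : (a : G) * u * (a : G)⁻¹ * (u ^ j)⁻¹ ≠ 1 := fun h => hne (mul_inv_eq_one.1 h)
    have hdP : (a : G) * u * (a : G)⁻¹ * (u ^ j)⁻¹ ∈ P := P.mul_mem hv (P.inv_mem (P.zpow_mem hu j))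
    have hsub : M ((a : G) * u * (a : G)⁻¹ * (u ^ j)⁻¹) ⊆ M u \ {z} := by
      intro w hw
      refine ⟨?_, ?_⟩
      · by_contra hwu
        have hwu' : u • w = w := by simpa [M] using hwu
        refine hw ?_
        have h1 : (a : G)⁻¹ • w ∉ M u := by
          intro h
          by_cases hr : w ∈ Set.range x
          · exact h ((C.fix _).2 (smul_mem_range C (inv_mem a.2) hr) u hu)
          · have hr' : (a : G)⁻¹ • w ∉ Set.range x := smul_notMem_range C (inv_mem a.2) hr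
            have h2 := (hka _ hr').1
            rw [smul_inv_smul] at h2
            exact hwu (hclosed u hu _ h w h2)
        have h1' : u • (a : G)⁻¹ • w = (a : G)⁻¹ • w := by simpa [M] using h1
        rw [mul_smul,
          show (u ^ j)⁻¹ • w = w from
            mem_stabilizer_iff.1 (inv_mem ((MulAction.stabilizer G w).zpow_mem
              (mem_stabilizer_iff.2 hwu') j)),
          mul_smul, mul_smul, h1', smul_inv_smul]
      · rintro rfl
        refine hw ?_
        have h3 := hj (u ^ (-j) • w) (smul_mem_orbit_self (MulAction.mem_orbit_self w) (P.zpow_mem hu _))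
        rw [mul_smul, ← zpow_neg, h3, ← mul_smul, ← zpow_add, add_neg_cancel, zpow_zero, one_smul]
    have hlt : (M ((a : G) * u * (a : G)⁻¹ * (u ^ j)⁻¹)).ncard < (M u).ncard :=
      lt_of_le_of_lt (Set.ncard_le_ncard hsub (Set.toFinite _))
        (Set.ncard_diff_singleton_lt_of_mem hz (Set.toFinite _))
    exact absurd (hm _ hdP hd) (not_le.2 hlt)
  obtain ⟨m₀, hm₀⟩ := hpow u₀ hu₀P hu₀1 fun v hv hv1 => hmin v ⟨hv, hv1⟩
  have hmult₀ : ∀ z, u₀ • z ≠ z → Mult P (a : G) z m₀ := fun z hz =>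
    mult_of C a.2 hka hu₀P hz m₀ fun w _ => by rw [hm₀]
  refine ⟨m₀, fun z hz => ?_⟩
  obtain ⟨q₀, hq₀⟩ : ∃ q, u₀ • q ≠ q := by
    by_contra hc
    push Not at hc
    exact hu₀1 (ext_smul fun w => by rw [hc, one_smul])
  have hq₀r : q₀ ∉ Set.range x := fun h => hq₀ ((C.fix _).2 h _ hu₀P)
  let S₀ : Orb x P := ⟨_, q₀, hq₀r, rfl⟩
  let S : Orb x P := ⟨_, z, hz, rfl⟩
  obtain ⟨y, hy⟩ := hsurj (Equiv.swap S₀ S)
  obtain ⟨u₁, hu₁⟩ : ∃ u, u = (y : G) * u₀ * (y : G)⁻¹ := ⟨_, rfl⟩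
  have hu₁P : u₁ ∈ P := hu₁ ▸ conj_mem y.2 hu₀P
  have hu₁1 : u₁ ≠ 1 := by
    rw [hu₁]
    exact fun h => hu₀1 (conj_eq_one_iff.1 h)
  have hMy : M u₁ = (fun w => (y : G) • w) '' M u₀ := by
    ext w
    simp only [M, Set.mem_ofPred_eq, Set.mem_image, hu₁, mul_smul]
    constructor
    · intro h
      refine ⟨(y : G)⁻¹ • w, fun h1 => h ?_, smul_inv_smul _ _⟩
      rw [h1, smul_inv_smul]
    · rintro ⟨v, hv, rfl⟩ h
      rw [inv_smul_smul] at h
      exact hv (smul_left_cancel _ h)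
  have hzM : z ∈ M u₁ := by
    have h1 : (y : G) • q₀ ∈ (ψ y S₀).1 := hψ y S₀ q₀ (MulAction.mem_orbit_self q₀)
    rw [hy, Equiv.swap_apply_left] at h1
    exact hclosed u₁ hu₁P _ (hMy ▸ ⟨q₀, hq₀, rfl⟩) z (MulAction.mem_orbit_symm.1 h1)
  obtain ⟨m₁, hm₁⟩ := hpow u₁ hu₁P hu₁1 fun v hv hv1 => by
    rw [hMy, Set.ncard_image_of_injective _ (MulAction.injective (y : G))]
    exact hmin v ⟨hv, hv1⟩
  -- a point moved by both
  obtain ⟨w, hw0, hw1⟩ : ∃ w, u₀ • w ≠ w ∧ u₁ • w ≠ w := by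
    obtain ⟨q', hq', hq'o⟩ := hno u₀ hu₀P hu₀1 q₀
    obtain ⟨z', hz', hz'o⟩ := hno u₁ hu₁P hu₁1 z
    have hq'r : q' ∉ Set.range x := fun h => hq' ((C.fix _).2 h _ hu₀P)
    have hz'r : z' ∉ Set.range x := fun h => hz' ((C.fix _).2 h _ hu₁P)
    by_contra hc
    push Not at hc
    let S₀' : Orb x P := ⟨_, q', hq'r, rfl⟩
    let S' : Orb x P := ⟨_, z', hz'r, rfl⟩
    have hne : ∀ (b c : α) (hb : b ∉ Set.range x) (hc' : c ∉ Set.range x),
        u₀ • b ≠ b → u₁ • c ≠ c →
        (⟨_, b, hb, rfl⟩ : Orb x P) ≠ ⟨_, c, hc', rfl⟩ := by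
      intro b c hb hc' h1 h2 he
      have he' : MulAction.orbit P b = MulAction.orbit P c := congrArg Subtype.val he
      exact hclosed u₁ hu₁P c h2 b (MulAction.orbit_eq_iff.1 he') (hc b h1)
    have d1 : S₀ ≠ S₀' := fun he => hq'o (MulAction.orbit_eq_iff.1 (congrArg Subtype.val he).symm)
    have d2 : S ≠ S' := fun he => hz'o (MulAction.orbit_eq_iff.1 (congrArg Subtype.val he).symm)
    have h4 : ({S₀, S₀', S, S'} : Finset (Orb x P)).card = 4 := by
      have a1 : S₀ ≠ S := hne _ _ hq₀r hz hq₀ hzM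
      have a2 : S₀ ≠ S' := hne _ _ hq₀r hz'r hq₀ hz'
      have a3 : S₀' ≠ S := hne _ _ hq'r hz hq' hzM
      have a4 : S₀' ≠ S' := hne _ _ hq'r hz'r hq' hz'
      rw [Finset.card_insert_of_notMem (by simp [d1, a1, a2]),
        Finset.card_insert_of_notMem (by simp [a3, a4]), Finset.card_pair d2]
    haveI := Fintype.ofFinite (Orb x P)
    have h5 := Finset.card_le_univ ({S₀, S₀', S, S'} : Finset (Orb x P))
    rw [h4, ← Nat.card_eq_fintype_card, C.card_orb hn] at h5
    omega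
  have h1 := hmult₀ w hw0 u₁ hu₁P w (MulAction.mem_orbit_self w)
  rw [hm₁] at h1
  have heq : u₁ ^ m₁ = u₁ ^ m₀ := by
    by_contra hne
    apply hw1
    have hd : u₁ ^ (m₁ - m₀) ≠ 1 := fun h => hne (by
      rw [show m₁ = m₁ - m₀ + m₀ by ring, zpow_add, h, one_mul])
    have hfix : u₁ ^ (m₁ - m₀) • w = w := by
      rw [sub_eq_add_neg, add_comm, zpow_add, mul_smul, h1, ← mul_smul, ← zpow_add,
        neg_add_cancel, zpow_zero, one_smul]
    have hord : ∀ g : G, g ∈ P → g ≠ 1 → Nat.card (zpowers g) = p := fun g hg hg1 => by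
      rw [Nat.card_zpowers]
      exact orderOf_eq_prime (C.pow_eq_one hg) hg1
    have hz1 : zpowers (u₁ ^ (m₁ - m₀)) = zpowers u₁ :=
      eq_of_le_of_card_ge (zpowers_le.2 (zpow_mem_zpowers u₁ _))
        (le_of_eq ((hord _ hu₁P hu₁1).trans (hord _ (P.zpow_mem hu₁P _) hd).symm))
    have h2 : u₁ ∈ MulAction.stabilizer G w :=
      (zpowers_le.2 (mem_stabilizer_iff.2 hfix)) (hz1 ▸ mem_zpowers u₁)
    exact mem_stabilizer_iff.1 h2
  exact mult_of C a.2 hka hu₁P hzM m₀ fun v _ => by rw [hm₁, heq]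

theorem finish (C : Ctx G x p P) (hr : 3 ≤ r) (hn5 : 5 ≤ Fintype.card α)
    (h4 : IsMultiplyPretransitive G α 4)
    {ρ : normalizer (P : Set G) →* Equiv.Perm (Fin r)} (hρs : Function.Surjective ρ)
    (hρ : ∀ y i, x (ρ y i) = (y : G) • x i) (t : normalizer (P : Set G))
    (ht : ∀ z, z ∉ Set.range x → (t : G) ^ p • z = z) (htρ : ρ t ^ p ≠ 1) :
    alternatingGroup α ≤ G := by
  obtain ⟨F, hF⟩ : ∃ F : Subgroup (normalizer (P : Set G)), ∀ y,
      y ∈ F ↔ ∀ z, z ∉ Set.range x → (y : G) • z = z :=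
    ⟨{ carrier := {y | ∀ z, z ∉ Set.range x → (y : G) • z = z}
       one_mem' := fun z _ => by simp
       mul_mem' := fun {b c} hb hc z hz => by rw [Subgroup.coe_mul, mul_smul, hc z hz, hb z hz]
       inv_mem' := fun {b} hb z hz => by
        rw [Subgroup.coe_inv, inv_smul_eq_iff]
        exact (hb z hz).symm }, fun y => Iff.rfl⟩
  haveI hFn : F.Normal := ⟨fun f hf g => (hF _).2 fun z hz => by
    rw [Subgroup.coe_mul, Subgroup.coe_mul, Subgroup.coe_inv, mul_smul, mul_smul,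
      (hF f).1 hf _ (smul_notMem_range C (inv_mem g.2) hz), smul_inv_smul]⟩
  haveI : (F.map ρ).Normal := hFn.map ρ hρs
  have hmem : ρ (t ^ p) ∈ F.map ρ :=
    mem_map_of_mem _ ((hF _).2 fun z hz => by rw [Subgroup.coe_pow]; exact ht z hz)
  rw [map_pow] at hmem
  have hlift : ∀ σ ∈ F.map ρ, Equiv.Perm.viaEmbedding σ x ∈ G := by
    rintro _ ⟨y, hy, rfl⟩
    have he : Equiv.Perm.viaEmbedding (ρ y) x = ((y : G) : Equiv.Perm α) := by
      refine Equiv.ext fun z => ?_
      by_cases hz : z ∈ Set.range x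
      · obtain ⟨i, rfl⟩ := hz
        rw [Equiv.Perm.viaEmbedding_apply, hρ]
        rfl
      · rw [Equiv.Perm.viaEmbedding_apply_of_notMem _ _ _ hz]
        exact ((hF y).1 hy z hz).symm
    rw [he]
    exact (y : G).2
  have h2 : IsMultiplyPretransitive G α 2 := by
    refine isMultiplyPretransitive_of_le' (n := 4) (by norm_num) ?_
    simp; omega
  have hmul : ∀ a b c d : Fin r, Equiv.Perm.viaEmbedding (swap a b * swap c d) x =
      swap (x a) (x b) * swap (x c) (x d) := fun a b c d => by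
    rw [← Equiv.Perm.viaEmbeddingHom_apply, map_mul, Equiv.Perm.viaEmbeddingHom_apply,
      Equiv.Perm.viaEmbeddingHom_apply, viaEmbedding_swap, viaEmbedding_swap]
  have hi : ∃ i : Fin r, True := ⟨⟨0, by omega⟩, trivial⟩
  obtain ⟨i, -⟩ := hi
  obtain ⟨l, -, hl⟩ := Finset.exists_mem_notMem_of_card_lt_card
    (s := ({i, (ρ t ^ p) i} : Finset (Fin r))) (t := Finset.univ)
    (lt_of_le_of_lt Finset.card_le_two (by rw [Finset.card_univ, Fintype.card_fin]; omega))
  simp only [Finset.mem_insert, Finset.mem_singleton, not_or] at hl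
  rcases has3_or_hasD (F.map ρ) hmem htρ (i := i) l hl.1 hl.2 with h | h
  · obtain ⟨a, b, c, hab, hac, hbc, hm⟩ := h
    exact alt_le_of_has3 G h2 ⟨x a, x b, x c, fun e => hab (x.injective e),
      fun e => hac (x.injective e), fun e => hbc (x.injective e), hmul a b a c ▸ hlift _ hm⟩
  · obtain ⟨a, b, c, d, h1, h2', h3, h4', h5, h6, hm⟩ := h
    exact alt_le_of_hasD G h4 hn5 ⟨x a, x b, x c, x d, fun e => h1 (x.injective e),
      fun e => h2' (x.injective e), fun e => h3 (x.injective e), fun e => h4' (x.injective e),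
      fun e => h5 (x.injective e), fun e => h6 (x.injective e), hmul a b c d ▸ hlift _ hm⟩

omit hp in
theorem pow_ne_one_two {M : Type*} [Monoid M] {c : M} (hp : Odd p) (h1 : c ≠ 1) (h2 : c * c = 1) :
    c ^ p ≠ 1 := by
  obtain ⟨q, rfl⟩ := hp
  rw [pow_succ, pow_mul, pow_two, h2, one_pow, one_mul]
  exact h1

omit hp in
theorem pow_ne_one_three {M : Type*} [Monoid M] {c : M} (hp : ¬ 3 ∣ p) (h1 : c ≠ 1)
    (h3 : c ^ 3 = 1) : c ^ p ≠ 1 := by
  rw [← Nat.div_add_mod p 3, pow_add, pow_mul, h3, one_pow, one_mul]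
  have h : p % 3 = 1 ∨ p % 3 = 2 := by omega
  rcases h with h | h
  · rwa [h, pow_one]
  · intro he
    rw [h] at he
    apply h1
    rw [show (3 : ℕ) = 2 + 1 from rfl, pow_succ, he, one_mul] at h3
    exact h3

/-- The case `p = 3`, `r = 3`. -/
theorem degree_six_nine (h4 : IsMultiplyPretransitive G α 4)
    (hn : Fintype.card α = 6 ∨ Fintype.card α = 9) : alternatingGroup α ≤ G := by
  haveI : IsPretransitive G (Fin 4 ↪ α) := h4
  haveI := h4
  by_cases hs : ∀ e : Fin 4 ↪ α, MulAction.stabilizer G e = ⊥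
  · rcases hn with hn | hn
    · obtain ⟨e⟩ : Nonempty (Fin 4 ↪ α) :=
        Function.Embedding.nonempty_of_card_le (by simp [hn])
      have h1 : (MulAction.stabilizer G e).index = 360 := by
        rw [MulAction.index_stabilizer]
        refine Eq.trans (congrArg Set.ncard (?_ : _ = (Set.univ : Set (Fin 4 ↪ α)))) ?_
        · exact Set.eq_univ_of_forall fun f => exists_smul_eq G e f
        rw [Set.ncard_univ, Nat.card_eq_fintype_card, Fintype.card_embedding_eq, hn, Fintype.card_fin]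
        rfl
      rw [hs e, index_bot] at h1
      refine Equiv.Perm.alternatingGroup_le_of_index_le_two (Nat.le_of_mul_le_mul_right (c := 360) ?_ (by norm_num))
      rw [← h1, index_mul_card, Nat.card_perm, Nat.card_eq_fintype_card (α := α), hn, h1]
      decide
    · rcases Cfsg.Agent.S0415.result G (by omega) hs with h | h | h | h <;> omega
  · push Not at hs
    obtain ⟨e, he⟩ := hs
    obtain ⟨g, hg, hg1⟩ := (bot_or_exists_ne_one _).resolve_left he
    have hfix : ∀ i, (g : Equiv.Perm α) (e i) = e i := fun i =>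
      congrArg (fun f : Fin 4 ↪ α => f i) hg
    have hsub : (g : Equiv.Perm α).support ⊆ (Finset.univ.map e)ᶜ := by
      intro z hz
      rw [Finset.mem_compl, Finset.mem_map]
      rintro ⟨i, -, rfl⟩
      exact Equiv.Perm.mem_support.1 hz (hfix i)
    have hle := Finset.card_le_card hsub
    rw [Finset.card_compl, Finset.card_map, Finset.card_univ, Fintype.card_fin] at hle
    exact alt_le_of_five G h4 (by omega) g.2 (fun h => hg1 (Subtype.ext h)) (by omega)
      (fun h => by omega)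

omit hp in
theorem manning (hpr : p.Prime) (hn : Fintype.card α = k * p + r) (hk : 1 ≤ k) (hpk : k < p)
    (hrk : k < r) (hex : ¬ (k = 1 ∧ r = 2)) (hG : IsMultiplyPretransitive G α (r + 1)) :
    alternatingGroup α ≤ G := by
  haveI := Fact.mk hpr
  have hr : 3 ≤ r := by
    by_contra hc
    exact hex ⟨by omega, by omega⟩
  rcases hpr.eq_two_or_odd' with h2 | hodd
  · subst h2
    have hk1 : k = 1 := by omega
    subst hk1
    have h1 : IsMultiplyPretransitive G α (Nat.card α - 1) := by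
      rw [Nat.card_eq_fintype_card, hn, show 1 * 2 + r - 1 = r + 1 by omega]
      exact hG
    rw [Equiv.Perm.eq_top_of_isMultiplyPretransitive h1]
    exact le_top
  have hkp : p ≤ k * p := Nat.le_mul_of_pos_left p hk
  have hp3 : 3 ≤ p := by
    obtain ⟨q, rfl⟩ := hodd
    have := hpr.two_le
    omega
  have hcard : ((r + 1 : ℕ) : ℕ∞) ≤ ENat.card α := by
    simp only [ENat.card_eq_coe_fintype_card, hn]
    exact_mod_cast (by omega : r + 1 ≤ k * p + r)
  have h4 : IsMultiplyPretransitive G α 4 := by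
    haveI := hG
    exact isMultiplyPretransitive_of_le' (n := r + 1) (by omega) hcard
  by_cases h33 : p = 3 ∧ r = 3
  · obtain ⟨rfl, rfl⟩ := h33
    refine degree_six_nine h4 ?_
    have : k = 1 ∨ k = 2 := by omega
    rcases this with rfl | rfl <;> simp [hn]
  have h2' : IsMultiplyPretransitive G α 2 := by
    haveI := hG
    exact isMultiplyPretransitive_of_le' (n := r + 1) (by omega) hcard
  obtain ⟨x⟩ : Nonempty (Fin r ↪ α) :=
    Function.Embedding.nonempty_of_card_le (by rw [Fintype.card_fin, hn]; omega)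
  obtain ⟨P, C⟩ := exists_ctx hn hk hpk hG x
  obtain ⟨ρ, hρs, hρ⟩ := C.exists_rho
  obtain ⟨ψ, hψ⟩ := C.exists_psi
  haveI : (ψ.ker.map ρ).Normal := (inferInstance : ψ.ker.Normal).map ρ hρs
  obtain ⟨W, hW⟩ : ∃ W, W = ψ.ker.map ρ := ⟨_, rfl⟩
  haveI hWn : W.Normal := hW ▸ (inferInstance : (ψ.ker.map ρ).Normal)
  have hidx : W.index ≤ Nat.card ψ.range := by
    rw [← index_ker, hW]
    exact Nat.le_of_dvd (Nat.pos_of_ne_zero index_ne_zero_of_finite) (index_map_dvd _ hρs)
  have hperm : Nat.card (Equiv.Perm (Orb x P)) = k.factorial := by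
    rw [Nat.card_perm, C.card_orb hn]
  have hrange : Nat.card ψ.range ≤ k.factorial :=
    hperm ▸ Nat.le_of_dvd Nat.card_pos (card_subgroup_dvd_card _)
  have hWne : W ≠ ⊥ := by
    intro h
    rw [h, index_bot, Nat.card_perm, Nat.card_eq_fintype_card, Fintype.card_fin] at hidx
    have := (Nat.factorial_lt hk).2 hrk
    omega
  have hp3' : r = 3 → ¬ 3 ∣ p := fun h hd =>
    h33 ⟨((Nat.prime_dvd_prime_iff_eq Nat.prime_three hpr).1 hd).symm, h⟩
  -- commutators inside the kernel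
  have hA : ∀ a ∈ W, ∀ b ∈ W, (a * b * a⁻¹ * b⁻¹) ^ p ≠ 1 → alternatingGroup α ≤ G := by
    rw [hW]
    rintro _ ⟨a, ha, rfl⟩ _ ⟨b, hb, rfl⟩ hne
    refine finish C hr (by omega) h4 hρs hρ (a * b * a⁻¹ * b⁻¹) (fun z hz => ?_)
      (by rwa [map_mul, map_mul, map_mul, map_inv, map_inv])
    obtain ⟨m, hm⟩ := exists_mult C b.2 (exists_keeps C hψ hb) hz
    have hkx : (a * b * a⁻¹ * b⁻¹) ∈ ψ.ker :=
      mul_mem (mul_mem (mul_mem ha hb) (inv_mem ha)) (inv_mem hb)
    have hk' := exists_keeps C hψ hkx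
    have ho : MulAction.orbit P ((a : G)⁻¹ • z) = MulAction.orbit P z :=
      MulAction.orbit_eq_iff.2 ((exists_keeps C hψ ha) z hz).2
    refine comm_translation C a.2 b.2 hk' hz (m := m) hm ?_ fun u hu => C.pow_eq_one hu
    intro u hu w hw
    rw [ho] at hw
    exact hm u hu w hw
  -- commutators with a scalar kernel
  have hC : k ≤ 3 → k.factorial ≤ W.index → ∀ t ∈ W, ∀ s : Equiv.Perm (Fin r),
      (s * t * s⁻¹ * t⁻¹) ^ p ≠ 1 → alternatingGroup α ≤ G := by
    intro hk3 hkW t ht s hne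
    by_cases hno : NoCycle P
    swap
    · exact alt_le_of_not_noCycle C h2' (by omega) hno
    have hsurj : Function.Surjective ψ := MonoidHom.range_eq_top.1
      (eq_top_of_le_card _ (by rw [hperm]; exact hkW.trans hidx))
    rw [hW] at ht
    obtain ⟨a, ha, rfl⟩ := ht
    obtain ⟨s, rfl⟩ := hρs s
    obtain ⟨m, hm⟩ := exists_scalar C hn hk hk3 hno hψ hsurj ha
    refine finish C hr (by omega) h4 hρs hρ (s * a * s⁻¹ * a⁻¹) (fun z hz => ?_)
      (by rwa [map_mul, map_mul, map_mul, map_inv, map_inv])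
    have hkx : (s * a * s⁻¹ * a⁻¹) ∈ ψ.ker :=
      mul_mem ((inferInstance : ψ.ker.Normal).conj_mem a ha s) (inv_mem ha)
    exact comm_translation C s.2 a.2 (exists_keeps C hψ hkx) hz (hm z hz)
      (hm _ (smul_notMem_range C (inv_mem s.2) hz)) fun u hu => C.pow_eq_one hu
  -- a three-cycle in the image of the kernel and a fourth point
  have h3cyc : 4 ≤ r → Has3 (W : Set (Equiv.Perm (Fin r))) → alternatingGroup α ≤ G := by
    rintro hr4 ⟨a, b, c, hab, hac, hbc, hm⟩
    obtain ⟨d, -, hd⟩ := Finset.exists_mem_notMem_of_card_lt_card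
      (s := ({a, b, c} : Finset (Fin r))) (t := Finset.univ)
      (lt_of_le_of_lt Finset.card_le_three (by rw [Finset.card_univ, Fintype.card_fin]; omega))
    simp only [Finset.mem_insert, Finset.mem_singleton, not_or] at hd
    obtain ⟨hda, hdb, hdc⟩ := hd
    have := hab.symm; have := hac.symm; have := hbc.symm
    have := Ne.symm hda; have := Ne.symm hdb; have := Ne.symm hdc
    let e : Fin 4 ↪ Fin r := ⟨![a, b, c, d], by
      intro i j hij
      fin_cases i <;> fin_cases j <;> simp_all⟩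
    obtain ⟨A, hA'⟩ : ∃ A : Equiv.Perm (Fin 4), A = swap 0 1 * swap 0 2 := ⟨_, rfl⟩
    have hAW : Equiv.Perm.viaEmbeddingHom e A ∈ W := by
      rw [hA', map_mul, Equiv.Perm.viaEmbeddingHom_apply, Equiv.Perm.viaEmbeddingHom_apply,
        viaEmbedding_swap, viaEmbedding_swap]
      exact hm
    obtain ⟨hc1, hc2⟩ := perm_four.2.2 A (swap 2 3 * A * (swap 2 3)⁻¹) hA' (by rw [hA'])
    refine hA _ hAW _ (?_ : Equiv.Perm.viaEmbeddingHom e (swap 2 3 * A * (swap 2 3)⁻¹) ∈ W) ?_
    · rw [map_mul, map_mul, map_inv]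
      exact hWn.conj_mem _ hAW _
    · have hinj := Equiv.Perm.viaEmbeddingHom_injective e
      rw [← map_inv, ← map_inv, ← map_mul, ← map_mul, ← map_mul]
      refine pow_ne_one_two hodd (fun h => hc1 (hinj ?_)) ?_
      · rw [h, map_one]
      · rw [← map_mul, hc2, map_one]
  obtain ⟨t, htW, ht1⟩ := (bot_or_exists_ne_one W).resolve_left hWne
  by_cases hr3 : r = 3
  · subst hr3
    by_cases hinv : ∃ t ∈ W, t * t = 1 ∧ t ≠ 1
    · obtain ⟨t, htW, htt, ht1⟩ := hinv
      obtain ⟨hc1, hc3⟩ := perm_three.1 t htt ht1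
      exact hA t htW _ (hWn.conj_mem t htW (finRotate 3)) (pow_ne_one_three (hp3' rfl) hc1 hc3)
    · push Not at hinv
      obtain ⟨hc1, hc3⟩ := perm_three.2.2 t (hinv t htW) ht1
      refine hC (by omega) ?_ t htW (swap 0 1) (pow_ne_one_three (hp3' rfl) hc1 hc3)
      have hle : Nat.card W ≤ 3 := by
        have hsub : (W : Set (Equiv.Perm (Fin 3))) ⊆
            (({1, finRotate 3, finRotate 3 * finRotate 3} : Finset (Equiv.Perm (Fin 3))) :
              Set (Equiv.Perm (Fin 3))) := fun u hu => perm_three.2.1 u (hinv u hu)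
        have h1 := Set.ncard_le_ncard hsub (Finset.finite_toSet _)
        rw [Set.ncard_coe_finset] at h1
        exact (Nat.card_coe_set_eq _).trans_le (h1.trans Finset.card_le_three)
      have hmul := W.card_mul_index
      rw [Nat.card_perm, Nat.card_fin,
        show Nat.factorial 3 = 6 from rfl] at hmul
      have hk2 : k.factorial ≤ 2 := Nat.factorial_le (show k ≤ 2 by omega)
      nlinarith
  by_cases h3 : Has3 (W : Set (Equiv.Perm (Fin r)))
  · exact h3cyc (by omega) h3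
  have hder : ∀ u ∈ W, u ≠ 1 → ∀ i, u i ≠ i ∧ u (u i) = i := fun u hu hu1 =>
    (has3_or_derangeInvolution W hu hu1).resolve_left h3
  by_cases hr4 : r = 4
  · subst hr4
    obtain ⟨s, -, hc1, hc2⟩ := perm_four.2.1 t (perm_four.1 t (hder t htW ht1))
    refine hC (by omega) ?_ t htW s (pow_ne_one_two hodd hc1 hc2)
    have hle : Nat.card W ≤ 4 := by
      have hsub : (W : Set (Equiv.Perm (Fin 4))) ⊆
          ((insert 1 {swap 0 1 * swap 2 3, swap 0 2 * swap 1 3, swap 0 3 * swap 1 2} :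
            Finset (Equiv.Perm (Fin 4))) : Set (Equiv.Perm (Fin 4))) := fun u hu => by
        by_cases hu1 : u = 1
        · exact Finset.mem_insert.2 (Or.inl hu1)
        · exact Finset.mem_insert.2 (Or.inr (perm_four.1 u (hder u hu hu1)))
      have h1 := Set.ncard_le_ncard hsub (Finset.finite_toSet _)
      rw [Set.ncard_coe_finset] at h1
      exact (Nat.card_coe_set_eq _).trans_le (h1.trans Finset.card_le_four)
    have hmul := W.card_mul_index
    rw [Nat.card_perm, Nat.card_fin,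
      show Nat.factorial 4 = 24 from rfl] at hmul
    have hk6 : k.factorial ≤ 6 := Nat.factorial_le (show k ≤ 3 by omega)
    nlinarith
  -- degree at least five
  obtain ⟨l, -, hl⟩ := Finset.exists_mem_notMem_of_card_lt_card
    (s := ({(⟨0, by omega⟩ : Fin r), t ⟨0, by omega⟩} : Finset (Fin r))) (t := Finset.univ)
    (lt_of_le_of_lt Finset.card_le_two (by rw [Finset.card_univ, Fintype.card_fin]; omega))
  simp only [Finset.mem_insert, Finset.mem_singleton, not_or] at hl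
  rcases has3_or_hasD W htW ht1 (i := ⟨0, by omega⟩) l hl.1 hl.2 with h | h
  · exact absurd h h3
  · exact absurd (has3_of_five W (by rw [Fintype.card_fin]; omega) h) h3

end CfsgLib.Manning82
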