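import Mathlib
import Cfsg.Prelude.Def_Transfer
import Cfsg.Prelude.Def_SolvableStructure
import Cfsg.Agent.S0046
import Cfsg.Agent.Lib.PCore.Basic
import Cfsg.Agent.Lib.Transfer.NormalComplement
import Cfsg.Agent.Lib.Solvable.MinimalNonNilpotent
import Cfsg.Agent.Lib.Solvable.MinNormal
import Cfsg.Agent.Lib.Structure.Subnormal
import Cfsg.Agent.Lib.Structure.Radicals

/-!
# Groups whose maximal subgroups of order divisible by `p` are nilpotent
-/

namespace CfsgLib.MaxNilpotentDiv82

open Subgroup

universe u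

variable {G : Type u} [Group G] [Finite G]

/-- Every maximal subgroup of order divisible by `p` is nilpotent. -/
def Hyp (p : ℕ) (G : Type u) [Group G] : Prop :=
  ∀ M : Subgroup G, IsCoatom M → p ∣ Nat.card M → Group.IsNilpotent M

theorem nilpotent_of_le {H M : Subgroup G} (hle : H ≤ M) (hM : Group.IsNilpotent M) :
    Group.IsNilpotent H := by
  haveI := hM
  exact Subgroup.isNilpotent_of_ker_le_center (Subgroup.inclusion hle)
    (by rw [(Subgroup.inclusion hle).ker_eq_bot (Subgroup.inclusion_injective hle)]; exact bot_le)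

theorem nilpotent_of_proper {p : ℕ} (h : Hyp p G) {H : Subgroup G} (hH : H ≠ ⊤)
    (hp : p ∣ Nat.card H) : Group.IsNilpotent H := by
  obtain e | ⟨M, hM, hle⟩ := eq_top_or_exists_le_coatom H
  · exact absurd e hH
  · exact nilpotent_of_le hle (h M hM (hp.trans (Subgroup.card_dvd_of_le hle)))

theorem all_coatoms_of_pCore_eq_bot {p : ℕ} [hp : Fact p.Prime] (hpG : p ∣ Nat.card G)
    (h : Hyp p G) (hcore : Cfsg.pCore p G = ⊥) :
    ∀ M : Subgroup G, IsCoatom M → Group.IsNilpotent M := by
  have hcond : CfsgLib.Transfer.FrobeniusCond p G := by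
    intro Q hQ g hg hgp
    rcases eq_or_ne Q ⊥ with rfl | hQne
    · rw [mem_centralizer_iff]
      intro x hx
      rw [SetLike.mem_coe, mem_bot] at hx
      simp [hx]
    have hne : Subgroup.normalizer (Q : Set G) ≠ ⊤ := by
      intro e
      apply hQne
      rw [eq_bot_iff, ← hcore]
      exact CfsgLib.PCore.le_pCore (Subgroup.normalizer_eq_top_iff.1 e) hQ
    have hpdvd : p ∣ Nat.card (Subgroup.normalizer (Q : Set G)) := by
      refine dvd_trans ?_ (Subgroup.card_dvd_of_le Subgroup.le_normalizer)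
      obtain ⟨k, hk⟩ := hQ.exists_card_eq
      rw [hk]
      refine dvd_pow_self p ?_
      rintro rfl
      exact hQne (Subgroup.card_eq_one.1 (by simpa using hk))
    have hnil := nilpotent_of_proper h hne hpdvd
    rw [mem_centralizer_iff]
    intro x hx
    refine (CfsgLib.MinimalNonNilpotent.nilpotent_commute hnil (Subgroup.le_normalizer hx) hg ?_).eq
    obtain ⟨k, hk⟩ := IsPGroup.iff_orderOf.1 hQ ⟨x, hx⟩
    rw [Subgroup.orderOf_mk] at hk
    rw [hk]
    exact (hgp.symm.pow_left k)
  obtain ⟨P0, K, hKn, hK⟩ := CfsgLib.Transfer.hasNormalPComplement_of_frobeniusCond hcond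
  haveI := hKn
  have hKcard : Nat.card K = (P0 : Subgroup G).index := by rw [hK.index_eq_card]
  have hKp : ¬ p ∣ Nat.card K := hKcard ▸ P0.not_dvd_index
  have hcardG : Nat.card K * Nat.card (P0 : Subgroup G) = Nat.card G := hK.card_mul
  have hP0 : p ∣ Nat.card (P0 : Subgroup G) := P0.dvd_card_of_dvd_card hpG
  -- `K` is an `r`-group for some prime `r`
  suffices hr : ∃ r, r.Prime ∧ IsPGroup r K by
    obtain ⟨r, hr, hKr⟩ := hr
    haveI := Fact.mk hr
    intro M hM
    by_cases hpM : p ∣ Nat.card M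
    · exact h M hM hpM
    refine nilpotent_of_le (M := K) (fun x hx => ?_) hKr.isNilpotent
    have h1 : (orderOf x).Coprime p :=
      (hp.out.coprime_iff_not_dvd.2 fun hd => hpM (hd.trans (Subgroup.orderOf_dvd_natCard M hx))).symm
    rw [← QuotientGroup.eq_one_iff (N := K), ← orderOf_eq_one_iff]
    obtain ⟨k, hk⟩ := P0.isPGroup'.exists_card_eq
    have h2 : orderOf (x : G ⧸ K) ∣ p ^ k := by
      rw [← hk, ← hK.symm.index_eq_card, Subgroup.index_eq_card]
      exact orderOf_dvd_natCard _
    exact Nat.eq_one_of_dvd_coprimes (h1.pow_right k)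
      (orderOf_map_dvd (QuotientGroup.mk' K) x) h2
  by_contra hno
  push Not at hno
  have key : Nat.card K ∣ Nat.card (Subgroup.centralizer ((P0 : Subgroup G) : Set G)) := by
    refine (Nat.dvd_iff_prime_pow_dvd_dvd _ _).2 fun r k hr hrk => ?_
    rcases Nat.eq_zero_or_pos k with rfl | hk
    · simp
    haveI := Fact.mk hr
    have hrp : r ≠ p := fun e => hKp (e ▸ (dvd_pow_self r hk.ne').trans hrk)
    obtain ⟨R⟩ := (inferInstance : Nonempty (Sylow r K))
    have hRk : r ^ k ∣ Nat.card (R : Subgroup K) := by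
      rw [R.card_eq_multiplicity]
      exact pow_dvd_pow r (hr.pow_dvd_iff_le_factorization Nat.card_pos.ne' |>.1 hrk)
    obtain ⟨R', hR'⟩ : ∃ R' : Subgroup G, R' = (R : Subgroup K).map K.subtype := ⟨_, rfl⟩
    have hR'k : r ^ k ∣ Nat.card R' := by
      rwa [hR', Nat.card_congr ((R : Subgroup K).equivMapOfInjective _ K.subtype_injective).toEquiv.symm]
    have hN : Subgroup.normalizer (R' : Set G) ⊔ K = ⊤ := by
      rw [hR']; exact Sylow.normalizer_sup_eq_top R
    -- some Sylow `p`-subgroup normalizes `R'`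
    obtain ⟨S, hS⟩ : ∃ S : Sylow p G, (S : Subgroup G) ≤ Subgroup.normalizer (R' : Set G) := by
      obtain ⟨S₀⟩ := (inferInstance : Nonempty (Sylow p (Subgroup.normalizer (R' : Set G))))
      obtain ⟨S, hS⟩ := (S₀.isPGroup'.map (Subgroup.normalizer (R' : Set G)).subtype).exists_le_sylow
      obtain ⟨N, hNdef⟩ : ∃ N, N = Subgroup.normalizer (R' : Set G) := ⟨_, rfl⟩
      have hcard' : Nat.card (S : Subgroup G) ≤
          Nat.card (S₀ : Subgroup (Subgroup.normalizer (R' : Set G))) := ?_
      · refine ⟨S, ?_⟩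
        have h5 := Subgroup.eq_of_le_of_card_ge hS (hcard'.trans (le_of_eq (Nat.card_congr
          ((S₀ : Subgroup (Subgroup.normalizer (R' : Set G))).equivMapOfInjective _
            (Subgroup.subtype_injective _)).toEquiv)))
        rw [← h5]
        exact Subgroup.map_subtype_le _
      rw [S.card_eq_multiplicity, S₀.card_eq_multiplicity]
      refine Nat.pow_le_pow_right hp.out.pos ?_
      have h1 : Nat.card G ∣ Nat.card K * Nat.card (Subgroup.normalizer (R' : Set G)) :=
        CfsgLib.Structure.card_top_dvd_of_sup_eq_top (by rw [sup_comm]; exact hN)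
      have h2 : Nat.card K * Nat.card (Subgroup.normalizer (R' : Set G)) ≠ 0 :=
        Nat.mul_ne_zero Nat.card_pos.ne' Nat.card_pos.ne'
      have h3 := (Nat.factorization_le_iff_dvd Nat.card_pos.ne' h2).2 h1 p
      rw [Nat.factorization_mul Nat.card_pos.ne' Nat.card_pos.ne', Finsupp.add_apply,
        Nat.factorization_eq_zero_of_not_dvd hKp, zero_add] at h3
      exact h3
    have hX : R' ⊔ (S : Subgroup G) ≠ ⊤ := by
      intro e
      refine hno r hr ?_
      have h1 := CfsgLib.Structure.card_sup_dvd_mul (N := R') (M := (S : Subgroup G)) hS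
      rw [e, Subgroup.card_top, ← hcardG, S.card_eq_multiplicity, ← P0.card_eq_multiplicity] at h1
      have h2 : Nat.card K ∣ Nat.card R' := Nat.dvd_of_mul_dvd_mul_right Nat.card_pos h1
      obtain ⟨j, hj⟩ := (R.isPGroup'.map K.subtype).exists_card_eq
      rw [hR', hj] at h2
      obtain ⟨i, -, hi⟩ := (Nat.dvd_prime_pow hr).1 h2
      exact IsPGroup.of_card hi
    have hnil := nilpotent_of_proper h hX
      ((S.dvd_card_of_dvd_card hpG).trans (Subgroup.card_dvd_of_le le_sup_right))
    have hcent : R' ≤ Subgroup.centralizer ((S : Subgroup G) : Set G) := by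
      intro x hx
      rw [mem_centralizer_iff]
      intro y hy
      refine (CfsgLib.MinimalNonNilpotent.nilpotent_commute hnil (Subgroup.mem_sup_right hy)
        (Subgroup.mem_sup_left hx) (CfsgLib.MinimalNonNilpotent.coprime_orderOf_of_sylow
          (p := p) (q := r) hrp.symm S.isPGroup' (hR' ▸ R.isPGroup'.map K.subtype) hy hx)).eq
    obtain ⟨g, hg⟩ := MulAction.exists_smul_eq G S P0
    have hC : Nat.card (Subgroup.centralizer ((S : Subgroup G) : Set G)) ≤
        Nat.card (Subgroup.centralizer ((P0 : Subgroup G) : Set G)) ∧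
        Nat.card (Subgroup.centralizer ((S : Subgroup G) : Set G)) ∣
        Nat.card (Subgroup.centralizer ((P0 : Subgroup G) : Set G)) := by
      have hle : (Subgroup.centralizer ((S : Subgroup G) : Set G)).map (MulAut.conj g).toMonoidHom ≤
          Subgroup.centralizer ((P0 : Subgroup G) : Set G) := by
        rintro _ ⟨x, hx, rfl⟩
        rw [mem_centralizer_iff]
        intro y hy
        rw [← hg, Sylow.coe_subgroup_smul] at hy
        obtain ⟨z, hz, rfl⟩ := hy
        change MulAut.conj g z * MulAut.conj g x = MulAut.conj g x * MulAut.conj g z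
        rw [← map_mul, ← map_mul, mem_centralizer_iff.1 hx z hz]
      have hd := Subgroup.card_dvd_of_le hle
      rw [Nat.card_congr ((Subgroup.centralizer ((S : Subgroup G) : Set G)).equivMapOfInjective _
        (MulAut.conj g).injective).toEquiv.symm] at hd
      exact ⟨Nat.le_of_dvd Nat.card_pos hd, hd⟩
    exact (hR'k.trans (Subgroup.card_dvd_of_le hcent)).trans hC.2
  -- so `K` centralizes `P0`, and `P0` is normal
  have hKC : K ≤ Subgroup.centralizer ((P0 : Subgroup G) : Set G) := by
    obtain ⟨C, hC⟩ : ∃ C, C = Subgroup.centralizer ((P0 : Subgroup G) : Set G) := ⟨_, rfl⟩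
    rw [← hC] at key ⊢
    have h1 := (K.subgroupOf C).card_mul_index
    obtain ⟨j, hj⟩ : ∃ j, (K.subgroupOf C).index = p ^ j := by
      obtain ⟨k, hk⟩ := P0.isPGroup'.exists_card_eq
      have : (K.subgroupOf C).index ∣ p ^ k := by
        rw [← hk, ← hK.symm.index_eq_card]
        exact Subgroup.relIndex_dvd_index_of_normal K C
      exact ((Nat.dvd_prime_pow hp.out).1 this).imp fun _ h => h.2
    rw [hj] at h1
    have h2 : Nat.card K ∣ Nat.card (K.subgroupOf C) := by
      refine ((hp.out.coprime_iff_not_dvd.2 hKp).pow_left j).symm.dvd_of_dvd_mul_right ?_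
      rw [h1]; exact key
    have h3 : Nat.card (K.subgroupOf C) = Nat.card (K ⊓ C : Subgroup G) := by
      rw [Nat.card_congr (K.subgroupOf C |>.equivMapOfInjective _ C.subtype_injective).toEquiv,
        Subgroup.subgroupOf_map_subtype]
    rw [h3] at h2
    have h4 := Subgroup.eq_of_le_of_card_ge (inf_le_left : K ⊓ C ≤ K)
      (Nat.le_of_dvd Nat.card_pos h2)
    exact h4 ▸ inf_le_right
  have hnorm : (P0 : Subgroup G).Normal := by
    rw [← Subgroup.normalizer_eq_top_iff, eq_top_iff]
    intro x _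
    have hx : x ∈ K ⊔ (P0 : Subgroup G) := by rw [hK.sup_eq_top]; trivial
    refine (sup_le ?_ Subgroup.le_normalizer : K ⊔ (P0 : Subgroup G) ≤ _) hx
    exact hKC.trans (Subgroup.centralizer_le_normalizer _)
  have hbot : (P0 : Subgroup G) = ⊥ :=
    le_bot_iff.1 (hcore ▸ CfsgLib.PCore.le_pCore hnorm P0.isPGroup')
  rw [hbot, Subgroup.card_bot, Nat.dvd_one] at hP0
  exact hp.out.ne_one hP0

theorem isSolvable_aux {p : ℕ} [hp : Fact p.Prime] : ∀ (N : ℕ) (G : Type u) [Group G] [Finite G],
    Nat.card G < N → p ∣ Nat.card G → Hyp p G → Group.IsSolvable G := by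
  intro N
  induction N with
  | zero => intro G _ _ h; exact absurd h (Nat.not_lt_zero _)
  | succ N ih =>
    intro G _ _ hN hpG h
    by_cases hcore : Cfsg.pCore p G = ⊥
    · exact Cfsg.Agent.S0046.result (all_coatoms_of_pCore_eq_bot hpG h hcore)
    obtain ⟨K, hK⟩ : ∃ K, K = Cfsg.pCore p G := ⟨_, rfl⟩
    have hKp : IsPGroup p K := hK ▸ CfsgLib.PCore.pCore_isPGroup
    haveI hKn : K.Normal := by
      rw [hK, Cfsg.pCore]
      exact Subgroup.sSup_normal _ fun A hA => hA.1
    haveI : Group.IsNilpotent K := hKp.isNilpotent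
    have hq : Group.IsSolvable (G ⧸ K) := by
      have hlt : Nat.card (G ⧸ K) < N := by
        have h1 := K.card_eq_card_quotient_mul_card_subgroup
        have h2 : 1 < Nat.card K := K.one_lt_card_iff_ne_bot.2 (hK ▸ hcore)
        have h3 : 0 < Nat.card (G ⧸ K) := Nat.card_pos
        have h4 : Nat.card (G ⧸ K) * 2 ≤ Nat.card G := h1 ▸ Nat.mul_le_mul_left _ h2
        omega
      have hcomap : ∀ M : Subgroup (G ⧸ K), IsCoatom M → Group.IsNilpotent M := by
        intro M hM
        have hne : M.comap (QuotientGroup.mk' K) ≠ ⊤ := fun e => hM.1 (by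
          rw [← Subgroup.map_comap_eq_self_of_surjective (QuotientGroup.mk'_surjective K) M, e,
            Subgroup.map_top_of_surjective _ (QuotientGroup.mk'_surjective K)])
        have hle : K ≤ M.comap (QuotientGroup.mk' K) := fun x hx => by
          rw [mem_comap, QuotientGroup.mk'_apply, (QuotientGroup.eq_one_iff _).2 hx]
          exact one_mem _
        have hdvd : p ∣ Nat.card (M.comap (QuotientGroup.mk' K)) := by
          refine dvd_trans ?_ (Subgroup.card_dvd_of_le hle)
          obtain ⟨k, hk⟩ := hKp.exists_card_eq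
          rw [hk]
          refine dvd_pow_self p ?_
          rintro rfl
          exact hcore (hK ▸ Subgroup.card_eq_one.1 (by simpa using hk))
        haveI := nilpotent_of_proper h hne hdvd
        let f := (QuotientGroup.mk' K).subgroupComap M
        exact Group.nilpotent_of_surjective f
          (MonoidHom.subgroupComap_surjective_of_surjective _ M (QuotientGroup.mk'_surjective K))
      exact Cfsg.Agent.S0046.result hcomap
    exact (Group.isSolvable_iff_subgroup_quotient K).2 ⟨inferInstance, hq⟩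

theorem minimalNonNilpotent_of_coatoms (h : ∀ M : Subgroup G, IsCoatom M → Group.IsNilpotent M)
    (hn : ¬ Group.IsNilpotent G) : Cfsg.IsMinimalNonNilpotent G := by
  refine ⟨hn, fun H hH => ?_⟩
  obtain e | ⟨M, hM, hle⟩ := eq_top_or_exists_le_coatom H
  · exact absurd e hH
  · exact nilpotent_of_le hle (h M hM)

theorem structure_of_hyp {p : ℕ} [hp : Fact p.Prime] (hpG : p ∣ Nat.card G) (h : Hyp p G) :
    Group.IsNilpotent G ∨ Cfsg.IsMinimalNonNilpotent G ∨
      ∃ Z K : Subgroup G, Z.Normal ∧ K.Normal ∧ Z ⊓ K = ⊥ ∧ Z ⊔ K = ⊤ ∧ Nat.card Z = p ∧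
        Cfsg.IsMinimalNonNilpotent K ∧ ¬ p ∣ Nat.card K := by
  by_cases hnil : Group.IsNilpotent G
  · exact Or.inl hnil
  right
  by_cases hall : ∀ M : Subgroup G, IsCoatom M → Group.IsNilpotent M
  · exact Or.inl (minimalNonNilpotent_of_coatoms hall hnil)
  right
  push Not at hall
  obtain ⟨M, hM, hMn⟩ := hall
  have hpM : ¬ p ∣ Nat.card M := fun e => hMn (h M hM e)
  haveI : Group.IsSolvable G := isSolvable_aux _ G (Nat.lt_succ_self _) hpG h
  have hcore : Cfsg.pCore p G ≠ ⊥ := fun e => hMn (all_coatoms_of_pCore_eq_bot hpG h e M hM)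
  have hcoren : (Cfsg.pCore p G).Normal := by
    rw [Cfsg.pCore]
    exact Subgroup.sSup_normal _ fun A hA => hA.1
  obtain ⟨Z, hZ, hZle⟩ := CfsgLib.MinNormal.exists_isMinNormal_le hcoren hcore
  haveI := hZ.1
  have hZp : IsPGroup p Z := CfsgLib.PCore.pCore_isPGroup.to_le hZle
  have hab : IsMulCommutative Z := hZ.isMulCommutative
  have hnle : ¬ Z ≤ M := fun hle => by
    obtain ⟨k, hk⟩ := hZp.exists_card_eq
    refine hpM (dvd_trans ?_ (Subgroup.card_dvd_of_le hle))
    rw [hk]
    refine dvd_pow_self p ?_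
    rintro rfl
    exact hZ.2.1 (Subgroup.card_eq_one.1 (by simpa using hk))
  have hc := hZ.isComplement'_of_isCoatom hab hM hnle
  have hcard : Nat.card Z * Nat.card M = Nat.card G := hc.card_mul
  -- maximal subgroups of `M` are nilpotent and centralize `Z`
  have hsub : ∀ L : Subgroup G, L < M → Group.IsNilpotent L ∧
      L ≤ Subgroup.centralizer (Z : Set G) := by
    intro L hL
    have hne : Z ⊔ L ≠ ⊤ := by
      intro e
      have h1 := CfsgLib.Structure.card_top_dvd_of_sup_eq_top e
      rw [← hcard] at h1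
      have h2 := Nat.le_of_dvd Nat.card_pos (Nat.dvd_of_mul_dvd_mul_left Nat.card_pos h1)
      exact hL.ne (Subgroup.eq_of_le_of_card_ge hL.le h2)
    obtain ⟨k, hk⟩ := hZp.exists_card_eq
    have hk0 : k ≠ 0 := by
      rintro rfl
      exact hZ.2.1 (Subgroup.card_eq_one.1 (by simpa using hk))
    have hn := nilpotent_of_proper h hne
      ((hk ▸ dvd_pow_self p hk0).trans (Subgroup.card_dvd_of_le le_sup_left))
    refine ⟨nilpotent_of_le le_sup_right hn, fun x hx => ?_⟩
    rw [mem_centralizer_iff]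
    intro z hz
    refine (CfsgLib.MinimalNonNilpotent.nilpotent_commute hn (Subgroup.mem_sup_left hz)
      (Subgroup.mem_sup_right hx) ?_).eq
    obtain ⟨j, hj⟩ := IsPGroup.iff_orderOf.1 hZp ⟨z, hz⟩
    rw [Subgroup.orderOf_mk] at hj
    rw [hj]
    exact (hp.out.coprime_iff_not_dvd.2 fun e =>
      hpM (e.trans (Subgroup.orderOf_dvd_natCard M (hL.le hx)))).pow_left j
  have hMcent : M ≤ Subgroup.centralizer (Z : Set G) := by
    by_contra hcon
    obtain ⟨x, hxM, hxC⟩ := SetLike.not_le_iff_exists.1 hcon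
    apply hMn
    by_cases hlt : Subgroup.zpowers x = M
    · rw [← hlt]
      letI := IsCyclic.commGroup (α := Subgroup.zpowers x)
      infer_instance
    · exact absurd ((hsub _ (lt_of_le_of_ne (Subgroup.zpowers_le.2 hxM) hlt)).2
        (Subgroup.mem_zpowers x)) hxC
  have hZM : Z ≤ Subgroup.centralizer (M : Set G) := Subgroup.le_centralizer_iff.1 hMcent
  have hMnorm : M.Normal := by
    rw [← Subgroup.normalizer_eq_top_iff, eq_top_iff, ← hc.sup_eq_top]
    exact sup_le (hZM.trans (Subgroup.centralizer_le_normalizer _)) Subgroup.le_normalizer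
  refine ⟨Z, M, hZ.1, hMnorm, disjoint_iff.1 hc.disjoint, hc.sup_eq_top, ?_, ?_, hpM⟩
  · -- every subgroup of `Z` is normal
    obtain ⟨k, hk⟩ := hZp.exists_card_eq
    have hk0 : k ≠ 0 := by
      rintro rfl
      exact hZ.2.1 (Subgroup.card_eq_one.1 (by simpa using hk))
    obtain ⟨z, hz⟩ := exists_prime_orderOf_dvd_card' p (hk ▸ dvd_pow_self p hk0)
    have hn : (Subgroup.zpowers (z : G)).Normal := by
      rw [← Subgroup.normalizer_eq_top_iff, eq_top_iff, ← hc.sup_eq_top]
      refine sup_le ?_ ?_ <;>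
        refine le_trans ?_ (Subgroup.centralizer_le_normalizer _) <;>
        refine le_trans ?_ (Subgroup.centralizer_le (Subgroup.zpowers_le.2 z.2))
      · exact Subgroup.le_centralizer_iff_isMulCommutative.2 hab
      · exact hMcent
    rcases hZ.2.2 _ hn (Subgroup.zpowers_le.2 z.2) with e | e
    · rw [Subgroup.zpowers_eq_bot, OneMemClass.coe_eq_one] at e
      rw [e, orderOf_one] at hz
      exact absurd hz.symm hp.out.ne_one
    · rw [← e, Nat.card_zpowers, Subgroup.orderOf_coe, hz]
  · refine minimalNonNilpotent_of_coatoms (fun L hL => ?_) hMn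
    have h1 : L.map M.subtype < M := by
      refine lt_of_le_of_ne (Subgroup.map_subtype_le L) fun e => hL.1 ?_
      apply Subgroup.map_injective M.subtype_injective
      rw [e, ← MonoidHom.range_eq_map, M.range_subtype]
    haveI := (hsub _ h1).1
    exact Group.nilpotent_of_mulEquiv (L.equivMapOfInjective _ M.subtype_injective).symm

theorem hyp_of_structure {p : ℕ} [hp : Fact p.Prime] (Z K : Subgroup G) (hZ : Z.Normal)
    (hK : K.Normal) (hdis : Z ⊓ K = ⊥) (hsup : Z ⊔ K = ⊤) (hZcard : Nat.card Z = p)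
    (hKm : Cfsg.IsMinimalNonNilpotent K) (hpK : ¬ p ∣ Nat.card K) : Hyp p G := by
  intro M hM hpM
  have hZM : Z ≤ M := by
    obtain ⟨x, hx⟩ := exists_prime_orderOf_dvd_card' p hpM
    have hxp : IsPGroup p (Subgroup.zpowers (x : G)) :=
      IsPGroup.of_card (n := 1) (by rw [Nat.card_zpowers, Subgroup.orderOf_coe, hx, pow_one])
    obtain ⟨S, hS⟩ := (IsPGroup.of_card (n := 1) (by rw [hZcard, pow_one]) : IsPGroup p Z).exists_le_sylow
    obtain ⟨T, hT⟩ := hxp.exists_le_sylow
    have hScard : Nat.card (S : Subgroup G) ≤ p := by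
      have h1 : Nat.card G ∣ Nat.card Z * Nat.card K := by
        haveI := hZ
        exact CfsgLib.Structure.card_top_dvd_of_sup_eq_top hsup
      obtain ⟨j, hj⟩ := S.isPGroup'.exists_card_eq
      have h2 := ((hp.out.coprime_iff_not_dvd.2 hpK).pow_left j).dvd_of_dvd_mul_right
        ((hj ▸ (S : Subgroup G).card_subgroup_dvd_card).trans h1)
      rw [hZcard] at h2
      rw [hj]
      exact Nat.le_of_dvd hp.out.pos h2
    have hSZ : Z = (S : Subgroup G) := Subgroup.eq_of_le_of_card_ge hS (hZcard.symm ▸ hScard)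
    obtain ⟨g, hg⟩ := MulAction.exists_smul_eq G T S
    have hSn : (S : Subgroup G).Normal := hSZ ▸ hZ
    have hTS : T = S := by
      haveI := Sylow.unique_of_normal S hSn
      exact Subsingleton.elim _ _
    have hxle : Subgroup.zpowers (x : G) ≤ Z := hSZ ▸ hTS ▸ hT
    rw [← Subgroup.eq_of_le_of_card_ge hxle (by rw [hZcard, Nat.card_zpowers, Subgroup.orderOf_coe, hx])]
    exact Subgroup.zpowers_le.2 x.2
  have hKM : M ⊓ K ≠ K := fun e => hM.1 (top_le_iff.1 (hsup ▸ sup_le hZM (e ▸ inf_le_left)))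
  have hMeq : M = Z ⊔ (M ⊓ K) := by
    refine le_antisymm (fun m hm => ?_) (sup_le hZM inf_le_left)
    have h1 : m ∈ Z ⊔ K := hsup ▸ Subgroup.mem_top m
    haveI := hK
    rw [← SetLike.mem_coe, Subgroup.mul_normal] at h1
    obtain ⟨z, hz, k, hk, rfl⟩ := h1
    refine Subgroup.mul_mem_sup hz ⟨?_, hk⟩
    simpa using M.mul_mem (M.inv_mem (hZM hz)) hm
  haveI : Group.IsNilpotent Z :=
    (IsPGroup.of_card (n := 1) (by rw [hZcard, pow_one]) : IsPGroup p Z).isNilpotent
  haveI : Group.IsNilpotent (M ⊓ K : Subgroup G) := by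
    have hne : (M ⊓ K).subgroupOf K ≠ ⊤ := fun e =>
      hKM (le_antisymm inf_le_right (Subgroup.subgroupOf_eq_top.1 e))
    haveI := hKm.2 _ hne
    exact Group.nilpotent_of_mulEquiv (Subgroup.subgroupOfEquivOfLe inf_le_right)
  have hcomm : ∀ z ∈ Z, ∀ k ∈ M ⊓ K, Commute z k := fun z hz k hk =>
    Subgroup.commute_of_normal_of_disjoint Z K hZ hK (disjoint_iff.2 hdis) z k hz hk.2
  rw [hMeq]
  exact CfsgLib.Structure.isNilpotent_sup_of_le_normalizer
    (fun z hz => Subgroup.centralizer_le_normalizer _ (mem_centralizer_iff.2 fun k hk =>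
      (hcomm z hz k hk).eq.symm))
    (fun k hk => Subgroup.centralizer_le_normalizer _ (mem_centralizer_iff.2 fun z hz =>
      (hcomm z hz k hk).eq))

end CfsgLib.MaxNilpotentDiv82
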