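import Mathlib
import Cfsg.Agent.Lib.OrderCount.Basic

/-!
# The number of `n`-th roots of an element

Frobenius: the number of `x` with `x ^ n` in a given class of `h` elements is a multiple of
`gcd (h * n) |G|`.
-/

namespace CfsgLib.RootCount82

open Subgroup

variable {G : Type*} [Group G] [Finite G]

/-- In a finite group, `p`-elements with a nontrivial `n`-th power fall into batches of `p ^ f`. -/
theorem batch_dvd {p f : ℕ} [hp : Fact p.Prime] {n a : ℕ} (hfn : p ^ f ∣ n)
    (hfn' : ¬ p ^ (f + 1) ∣ n) (ha : ∃ V, a = p ^ V) (c : G) (hc : c ≠ 1) (v : G) :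
    p ^ f ∣ Nat.card {u : G // Commute v u ∧ u ^ a = 1 ∧ u ^ n = c} := by
  classical
  haveI := Fintype.ofFinite G
  haveI := Fintype.ofFinite (Subgroup G)
  rw [Nat.card_congr (Equiv.sigmaFiberEquiv
    (fun u : {u : G // Commute v u ∧ u ^ a = 1 ∧ u ^ n = c} => zpowers u.1)).symm, Nat.card_sigma]
  refine Finset.dvd_sum fun K _ => ?_
  rcases isEmpty_or_nonempty {u : {u : G // Commute v u ∧ u ^ a = 1 ∧ u ^ n = c} //
      zpowers u.1 = K} with he | ⟨⟨⟨u0, hv0, ha0, hn0⟩, rfl⟩⟩
  · simp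
  obtain ⟨V, rfl⟩ := ha
  obtain ⟨h, -, hh⟩ := (Nat.dvd_prime_pow hp.out).1 (orderOf_dvd_of_pow_eq_one ha0)
  have hfh : ¬ p ^ h ∣ n := by
    intro hd
    apply hc
    rw [← hn0, ← orderOf_dvd_iff_pow_eq_one, hh]
    exact hd
  have hf : f < h := by
    by_contra hle
    exact hfh ((pow_dvd_pow p (not_lt.1 hle)).trans hfn)
  obtain ⟨m, hm⟩ := hfn
  have hgcd : Nat.gcd (p ^ h) n = p ^ f := by
    rw [hm, show p ^ h = p ^ f * p ^ (h - f) by rw [← pow_add]; congr 1; omega, Nat.gcd_mul_left,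
      Nat.Coprime.gcd_eq_one, mul_one]
    refine (hp.out.coprime_iff_not_dvd.2 fun hd => hfn' ?_).pow_left _
    rw [hm, pow_succ]
    exact mul_dvd_mul_left _ hd
  have e : {u : {u : G // Commute v u ∧ u ^ p ^ V = 1 ∧ u ^ n = c} //
      zpowers u.1 = zpowers u0} ≃ {t : zpowers u0 // t ^ n = 1} :=
    { toFun := fun w => ⟨⟨u0⁻¹ * w.1.1,
          mul_mem (inv_mem (mem_zpowers u0)) (w.2.le (mem_zpowers w.1.1))⟩, by
        obtain ⟨i, hi⟩ := mem_zpowers_iff.1 (w.2.le (mem_zpowers w.1.1))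
        refine Subtype.ext ?_
        simp only [Subgroup.coe_pow, Subgroup.coe_one]
        rw [(show Commute u0⁻¹ w.1.1 by rw [← hi]; exact ((Commute.refl u0).zpow_right i).inv_left).mul_pow,
          inv_pow, hn0, w.1.2.2.2, inv_mul_cancel]⟩
      invFun := fun t => ⟨⟨u0 * t.1.1, by
          obtain ⟨i, hi⟩ := mem_zpowers_iff.1 t.1.2
          have hcomm : Commute u0 t.1.1 := by rw [← hi]; exact (Commute.refl u0).zpow_right i
          have h1 : t.1.1 ^ n = 1 := by simpa using congrArg Subtype.val t.2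
          have h2 : t.1.1 ^ p ^ V = 1 := by
            rw [← hi, ← zpow_natCast, ← zpow_mul, mul_comm, zpow_mul, zpow_natCast, ha0, one_zpow]
          exact ⟨hv0.mul_right (by rw [← hi]; exact hv0.zpow_right i),
            by rw [hcomm.mul_pow, ha0, h2, mul_one], by rw [hcomm.mul_pow, hn0, h1, mul_one]⟩⟩, by
        obtain ⟨i, hi⟩ := mem_zpowers_iff.1 t.1.2
        have hcomm : Commute u0 t.1.1 := by rw [← hi]; exact (Commute.refl u0).zpow_right i
        have h1 : t.1.1 ^ n = 1 := by simpa using congrArg Subtype.val t.2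
        refine Subgroup.eq_of_le_of_card_ge
          (zpowers_le.2 (mul_mem (mem_zpowers u0) t.1.2)) (le_of_eq ?_)
        rw [Nat.card_zpowers, Nat.card_zpowers, hh]
        have hle : orderOf (u0 * t.1.1) ∣ p ^ h := by
          rw [← hh]
          exact (Subgroup.orderOf_dvd_natCard _ (mul_mem (mem_zpowers u0) t.1.2)).trans
            (Nat.card_zpowers u0).dvd
        obtain ⟨j, hj, hjeq⟩ := (Nat.dvd_prime_pow hp.out).1 hle
        rcases Nat.eq_or_lt_of_le hj with rfl | hlt
        · exact hjeq.symm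
        exfalso
        -- otherwise the product is a `p`-th power
        have hw : (u0 * t.1.1) ^ p ^ (h - 1) = 1 := by
          rw [← orderOf_dvd_iff_pow_eq_one, hjeq]
          exact pow_dvd_pow p (by omega)
        have ht : t.1.1 ^ p ^ (h - 1) = 1 := by
          rw [← orderOf_dvd_iff_pow_eq_one]
          refine (Nat.dvd_gcd (hh ▸ ?_) (orderOf_dvd_of_pow_eq_one h1)).trans
            (hgcd.dvd.trans (pow_dvd_pow p (by omega)))
          rw [← hi]
          exact orderOf_dvd_of_pow_eq_one (by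
            rw [← zpow_natCast, ← zpow_mul, mul_comm, zpow_mul, zpow_natCast, pow_orderOf_eq_one,
              one_zpow])
        rw [hcomm.mul_pow, ht, mul_one, ← orderOf_dvd_iff_pow_eq_one, hh] at hw
        exact absurd ((Nat.pow_dvd_pow_iff_le_right hp.out.one_lt).1 hw) (by omega)⟩
      left_inv := fun w => Subtype.ext (Subtype.ext (by simp))
      right_inv := fun t => Subtype.ext (Subtype.ext (by simp)) }
  letI : CommGroup (zpowers u0) := IsCyclic.commGroup
  have hk := IsCyclic.card_powMonoidHom_ker (G := zpowers u0) n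
  rw [Nat.card_zpowers, hh, hgcd] at hk
  rw [Nat.card_congr e]
  exact dvd_of_eq (hk.symm.trans (Nat.card_congr (Equiv.subtypeEquivRight fun t => by rw [MonoidHom.mem_ker, powMonoidHom_apply])))

/-- The central case. -/
theorem central_gcd_dvd (c : G) (hc : c ∈ center G) (n : ℕ) :
    Nat.gcd n (Nat.card G) ∣ Nat.card {x : G // x ^ n = c} := by
  classical
  haveI := Fintype.ofFinite G
  rcases Nat.eq_zero_or_pos n with rfl | hn
  · rcases eq_or_ne c 1 with rfl | hc1
    · simp
    · haveI : IsEmpty {x : G // x ^ 0 = c} := ⟨fun x => hc1 (by simpa using x.2.symm)⟩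
      rw [(Nat.card_eq_zero (α := {x : G // x ^ 0 = c})).2 (Or.inl inferInstance)]; exact dvd_zero _
  refine (Nat.dvd_iff_prime_pow_dvd_dvd _ _).2 fun p k hp hpk => ?_
  haveI := Fact.mk hp
  obtain ⟨a, b, hG, V, haV, hb⟩ : ∃ a b, Nat.card G = a * b ∧ ∃ V, a = p ^ V ∧ ¬ p ∣ b := by
    obtain ⟨V, b, hb, e⟩ := Nat.exists_eq_pow_mul_and_not_dvd
      (Nat.card_pos (α := G)).ne' p hp.ne_one
    exact ⟨p ^ V, b, e, V, rfl, hb⟩
  have hab : a.Coprime b := haV ▸ (hp.coprime_iff_not_dvd.2 hb).pow_left V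
  obtain ⟨f, m, hm, hnf⟩ := Nat.exists_eq_pow_mul_and_not_dvd hn.ne' p hp.ne_one
  have hkf : k ≤ f := by
    have h1 : p ^ k ∣ p ^ f * m := hnf ▸ hpk.trans (Nat.gcd_dvd_left _ _)
    exact (Nat.pow_dvd_pow_iff_le_right hp.one_lt).1
      (((hp.coprime_iff_not_dvd.2 hm).pow_left k).dvd_of_dvd_mul_right h1)
  have hz : (a : ℤ) * Nat.gcdA a b + (b : ℤ) * Nat.gcdB a b = 1 := by
    rw [← Nat.gcd_eq_gcd_ab, hab.gcd_eq_one]; rfl
  set s := (a : ℤ) * Nat.gcdA a b
  set t := (b : ℤ) * Nat.gcdB a b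
  have hone : ∀ x : G, x ^ ((a : ℤ) * b) = 1 := fun x => by
    rw [← Nat.cast_mul, zpow_natCast, ← hG]; exact pow_card_eq_one'
  have hta : ∀ x : G, (x ^ t) ^ a = 1 := fun x => by
    rw [← zpow_natCast, ← zpow_mul, show t * (a : ℤ) = (a : ℤ) * b * Nat.gcdB a b by ring,
      zpow_mul, hone, one_zpow]
  have hsb : ∀ x : G, (x ^ s) ^ b = 1 := fun x => by
    rw [← zpow_natCast, ← zpow_mul, show s * (b : ℤ) = (a : ℤ) * b * Nat.gcdA a b by ring,
      zpow_mul, hone, one_zpow]
  have hsplit : ∀ x : G, x ^ s * x ^ t = x := fun x => by rw [← zpow_add, hz, zpow_one]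
  have hproj : ∀ u v : G, Commute v u → u ^ a = 1 → v ^ b = 1 →
      (v * u) ^ t = u ∧ (v * u) ^ s = v := by
    intro u v hvu hu hv
    have h1 : v ^ t = 1 := by rw [zpow_mul, zpow_natCast, hv, one_zpow]
    have h2 : u ^ s = 1 := by rw [zpow_mul, zpow_natCast, hu, one_zpow]
    have hu' : u ^ t = u := by simpa [h2] using hsplit u
    have hv' : v ^ s = v := by simpa [h1] using hsplit v
    exact ⟨by rw [hvu.mul_zpow, h1, hu', one_mul], by rw [hvu.mul_zpow, hv', h2, mul_one]⟩
  have hpow : ∀ (x : G) (i : ℤ), (x ^ i) ^ n = (x ^ n) ^ i := fun x i => by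
    rw [← zpow_natCast, ← zpow_mul, mul_comm, zpow_mul, zpow_natCast]
  have e : {x : G // x ^ n = c} ≃ Σ v : {v : G // v ^ b = 1 ∧ v ^ n = c ^ s},
      {u : G // Commute v.1 u ∧ u ^ a = 1 ∧ u ^ n = c ^ t} :=
    { toFun := fun x => ⟨⟨x.1 ^ s, hsb _, by rw [hpow, x.2]⟩,
        ⟨x.1 ^ t, (Commute.refl x.1).zpow_zpow _ _, hta _, by rw [hpow, x.2]⟩⟩
      invFun := fun q => ⟨q.1.1 * q.2.1, by
        rw [q.2.2.1.mul_pow, q.1.2.2, q.2.2.2.2, hsplit]⟩
      left_inv := fun x => Subtype.ext (hsplit x.1)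
      right_inv := fun q => by
        obtain ⟨⟨v, hv, hvn⟩, ⟨u, hvu, hu, hun⟩⟩ := q
        obtain ⟨e1, e2⟩ := hproj u v hvu hu hv
        exact Sigma.subtype_ext (Subtype.ext e2) e1 }
  rw [Nat.card_congr e, Nat.card_sigma,
    ← Finset.sum_subtype (Finset.univ.filter fun v : G => v ^ b = 1 ∧ v ^ n = c ^ s)
      (fun x => by simp) (fun v => Nat.card {u : G // Commute v u ∧ u ^ a = 1 ∧ u ^ n = c ^ t})]
  have hcs : ∀ (i : ℤ) (g : G), g * c ^ i * g⁻¹ = c ^ i := fun i g => by
    rw [mem_center_iff.1 ((center G).zpow_mem hc i) g, mul_inv_cancel_right]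
  refine CfsgLib.OrderCount.dvd_sum_of_conj_invariant _ _ _ ?_ ?_ ?_
  · intro g v hv
    simp only [Finset.mem_filter, Finset.mem_univ, true_and] at hv ⊢
    exact ⟨by rw [conj_pow, hv.1, mul_one, mul_inv_cancel], by rw [conj_pow, hv.2, hcs]⟩
  · intro g v _
    refine (Nat.card_congr ((MulAut.conj g).toEquiv.subtypeEquiv fun u => ?_)).symm
    change _ ↔ Commute (MulAut.conj g v) (MulAut.conj g u) ∧
      (MulAut.conj g u) ^ a = 1 ∧ (MulAut.conj g u) ^ n = c ^ t
    conv_rhs => rw [← map_pow, ← map_pow, MulEquiv.map_eq_one_iff]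
    refine and_congr ⟨fun h => h.map (MulAut.conj g),
      fun h => (MulAut.conj g).injective (by rw [map_mul, map_mul]; exact h.eq)⟩
      (and_congr Iff.rfl ⟨fun h => ?_, fun h => (MulAut.conj g).injective (h.trans ?_)⟩)
    · rw [h, MulAut.conj_apply, hcs]
    · rw [MulAut.conj_apply, hcs]
  · intro v _
    set C := centralizer ({v} : Set G) with hC
    rcases eq_or_ne (c ^ t) 1 with h1 | h1
    · have h2 : Nat.card {u : G // Commute v u ∧ u ^ a = 1 ∧ u ^ n = c ^ t} =
          Nat.card {u : C // u ^ (a.gcd n) = 1} :=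
        Nat.card_congr
          { toFun := fun u => ⟨⟨u.1, mem_centralizer_singleton_iff.2 u.2.1.eq.symm⟩,
              Subtype.ext (by simpa [pow_gcd_eq_one] using ⟨u.2.2.1, u.2.2.2.trans h1⟩)⟩
            invFun := fun u => ⟨u.1.1, ((mem_centralizer_singleton_iff.1 u.1.2).symm : _), by
              have h3 : u.1.1 ^ a.gcd n = 1 := by simpa using congrArg Subtype.val u.2
              rw [h1]
              exact pow_gcd_eq_one.1 h3⟩
            left_inv := fun _ => rfl
            right_inv := fun _ => rfl }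
      rw [h2]
      have hka : p ^ k ∣ a := by
        refine (Nat.Coprime.dvd_of_dvd_mul_right ?_ (hG ▸ hpk.trans (Nat.gcd_dvd_right _ _)))
        exact (hp.coprime_iff_not_dvd.2 hb).pow_left k
      have hkd : p ^ k ∣ a.gcd n := Nat.dvd_gcd hka (hpk.trans (Nat.gcd_dvd_left _ _))
      refine (Nat.dvd_gcd (hkd.mul_left C.index) ?_).trans
        ((Nat.gcd_mul_left C.index _ _).dvd.trans
          (Nat.mul_dvd_mul_left _ (CfsgLib.OrderCount.gcd_dvd_card_pow_eq_one _)))
      rw [index_mul_card, hG]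
      exact hka.mul_right b
    · exact (((pow_dvd_pow p hkf).trans (batch_dvd (p := p) (f := f) ⟨m, hnf⟩ (fun hd => by
        rw [hnf, pow_succ] at hd
        exact hm ((Nat.mul_dvd_mul_iff_left (pow_pos hp.pos f)).1 hd)) ⟨V, haV⟩ _ h1 v))).mul_left _

/-- Frobenius. -/
theorem gcd_dvd_card_roots_class (c : G) (n : ℕ) :
    Nat.gcd (Nat.card {y : G // IsConj c y} * n) (Nat.card G) ∣
      Nat.card {x : G // IsConj c (x ^ n)} := by
  classical
  haveI := Fintype.ofFinite G
  set C := centralizer ({c} : Set G) with hC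
  have hroots : Nat.card {x : G // x ^ n = c} = Nat.card {x : C // x ^ n = ⟨c, mem_centralizer_singleton_iff.2 rfl⟩} :=
    Nat.card_congr
      { toFun := fun x => ⟨⟨x.1, mem_centralizer_singleton_iff.2
          (by
            have h := ((Commute.refl x.1).pow_right n).eq
            rwa [x.2] at h)⟩, Subtype.ext (by simpa using x.2)⟩
        invFun := fun x => ⟨x.1.1, by simpa using congrArg Subtype.val x.2⟩
        left_inv := fun _ => rfl
        right_inv := fun _ => rfl }
  have hcent : (⟨c, mem_centralizer_singleton_iff.2 rfl⟩ : C) ∈ center C :=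
    mem_center_iff.2 fun g => Subtype.ext (mem_centralizer_singleton_iff.1 g.2)
  have h1 := central_gcd_dvd _ hcent n
  rw [← hroots] at h1
  have hh : Nat.card {y : G // IsConj c y} = C.index := by
    have h2 : C.index = (MulAction.stabilizer (ConjAct G) c).index := by
      rw [hC, centralizer_eq_comap_stabilizer]
      exact index_comap_of_surjective _ ConjAct.toConjAct.surjective
    rw [h2, MulAction.index_stabilizer, ← Nat.card_coe_set_eq]
    refine Nat.card_congr (Equiv.subtypeEquivRight fun y => ?_)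
    rw [MulAction.mem_orbit_iff, isConj_iff]
    exact ⟨fun ⟨g, hg⟩ => ⟨ConjAct.toConjAct g, by rw [ConjAct.smul_def]; simpa using hg⟩,
      fun ⟨g, hg⟩ => ⟨ConjAct.ofConjAct g, by rw [ConjAct.smul_def] at hg; exact hg⟩⟩
  have hN : Nat.card {x : G // IsConj c (x ^ n)} = C.index * Nat.card {x : G // x ^ n = c} := by
    rw [← hh, Nat.card_congr (Equiv.sigmaFiberEquiv (fun x : {x : G // IsConj c (x ^ n)} =>
      (⟨x.1 ^ n, x.2⟩ : {y : G // IsConj c y}))).symm, Nat.card_sigma]
    have hfib : ∀ y : {y : G // IsConj c y}, Nat.card {x : {x : G // IsConj c (x ^ n)} //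
        (⟨x.1 ^ n, x.2⟩ : {y : G // IsConj c y}) = y} = Nat.card {x : G // x ^ n = c} := by
      rintro ⟨y, hy⟩
      obtain ⟨g, hg⟩ := isConj_iff.1 hy
      refine Nat.card_congr (?_ : _ ≃ {x : G // x ^ n = y}) |>.trans
        (Nat.card_congr ((MulAut.conj g).toEquiv.subtypeEquiv fun x => ?_)).symm
      · exact
        { toFun := fun x => ⟨x.1.1, congrArg Subtype.val x.2⟩
          invFun := fun x => ⟨⟨x.1, by rw [x.2]; exact hy⟩, Subtype.ext x.2⟩
          left_inv := fun _ => rfl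
          right_inv := fun _ => rfl }
      · change x ^ n = c ↔ (MulAut.conj g x) ^ n = y
        rw [← map_pow, ← hg, ← MulAut.conj_apply]
        exact (MulAut.conj g).injective.eq_iff.symm
    simp only [hfib, Finset.sum_const, Finset.card_univ, smul_eq_mul, Nat.card_eq_fintype_card]
  rw [hN, hh, ← C.index_mul_card, Nat.gcd_mul_left]
  exact Nat.mul_dvd_mul_left _ h1

end CfsgLib.RootCount82
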