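import Mathlib
import Cfsg.Agent.Lib.OrderCount.Basic
import Cfsg.Agent.Lib.Solvable.MinNormal

/-!
# In a solvable group exactly `n` solutions of `x ^ n = 1` form a subgroup
-/

namespace CfsgLib.SolvableSolutions82

open Subgroup

universe u

theorem card_comap_mk {G : Type*} [Group G] [Finite G] (K : Subgroup G) [K.Normal]
    (H : Subgroup (G ⧸ K)) :
    Nat.card (H.comap (QuotientGroup.mk' K)) = Nat.card H * Nat.card K := by
  have h1 := (H.comap (QuotientGroup.mk' K)).card_mul_index
  rw [Subgroup.index_comap_of_surjective _ (QuotientGroup.mk'_surjective K),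
    K.card_eq_card_quotient_mul_card_subgroup, ← H.card_mul_index] at h1
  refine Nat.eq_of_mul_eq_mul_right
    (Nat.pos_of_ne_zero (Subgroup.index_ne_zero_of_finite (H := H))) ?_
  rw [h1]
  ring

theorem solutions_subgroup_aux : ∀ (N : ℕ) (G : Type u) [Group G] [Finite G] [Group.IsSolvable G],
    Nat.card G < N → ∀ n : ℕ, n ∣ Nat.card G → Nat.card {x : G // x ^ n = 1} = n →
      ∃ H : Subgroup G, H.Normal ∧ (H : Set G) = {x : G | x ^ n = 1} := by
  intro N
  induction N with
  | zero => intro G _ _ _ h; exact absurd h (Nat.not_lt_zero _)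
  | succ N ih =>
    intro G _ _ _ hG n hn hcount
    rcases subsingleton_or_nontrivial G with hs | hs
    · refine ⟨⊤, inferInstance, Set.ext fun x => iff_of_true (mem_top x) ?_⟩
      exact Subsingleton.elim _ _
    obtain ⟨K, hK⟩ := CfsgLib.MinNormal.exists_isMinNormal (G := G)
    haveI := hK.1
    obtain ⟨p, hp, ⟨-, hKp⟩, -, i, hi, hKcard⟩ := hK.elementaryAbelian_of_solvable
    have hlt : Nat.card (G ⧸ K) < N := by
      have h1 := K.card_eq_card_quotient_mul_card_subgroup
      have h2 : 1 < Nat.card K := hKcard ▸ Nat.one_lt_pow hi.ne' hp.one_lt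
      have h3 : 0 < Nat.card (G ⧸ K) := Nat.card_pos
      have h4 : Nat.card (G ⧸ K) * 2 ≤ Nat.card G := h1 ▸ Nat.mul_le_mul_left _ h2
      omega
    have hnpos : 0 < n := Nat.pos_of_dvd_of_pos hn Nat.card_pos
    haveI : Fintype (G ⧸ K) := Fintype.ofFinite _
    -- the divisor used in the quotient
    obtain ⟨d, hd⟩ : ∃ d, d = Nat.gcd n (p ^ i) := ⟨_, rfl⟩
    have hdpos : 0 < d := hd ▸ Nat.gcd_pos_of_pos_left _ hnpos
    obtain ⟨n', hn'⟩ : d ∣ n := hd ▸ Nat.gcd_dvd_left _ _
    obtain ⟨e, he⟩ : d ∣ p ^ i := hd ▸ Nat.gcd_dvd_right _ _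
    have hn'pos : 0 < n' := Nat.pos_of_ne_zero fun h => by simp [h] at hn'; omega
    have hcop : Nat.Coprime n' e := by
      refine Nat.eq_of_mul_eq_mul_left hdpos ?_
      rw [mul_one, ← Nat.gcd_mul_left, ← hn', ← he, ← hd]
    have hn'Q : n' ∣ Nat.card (G ⧸ K) := by
      refine hcop.dvd_of_dvd_mul_right ((Nat.mul_dvd_mul_iff_left hdpos).1 ?_)
      rw [← hn', show d * (Nat.card (G ⧸ K) * e) = Nat.card (G ⧸ K) * (d * e) by ring, ← he,
        ← hKcard, ← K.card_eq_card_quotient_mul_card_subgroup]
      exact hn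
    have hA : n' ≤ Nat.card {y : G ⧸ K // y ^ n' = 1} := by
      refine Nat.le_of_dvd ?_ (CfsgLib.OrderCount.dvd_card_pow_eq_one hn'Q)
      haveI : Nonempty {y : G ⧸ K // y ^ n' = 1} := ⟨⟨1, one_pow _⟩⟩
      exact Nat.card_pos
    have hnormal : ∀ H : Subgroup G, (H : Set G) = {x : G | x ^ n = 1} → H.Normal := fun H hH =>
      ⟨fun x hx g => by
        rw [← SetLike.mem_coe, hH, Set.mem_ofPred_eq] at hx ⊢
        rw [conj_pow, hx, mul_one, mul_inv_cancel]⟩
    by_cases hpn : p ∣ n
    · -- all lifts are solutions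
      have hlift : ∀ x : G, (QuotientGroup.mk' K x) ^ n' = 1 → x ^ n = 1 := by
        intro x hx
        rw [← map_pow] at hx
        have h1 := hKp _ ((QuotientGroup.eq_one_iff _).1 hx)
        have hpd : p ∣ d := hd ▸ Nat.dvd_gcd hpn (dvd_pow_self p hi.ne')
        obtain ⟨q, hq⟩ := hpd
        rw [hn', hq, show p * q * n' = n' * p * q by ring, pow_mul, pow_mul, h1, one_pow]
      have hle : Nat.card {y : G ⧸ K // y ^ n' = 1} * p ^ i ≤ n := by
        rw [← hKcard, ← Nat.card_prod, ← hcount]
        refine Nat.card_le_card_of_injective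
          (fun z => ⟨z.1.1.out * z.2, hlift _ (by
            rw [map_mul, QuotientGroup.mk'_apply, QuotientGroup.mk'_apply,
              (QuotientGroup.eq_one_iff _).2 z.2.2, mul_one, QuotientGroup.out_eq']
            exact z.1.2)⟩) ?_
        rintro ⟨y, k⟩ ⟨y', k'⟩ h
        have h0 := congrArg Subtype.val h
        simp only at h0
        have h1 := congrArg (QuotientGroup.mk' K) h0
        simp only [map_mul, QuotientGroup.mk'_apply, (QuotientGroup.eq_one_iff _).2 k.2,
          (QuotientGroup.eq_one_iff _).2 k'.2, mul_one, QuotientGroup.out_eq'] at h1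
        obtain rfl : y = y' := Subtype.ext h1
        rw [Subtype.ext (mul_left_cancel h0)]
      have hAeq : Nat.card {y : G ⧸ K // y ^ n' = 1} = n' ∧ d = p ^ i := by
        have hdle : d ≤ p ^ i := Nat.le_of_dvd (pow_pos hp.pos i) (hd ▸ Nat.gcd_dvd_right _ _)
        have h1 : n' * p ^ i ≤ d * n' := (Nat.mul_le_mul_right _ hA).trans (hn' ▸ hle)
        have h2 : p ^ i ≤ d := Nat.le_of_mul_le_mul_left (by rw [mul_comm n' d]; exact h1) hn'pos
        refine ⟨le_antisymm (Nat.le_of_mul_le_mul_right ?_ (pow_pos hp.pos i)) hA,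
          le_antisymm hdle h2⟩
        calc _ ≤ n := hle
          _ = n' * p ^ i := by rw [hn', le_antisymm hdle h2, mul_comm]
      obtain ⟨H, -, hH⟩ := ih (G ⧸ K) hlt n' hn'Q hAeq.1
      have hcardH : Nat.card H = n' := by
        have h1 : Nat.card H = Nat.card {y : G ⧸ K // y ^ n' = 1} :=
          Nat.card_congr (Equiv.subtypeEquivRight fun y => by rw [← SetLike.mem_coe, hH]; rfl)
        rw [h1, hAeq.1]
      have hcard : Nat.card (H.comap (QuotientGroup.mk' K)) = n := by
        rw [card_comap_mk, hcardH, hKcard, hn', hAeq.2, mul_comm]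
      have hset : ((H.comap (QuotientGroup.mk' K) : Subgroup G) : Set G) = {x : G | x ^ n = 1} := by
        refine Set.eq_of_subset_of_ncard_le (fun x hx => hlift x ?_) ?_
        · have h2 : QuotientGroup.mk' K x ∈ H := hx
          rw [← SetLike.mem_coe, hH] at h2
          exact h2
        · rw [← Nat.card_coe_set_eq, ← Nat.card_coe_set_eq, SetLike.coe_sort_coe, hcard]
          exact le_of_eq hcount
      exact ⟨_, hnormal _ hset, hset⟩
    · -- `p` does not divide `n`
      have hd1 : d = 1 := by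
        rw [hd]
        exact ((hp.coprime_iff_not_dvd.2 hpn).pow_left i).symm
      obtain rfl : n = n' := by rw [hn', hd1, one_mul]
      have hcop' : n.Coprime p := (hp.coprime_iff_not_dvd.2 hpn).symm
      have hAle : Nat.card {y : G ⧸ K // y ^ n = 1} ≤ n := by
        refine le_of_le_of_eq (Nat.card_le_card_of_surjective
          (fun x : {x : G // x ^ n = 1} =>
            (⟨QuotientGroup.mk' K x.1, by rw [← map_pow, x.2, map_one]⟩ :
              {y : G ⧸ K // y ^ n = 1})) ?_) hcount
        rintro ⟨y, hy⟩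
        obtain ⟨x, rfl⟩ := QuotientGroup.mk'_surjective K y
        rw [← map_pow] at hy
        have h1 := hKp _ ((QuotientGroup.eq_one_iff _).1 hy)
        refine ⟨⟨x ^ ((p : ℤ) * Nat.gcdB n p), ?_⟩, Subtype.ext ?_⟩
        · rw [← zpow_natCast, ← zpow_mul,
            show (p : ℤ) * Nat.gcdB n p * (n : ℤ) = ((n * p : ℕ) : ℤ) * Nat.gcdB n p by
              push_cast; ring, zpow_mul, zpow_natCast, pow_mul, h1, one_zpow]
        · have hz : (n : ℤ) * Nat.gcdA n p + (p : ℤ) * Nat.gcdB n p = 1 := by
            rw [← Nat.gcd_eq_gcd_ab, hcop'.gcd_eq_one]; rfl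
          change QuotientGroup.mk' K (x ^ _) = QuotientGroup.mk' K x
          rw [map_zpow]
          rw [map_pow] at hy
          conv_rhs => rw [← zpow_one (QuotientGroup.mk' K x), ← hz, zpow_add, zpow_mul,
            zpow_natCast, hy, one_zpow, one_mul]
      have hAeq : Nat.card {y : G ⧸ K // y ^ n = 1} = n := le_antisymm hAle hA
      obtain ⟨H, -, hH⟩ := ih (G ⧸ K) hlt n hn'Q hAeq
      have hcardH : Nat.card H = n := by
        have h1 : Nat.card H = Nat.card {y : G ⧸ K // y ^ n = 1} :=
          Nat.card_congr (Equiv.subtypeEquivRight fun y => by rw [← SetLike.mem_coe, hH]; rfl)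
        rw [h1, hAeq]
      obtain ⟨M, hM⟩ : ∃ M, M = H.comap (QuotientGroup.mk' K) := ⟨_, rfl⟩
      have hKM : K ≤ M := by
        intro x hx
        rw [hM, Subgroup.mem_comap, QuotientGroup.mk'_apply, (QuotientGroup.eq_one_iff _).2 hx]
        exact one_mem _
      have hcardKM : Nat.card (K.subgroupOf M) = p ^ i := by
        rw [Nat.card_congr (Subgroup.subgroupOfEquivOfLe hKM).toEquiv, hKcard]
      have hidx : (K.subgroupOf M).index = n := by
        have h1 := (K.subgroupOf M).card_mul_index
        have h2 : Nat.card M = n * p ^ i := by rw [hM, card_comap_mk, hcardH, hKcard]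
        rw [hcardKM, h2, mul_comm n] at h1
        exact Nat.eq_of_mul_eq_mul_left (pow_pos hp.pos i) h1
      obtain ⟨C, hC⟩ := Subgroup.exists_right_complement'_of_coprime (N := K.subgroupOf M)
        (by rw [hcardKM, hidx]; exact (hp.coprime_iff_not_dvd.2 hpn).pow_left i)
      have hcardC : Nat.card C = n := by rw [← hC.symm.index_eq_card, hidx]
      have hset : ((C.map M.subtype : Subgroup G) : Set G) = {x : G | x ^ n = 1} := by
        refine Set.eq_of_subset_of_ncard_le ?_ ?_
        · rintro _ ⟨c, hc, rfl⟩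
          have h3 : (⟨c, hc⟩ : C) ^ n = 1 := by rw [← hcardC]; exact pow_card_eq_one'
          simpa using congrArg (fun z : C => ((z : M) : G)) h3
        · rw [← Nat.card_coe_set_eq, ← Nat.card_coe_set_eq, SetLike.coe_sort_coe,
            ← Nat.card_congr (C.equivMapOfInjective _ M.subtype_injective).toEquiv, hcardC]
          exact le_of_eq hcount
      exact ⟨_, hnormal _ hset, hset⟩

end CfsgLib.SolvableSolutions82
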