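import Cfsg.Agent.Lib.AutPSU.Basic
import Mathlib.LinearAlgebra.Projection
import Mathlib.LinearAlgebra.Eigenspace.Minpoly
import Mathlib.GroupTheory.Sylow

/-!
# The normalizer of a subgroup of order seven of `PSU_4(3)`
-/

set_option autoImplicit false
set_option linter.unusedSectionVars false

namespace CfsgLib.UFourThree82

open Matrix CfsgLib.ClassicalGroups

variable {K : Type*} [Field K] [Fintype K] (hK : Fintype.card K = 9) [CharP K 3]

/-- The averaging projection of a map of order seven. -/
def avg {V : Type*} [AddCommGroup V] [Module K V] (f : Module.End K V) : Module.End K V :=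
  ∑ i ∈ Finset.range 7, f ^ i

theorem seven_eq_one : ((7 : ℕ) : K) = 1 := by
  have h3 : ((3 : ℕ) : K) = 0 := CharP.cast_eq_zero K 3
  rw [show (7 : ℕ) = 2 * 3 + 1 from rfl, Nat.cast_add, Nat.cast_mul, h3, mul_zero, zero_add, Nat.cast_one]

theorem mul_avg {V : Type*} [AddCommGroup V] [Module K V] {f : Module.End K V} (hf : f ^ 7 = 1) :
    f * avg f = avg f := by
  rw [avg, Finset.mul_sum, Finset.sum_range_succ _ 6]
  conv_rhs => rw [Finset.sum_range_succ' _ 6, pow_zero]
  rw [show f * f ^ 6 = f ^ 7 from (pow_succ' f 6).symm, hf]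
  congr 1

theorem avg_comm {V : Type*} [AddCommGroup V] [Module K V] (f : Module.End K V) : avg f * f = f * avg f :=
  (Commute.sum_left (Finset.range 7) (fun i => f ^ i) f fun i _ => Commute.pow_self f i).eq

theorem avg_of_fix {V : Type*} [AddCommGroup V] [Module K V] {f : Module.End K V} {v : V} (hv : f v = v) :
    avg f v = v := by
  have h : ∀ i : ℕ, (f ^ i) v = v := fun i => by
    induction i with
    | zero => rfl
    | succ i ih => rw [pow_succ, Module.End.mul_apply, hv, ih]
  rw [avg, LinearMap.sum_apply]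
  simp only [h, Finset.sum_const, Finset.card_range]
  rw [← Nat.cast_smul_eq_nsmul K, seven_eq_one, one_smul]

theorem avg_idem {V : Type*} [AddCommGroup V] [Module K V] {f : Module.End K V} (hf : f ^ 7 = 1) (v : V) :
    avg f (avg f v) = avg f v :=
  avg_of_fix (by rw [← Module.End.mul_apply, mul_avg hf])

theorem isCompl_avg {V : Type*} [AddCommGroup V] [Module K V] {f : Module.End K V} (hf : f ^ 7 = 1) :
    IsCompl (LinearMap.range (avg f)) (LinearMap.ker (avg f)) := by
  rw [isCompl_iff, disjoint_iff, codisjoint_iff, eq_bot_iff, eq_top_iff]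
  constructor
  · rintro _ ⟨⟨v, rfl⟩, hv⟩
    exact (avg_idem hf v).symm.trans (LinearMap.mem_ker.mp hv)
  · intro v _
    refine Submodule.mem_sup.mpr ⟨avg f v, ⟨v, rfl⟩, v - avg f v, ?_, add_sub_cancel _ _⟩
    rw [LinearMap.mem_ker, map_sub, avg_idem hf, sub_self]

include hK in
/-- An invariant subspace without fixed vectors has dimension divisible by three. -/
theorem finrank_invariant {V : Type*} [AddCommGroup V] [Module K V] [FiniteDimensional K V]
    {f : Module.End K V} (hf : f ^ 7 = 1) {W : Submodule K V} (hW : ∀ w ∈ W, f w ∈ W)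
    (hW0 : W ≤ LinearMap.ker (avg f)) : 3 ∣ Module.finrank K W := by
  obtain ⟨g, hgdef⟩ : ∃ g : Module.End K W, g = f.restrict hW := ⟨_, rfl⟩
  have hg7 : g ^ 7 = 1 := by
    refine LinearMap.ext fun w => Subtype.ext ?_
    rw [hgdef, Module.End.pow_restrict, LinearMap.coe_restrict_apply, hf]
    rfl
  obtain ⟨gu, hgu⟩ : ∃ gu : (Module.End K W)ˣ, (gu : Module.End K W) = g :=
    ⟨⟨g, g ^ 6, by rw [← pow_succ', hg7], by rw [← pow_succ, hg7]⟩, rfl⟩
  let G := Subgroup.zpowers gu
  have : Fact (Nat.Prime 7) := ⟨by norm_num⟩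
  have hG : IsPGroup 7 G := by
    rintro ⟨a, k, rfl⟩
    refine ⟨1, Subtype.ext ?_⟩
    show (gu ^ k) ^ (7 ^ 1) = 1
    rw [pow_one, ← zpow_natCast (gu ^ k) 7, ← _root_.zpow_mul, mul_comm, _root_.zpow_mul, zpow_natCast,
      show gu ^ 7 = 1 from Units.ext (by rw [Units.val_pow_eq_pow_val, hgu, hg7, Units.val_one]),
      _root_.one_zpow]
  letI : MulAction G W :=
    { smul := fun a w => ((a : (Module.End K W)ˣ) : Module.End K W) w
      one_smul := fun w => rfl
      mul_smul := fun a b w => rfl }
  have hfix : MulAction.fixedPoints G W = {0} := by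
    ext w
    rw [MulAction.mem_fixedPoints, Set.mem_singleton_iff]
    constructor
    · intro h
      have h1 : g w = w := by rw [← hgu]; exact h ⟨gu, Subgroup.mem_zpowers _⟩
      have h2 : f (w : V) = w := by rw [hgdef] at h1; exact congrArg Subtype.val h1
      exact Subtype.ext ((avg_of_fix h2).symm.trans (LinearMap.mem_ker.mp (hW0 w.2)))
    · rintro rfl a
      exact map_zero ((a : (Module.End K W)ˣ) : Module.End K W)
  have : Finite W := Module.finite_of_finite K
  have h := hG.card_modEq_card_fixedPoints W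
  rw [hfix, Nat.card_eq_fintype_card (α := ({0} : Set W)), Fintype.card_unique,
    Module.natCard_eq_pow_finrank (K := K), Nat.card_eq_fintype_card, hK] at h
  have h3 : 9 ^ (Module.finrank K W % 3) % 7 = 1 := by
    have e : 9 ^ Module.finrank K W % 7 = 9 ^ (Module.finrank K W % 3) % 7 := by
      conv_lhs => rw [← Nat.mod_add_div (Module.finrank K W) 3, pow_add, pow_mul]
      rw [Nat.mul_mod, Nat.pow_mod (9 ^ 3), show 9 ^ 3 % 7 = 1 from rfl, one_pow, show 1 % 7 = 1 from rfl,
        mul_one, Nat.mod_mod]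
    rw [← e]
    exact h
  rcases (show Module.finrank K W % 3 = 0 ∨ Module.finrank K W % 3 = 1 ∨ Module.finrank K W % 3 = 2 by omega)
    with h4 | h4 | h4
  · exact Nat.dvd_of_mod_eq_zero h4
  all_goals (rw [h4] at h3; norm_num at h3)

section Four

variable {V : Type*} [AddCommGroup V] [Module K V] [FiniteDimensional K V] (hV : Module.finrank K V = 4)
  {f : Module.End K V} (hf : f ^ 7 = 1) (hf1 : f ≠ 1)
include hK hV hf hf1

theorem finrank_ker_avg : Module.finrank K (LinearMap.ker (avg f)) = 3 := by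
  have hcomm : ∀ w ∈ LinearMap.ker (avg f), f w ∈ LinearMap.ker (avg f) := by
    intro w hw
    rw [LinearMap.mem_ker, ← Module.End.mul_apply,
      avg_comm f, Module.End.mul_apply, LinearMap.mem_ker.mp hw, map_zero]
  have h := finrank_invariant hK hf hcomm le_rfl
  have hle : Module.finrank K (LinearMap.ker (avg f)) ≤ 4 := hV ▸ Submodule.finrank_le _
  have hne : Module.finrank K (LinearMap.ker (avg f)) ≠ 0 := by
    intro h0
    rw [Submodule.finrank_eq_zero] at h0
    refine hf1 (LinearMap.ext fun v => ?_)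
    have h1 : v - avg f v ∈ LinearMap.ker (avg f) := by
      rw [LinearMap.mem_ker, map_sub, avg_idem hf, sub_self]
    rw [h0, Submodule.mem_bot, sub_eq_zero] at h1
    rw [h1, ← Module.End.mul_apply, mul_avg hf]
    rfl
  omega

theorem finrank_range_avg : Module.finrank K (LinearMap.range (avg f)) = 1 := by
  have h := LinearMap.finrank_range_add_finrank_ker (avg f)
  rw [finrank_ker_avg hK hV hf hf1, hV] at h
  omega

/-- The invariant subspaces of the moved part. -/
theorem eq_ker_of_invariant {W : Submodule K V} (hW : ∀ w ∈ W, f w ∈ W)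
    (hW0 : W ≤ LinearMap.ker (avg f)) (hne : W ≠ ⊥) : W = LinearMap.ker (avg f) := by
  refine Submodule.eq_of_le_of_finrank_le hW0 ?_
  rw [finrank_ker_avg hK hV hf hf1]
  exact Nat.le_of_dvd (Nat.pos_of_ne_zero fun h => hne (Submodule.finrank_eq_zero.mp h))
    (finrank_invariant hK hf hW hW0)

/-- The commutant consists of polynomials. -/
theorem exists_poly {c : Module.End K V} (hc : c * f = f * c) :
    ∃ P : Polynomial K, Polynomial.aeval f P = c := by
  have hk := finrank_ker_avg hK hV hf hf1
  have hr := finrank_range_avg hK hV hf hf1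
  obtain ⟨u, hu, hu0⟩ := (LinearMap.range (avg f)).exists_mem_ne_zero_of_ne_bot
    (fun h => by rw [h, finrank_bot] at hr; omega)
  obtain ⟨w, hw, hw0⟩ := (LinearMap.ker (avg f)).exists_mem_ne_zero_of_ne_bot
    (fun h => by rw [h, finrank_bot] at hk; omega)
  obtain ⟨U, hUdef⟩ : ∃ U : Submodule K V,
      U = LinearMap.range ((LinearMap.applyₗ (u + w)).comp (Polynomial.aeval f).toLinearMap) := ⟨_, rfl⟩
  have hmem : ∀ x, x ∈ U ↔ ∃ P : Polynomial K, Polynomial.aeval f P (u + w) = x := fun x => by
    rw [hUdef]; exact Iff.rfl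
  have hfU : ∀ x ∈ U, f x ∈ U := by
    intro x hx
    obtain ⟨P, rfl⟩ := (hmem x).mp hx
    exact (hmem _).mpr ⟨Polynomial.X * P, by rw [map_mul, Polynomial.aeval_X]; rfl⟩
  have hfu : f u = u := by
    obtain ⟨v, rfl⟩ := hu
    rw [← Module.End.mul_apply, mul_avg hf]
  have huU : u ∈ U := by
    refine (hmem _).mpr ⟨∑ i ∈ Finset.range 7, Polynomial.X ^ i, ?_⟩
    rw [map_sum]
    simp only [map_pow, Polynomial.aeval_X]
    show avg f (u + w) = u
    rw [map_add, avg_of_fix hfu, LinearMap.mem_ker.mp hw, add_zero]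
  have hwU : w ∈ U := by
    have h1 := U.sub_mem ((hmem _).mpr ⟨1, by rw [map_one]; rfl⟩ : u + w ∈ U) huU
    rwa [add_sub_cancel_left] at h1
  have hker : LinearMap.ker (avg f) ≤ U := by
    have h1 : U ⊓ LinearMap.ker (avg f) = LinearMap.ker (avg f) := by
      refine eq_ker_of_invariant hK hV hf hf1 ?_ inf_le_right ?_
      · rintro x ⟨hxU, hxk⟩
        refine ⟨hfU x hxU, ?_⟩
        show avg f (f x) = 0
        rw [← Module.End.mul_apply,
          avg_comm f, Module.End.mul_apply, LinearMap.mem_ker.mp hxk, map_zero]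
      · intro h
        exact hw0 ((Submodule.mem_bot K).mp (h ▸ (⟨hwU, hw⟩ : w ∈ U ⊓ LinearMap.ker (avg f))))
    exact h1 ▸ inf_le_left
  have hrange : LinearMap.range (avg f) ≤ U := by
    rw [← Submodule.eq_of_le_of_finrank_le ((Submodule.span_singleton_le_iff_mem _ _).mpr hu : K ∙ u ≤ _)
      (by rw [hr, finrank_span_singleton hu0])]
    exact (Submodule.span_singleton_le_iff_mem _ _).mpr huU
  have hU : U = ⊤ := eq_top_iff.mpr ((isCompl_avg hf).sup_eq_top ▸ sup_le hrange hker)
  obtain ⟨P, hP⟩ := (hmem (c (u + w))).mp (hU ▸ Submodule.mem_top)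
  refine ⟨P, LinearMap.ext fun x => ?_⟩
  obtain ⟨Q, rfl⟩ := (hmem x).mp (hU ▸ Submodule.mem_top)
  have hcomm : Commute c (Polynomial.aeval f Q) :=
    Algebra.commute_of_mem_adjoin_singleton_of_commute
      (Polynomial.aeval_mem_adjoin_singleton K f) (show Commute c f from hc)
  rw [← Module.End.mul_apply, ← map_mul, mul_comm, map_mul, Module.End.mul_apply, hP,
    ← Module.End.mul_apply c, hcomm.eq, Module.End.mul_apply]

/-- A unimodular map of order dividing four commuting with `f` is a scalar. -/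
theorem exists_scalar {c : Module.End K V} (hc : c * f = f * c) (hc4 : c ^ 4 = 1)
    (hdet : LinearMap.det c = 1) : ∃ z : K, c = z • 1 := by
  have hca : c * avg f = avg f * c :=
    (Commute.sum_right (Finset.range 7) (fun i => f ^ i) c fun i _ => (Commute.pow_right hc i)).eq
  have hck : ∀ w ∈ LinearMap.ker (avg f), c w ∈ LinearMap.ker (avg f) := by
    intro w hw
    rw [LinearMap.mem_ker, ← Module.End.mul_apply, ← hca, Module.End.mul_apply, LinearMap.mem_ker.mp hw,
      map_zero]
  have hk := finrank_ker_avg hK hV hf hf1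
  have hr := finrank_range_avg hK hV hf hf1
  obtain ⟨cW, hcW⟩ : ∃ cW : Module.End K (LinearMap.ker (avg f)), cW = c.restrict hck := ⟨_, rfl⟩
  have hcW4 : Polynomial.aeval cW (Polynomial.X ^ Fintype.card K - Polynomial.X : Polynomial K) = 0 := by
    rw [map_sub, map_pow, Polynomial.aeval_X, hK, sub_eq_zero]
    refine LinearMap.ext fun x => Subtype.ext ?_
    rw [hcW, Module.End.pow_restrict, LinearMap.coe_restrict_apply,
      show (9 : ℕ) = 4 + 4 + 1 from rfl, pow_succ, pow_add, hc4, one_mul, one_mul]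
    rfl
  haveI : Nontrivial (LinearMap.ker (avg f)) := Module.nontrivial_of_finrank_pos (R := K) (by omega)
  obtain ⟨lam, hlam⟩ : ∃ lam : K, Module.End.HasEigenvalue cW lam := by
    have hs : (Polynomial.X ^ Fintype.card K - Polynomial.X : Polynomial K).Splits := by
      rw [Polynomial.splits_iff_card_roots, FiniteField.roots_X_pow_card_sub_X,
        FiniteField.X_pow_card_sub_X_natDegree_eq K Fintype.one_lt_card]
      rfl
    have hint : IsIntegral K cW := Algebra.IsIntegral.isIntegral cW
    have hsplit : (minpoly K cW).Splits :=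
      hs.of_dvd (FiniteField.X_pow_card_sub_X_ne_zero K Fintype.one_lt_card) (minpoly.dvd K cW hcW4)
    obtain ⟨lam, hlam⟩ := hsplit.exists_eval_eq_zero (Polynomial.degree_ne_bot.mpr (minpoly.ne_zero hint) |>
      fun _ => (minpoly.degree_pos hint).ne')
    exact ⟨lam, Module.End.hasEigenvalue_of_isRoot hlam⟩
  obtain ⟨w, hw⟩ := hlam.exists_hasEigenvector
  obtain ⟨W, hWdef⟩ : ∃ W : Submodule K V, W = LinearMap.ker (c - lam • 1) ⊓ LinearMap.ker (avg f) :=
    ⟨_, rfl⟩
  have hWmem : ∀ x, x ∈ W ↔ c x = lam • x ∧ avg f x = 0 := fun x => by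
    rw [hWdef, Submodule.mem_inf, LinearMap.mem_ker, LinearMap.mem_ker, LinearMap.sub_apply, sub_eq_zero]
    exact Iff.rfl
  have hW : W = LinearMap.ker (avg f) := by
    refine eq_ker_of_invariant hK hV hf hf1 (fun x hx => ?_) (hWdef ▸ inf_le_right) fun h => hw.2 ?_
    · obtain ⟨h1, h2⟩ := (hWmem x).mp hx
      refine (hWmem _).mpr ⟨?_, ?_⟩
      · rw [← Module.End.mul_apply, hc, Module.End.mul_apply, h1, map_smul]
      · rw [← Module.End.mul_apply,
          avg_comm f, Module.End.mul_apply, h2, map_zero]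
    · have h1 : (w : V) ∈ W := (hWmem _).mpr
        ⟨by have := hw.apply_eq_smul; rw [hcW] at this; exact congrArg Subtype.val this, w.2⟩
      rw [h, Submodule.mem_bot] at h1
      exact Subtype.ext h1
  obtain ⟨u, hu, hu0⟩ := (LinearMap.range (avg f)).exists_mem_ne_zero_of_ne_bot
    (fun h => by rw [h, finrank_bot] at hr; omega)
  have hspan : K ∙ u = LinearMap.range (avg f) :=
    Submodule.eq_of_le_of_finrank_le ((Submodule.span_singleton_le_iff_mem _ _).mpr hu)
      (by rw [hr, finrank_span_singleton hu0])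
  obtain ⟨mu, hmu⟩ : ∃ mu : K, mu • u = c u := by
    rw [← Submodule.mem_span_singleton, hspan]
    obtain ⟨v, rfl⟩ := hu
    exact ⟨c v, by rw [← Module.End.mul_apply, ← hca]; rfl⟩
  have hrfix : ∀ x ∈ LinearMap.range (avg f), c x = mu • x := by
    intro x hx
    obtain ⟨a, rfl⟩ := Submodule.mem_span_singleton.mp (hspan ▸ hx : x ∈ K ∙ u)
    rw [map_smul, ← hmu, smul_comm]
  let E := Submodule.prodEquivOfIsCompl _ _ (isCompl_avg hf)
  have hconj : c = E.toLinearMap ∘ₗ
      LinearMap.prodMap (mu • LinearMap.id) (lam • LinearMap.id) ∘ₗ E.symm.toLinearMap := by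
    refine LinearMap.ext fun x => ?_
    obtain ⟨⟨a, b⟩, rfl⟩ := E.surjective x
    rw [LinearMap.comp_apply, LinearMap.comp_apply, LinearEquiv.coe_coe, LinearEquiv.coe_coe,
      LinearEquiv.symm_apply_apply]
    simp only [LinearMap.prodMap_apply,
      LinearMap.smul_apply, LinearMap.id_apply, E, Submodule.coe_prodEquivOfIsCompl', map_add, SetLike.val_smul]
    rw [hrfix _ a.2, ((hWmem _).mp (hW.symm ▸ b.2 : (b : V) ∈ W)).1]
  have hd := hdet
  rw [hconj, LinearMap.det_conj, LinearMap.det_prodMap, LinearMap.det_smul, LinearMap.det_smul,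
    LinearMap.det_id, LinearMap.det_id, hr, hk, mul_one, mul_one, pow_one] at hd
  have hl4 : lam ^ 4 = 1 := by
    have h1 : ∀ i : ℕ, (c ^ i) (w : V) = lam ^ i • (w : V) := fun i => by
      induction i with
      | zero => simp
      | succ i ih =>
        have hcw : c (w : V) = lam • (w : V) := by
          have := hw.apply_eq_smul; rw [hcW] at this; exact congrArg Subtype.val this
        rw [pow_succ, Module.End.mul_apply, hcw, map_smul, ih, smul_smul, ← pow_succ']
    have h2 := h1 4
    rw [hc4, Module.End.one_apply] at h2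
    have h3 : (lam ^ 4 - 1) • (w : V) = 0 := by rw [sub_smul, one_smul, ← h2, sub_self]
    exact sub_eq_zero.mp ((smul_eq_zero.mp h3).resolve_right fun h => hw.2 (Subtype.ext h))
  have hml : mu = lam := by linear_combination lam * hd - mu * hl4
  refine ⟨lam, ?_⟩
  rw [hconj, hml]
  refine LinearMap.ext fun x => ?_
  obtain ⟨⟨a, b⟩, rfl⟩ := E.surjective x
  simp [E, smul_add]

end Four

end CfsgLib.UFourThree82
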